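import Cfsg.Agent.Lib.Invol.AbelianCentralizers.SLTwo
import Cfsg.Agent.Lib.Spec.SLTwo
import Mathlib

/-!
# The torus of `PSL₂(2^a)` on a Sylow two-subgroup

A Sylow two-subgroup of `PSL₂` over a field of `2^a` elements is elementary of order `2^a`, an element
of its normaliser is transitive on its involutions, and centralisers of involutions are soluble.
-/

set_option autoImplicit false
set_option linter.unusedSectionVars false
set_option linter.style.haveILetI false

namespace Cfsg.Lib.WalterBig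

open Subgroup Matrix
open scoped MatrixGroups

section SL

variable {F : Type*} [Field F]

/-- The upper unitriangular matrix. -/
def uni (b : F) : SL(2, F) := ⟨!![1, b; 0, 1], by simp [Matrix.det_fin_two]⟩

theorem uni_val (b : F) : (uni b).1 = !![1, b; 0, 1] := rfl

theorem uni_add (a b : F) : uni (a + b) = uni a * uni b := by
  apply Subtype.ext
  rw [Matrix.SpecialLinearGroup.coe_mul, uni_val, uni_val, uni_val]
  ext i j
  fin_cases i <;> fin_cases j <;> simp [Matrix.mul_apply, Fin.sum_univ_two, add_comm]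

theorem uni_injective : Function.Injective (uni : F → SL(2, F)) := fun a b h => by
  simpa [uni_val] using congrArg (fun M : SL(2, F) => M.1 0 1) h

theorem uni_zero : uni (0 : F) = 1 := by
  apply Subtype.ext
  rw [Matrix.SpecialLinearGroup.coe_one, uni_val]
  ext i j
  fin_cases i <;> fin_cases j <;> simp

/-- The subgroup of upper unitriangular matrices. -/
def uniGroup (F : Type*) [Field F] : Subgroup SL(2, F) where
  carrier := Set.range uni
  mul_mem' := fun {_ _} ⟨a, ha⟩ ⟨b, hb⟩ => ⟨a + b, by rw [uni_add, ha, hb]⟩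
  one_mem' := ⟨0, uni_zero⟩
  inv_mem' := fun {_} ⟨a, ha⟩ => ⟨-a, by
    rw [← ha, eq_inv_iff_mul_eq_one, ← uni_add, neg_add_cancel, uni_zero]⟩

theorem card_uniGroup : Nat.card (uniGroup F) = Nat.card F :=
  (Nat.card_congr (Equiv.ofInjective _ uni_injective)).symm

theorem uni_sq [CharP F 2] (b : F) : uni b * uni b = 1 := by
  rw [← uni_add, CharTwo.add_self_eq_zero, uni_zero]

/-- The diagonal matrix. -/
def torus (μ : Fˣ) : SL(2, F) := ⟨!![(μ : F), 0; 0, ((μ⁻¹ : Fˣ) : F)], by simp [Matrix.det_fin_two]⟩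

theorem torus_pow (μ : Fˣ) (i : ℕ) : torus μ ^ i = torus (μ ^ i) := by
  induction i with
  | zero =>
    apply Subtype.ext
    rw [pow_zero, pow_zero, Matrix.SpecialLinearGroup.coe_one]
    ext j k
    fin_cases j <;> fin_cases k <;> simp [torus]
  | succ i ih =>
    apply Subtype.ext
    rw [pow_succ, ih, pow_succ, Matrix.SpecialLinearGroup.coe_mul]
    ext j k
    fin_cases j <;> fin_cases k <;> simp [torus, Matrix.mul_apply, Fin.sum_univ_two, mul_comm]

theorem torus_conj (μ : Fˣ) (b : F) : torus μ * uni b * (torus μ)⁻¹ = uni ((μ : F) * μ * b) := by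
  rw [mul_inv_eq_iff_eq_mul]
  apply Subtype.ext
  rw [Matrix.SpecialLinearGroup.coe_mul, Matrix.SpecialLinearGroup.coe_mul]
  ext i j
  fin_cases i <;> fin_cases j <;> simp [torus, uni_val, Matrix.mul_apply, Fin.sum_univ_two] <;>
    field_simp

variable [Fintype F] [CharP F 2]

theorem exists_torus : ∃ x ∈ normalizer (uniGroup F : Set SL(2, F)), ∀ v ∈ uniGroup F, v ≠ 1 →
    ∀ w ∈ uniGroup F, w ≠ 1 → ∃ i : ℕ, x ^ i * v * (x ^ i)⁻¹ = w := by
  obtain ⟨g, hg⟩ := IsCyclic.exists_monoid_generator (α := Fˣ)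
  refine ⟨torus g, mem_normalizer_iff.2 fun v => ⟨?_, ?_⟩, ?_⟩
  · rintro ⟨b, rfl⟩
    exact ⟨_, (torus_conj g b).symm⟩
  · rintro ⟨b, hb⟩
    refine ⟨((g : F) * g)⁻¹ * b, (mul_left_cancel (a := torus g) (mul_right_cancel (b := (torus g)⁻¹) ?_))⟩
    rw [torus_conj, ← mul_assoc ((g : F) * g), mul_inv_cancel₀ (mul_ne_zero g.ne_zero g.ne_zero), one_mul]
    exact hb
  · rintro - ⟨b, rfl⟩ hb - ⟨d, rfl⟩ hd
    have hb0 : b ≠ 0 := fun e => hb (by rw [e, uni_zero])
    have hd0 : d ≠ 0 := fun e => hd (by rw [e, uni_zero])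
    obtain ⟨r, hr⟩ := (frobenius_bijective_aux (d / b) : ∃ r : F, r * r = d / b)
    have hr0 : r ≠ 0 := fun e => div_ne_zero hd0 hb0 (by rw [← hr, e, mul_zero])
    obtain ⟨i, hi⟩ := Submonoid.mem_powers_iff _ _ |>.1 (hg (Units.mk0 r hr0))
    refine ⟨i, ?_⟩
    rw [torus_pow, torus_conj, hi, Units.val_mk0, hr, div_mul_cancel₀ _ hb0]
where
  frobenius_bijective_aux : ∀ y : F, ∃ r : F, r * r = y := fun y => by
    have hinj : Function.Injective fun r : F => r * r := fun a b h => by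
      simp only [← pow_two] at h
      exact CharTwo.sq_inj.mp h
    exact Finite.injective_iff_surjective.1 hinj y

/-- The unitriangular matrices form a Sylow two-subgroup. -/
theorem isSylow_uniGroup {a : ℕ} (hF : Fintype.card F = 2 ^ a) :
    ∃ P : Sylow 2 SL(2, F), (P : Subgroup SL(2, F)) = uniGroup F := by
  classical
  haveI : Fact (Nat.Prime 2) := ⟨Nat.prime_two⟩
  have hp : IsPGroup 2 (uniGroup F) := IsPGroup.of_card (n := a) (by rw [card_uniGroup, Nat.card_eq_fintype_card, hF])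
  refine ⟨{ uniGroup F with isPGroup' := hp, is_maximal' := fun {Q} hQ hle => le_antisymm ?_ hle }, rfl⟩
  have ht1 : uni (1 : F) ≠ 1 := fun e => one_ne_zero (uni_injective (e.trans uni_zero.symm))
  haveI : Nontrivial Q := ⟨⟨uni 1, hle ⟨1, rfl⟩⟩, 1, fun e => ht1 (congrArg Subtype.val e)⟩
  haveI := hQ.center_nontrivial
  obtain ⟨z, hz⟩ := exists_ne (1 : center Q)
  obtain ⟨k, hk⟩ := hQ (z : Q)
  -- some power of a central element is an involution
  obtain ⟨w, hwc, hw2, hw1⟩ : ∃ w : Q, w ∈ center Q ∧ w ^ 2 = 1 ∧ w ≠ 1 := by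
    have hne : orderOf (z : Q) ≠ 1 := fun e => hz (Subtype.ext (orderOf_eq_one_iff.1 e))
    obtain ⟨j, -, hj⟩ := (Nat.dvd_prime_pow Nat.prime_two).1 (orderOf_dvd_of_pow_eq_one hk)
    obtain ⟨j, rfl⟩ : ∃ i, j = i + 1 := Nat.exists_eq_add_one.2 (Nat.pos_of_ne_zero fun e => hne (by rw [hj, e, pow_zero]))
    refine ⟨(z : Q) ^ 2 ^ j, Subgroup.pow_mem _ z.2 _, by rw [← pow_mul, ← pow_succ, ← hj, pow_orderOf_eq_one], ?_⟩
    intro e
    have := Nat.le_of_dvd (pow_pos two_pos j) (orderOf_dvd_of_pow_eq_one e)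
    rw [hj, pow_succ] at this
    have := pow_pos (two_pos (α := ℕ)) j
    omega
  have hsq : ∀ x ∈ Q, x * x = 1 := fun x hx => by
    rw [← pow_two]
    refine Cfsg.Lib.Invol.AC.sq_eq_one_of_commute (M := (w : SL(2, F))) ?_ (fun e => hw1 (Subtype.ext e))
      (congrArg Subtype.val ((Subgroup.mem_center_iff.1 hwc) ⟨x, hx⟩)).symm
    rw [← SubmonoidClass.coe_pow, hw2]; rfl
  intro x hx
  have hcomm : x * uni 1 = uni 1 * x := by
    have h1 := hsq _ (Q.mul_mem hx (hle ⟨1, rfl⟩))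
    calc x * uni 1 = (x * uni 1)⁻¹ := (inv_eq_of_mul_eq_one_right h1).symm
      _ = (uni 1)⁻¹ * x⁻¹ := mul_inv_rev _ _
      _ = uni 1 * x := by rw [inv_eq_of_mul_eq_one_right (uni_sq 1), inv_eq_of_mul_eq_one_right (hsq x hx)]
  have e : ∀ i j : Fin 2, (x.1 * (uni (1 : F)).1) i j = ((uni (1 : F)).1 * x.1) i j := fun i j => by
    rw [← Matrix.SpecialLinearGroup.coe_mul, hcomm, Matrix.SpecialLinearGroup.coe_mul]
  have e00 := e 0 0
  have e01 := e 0 1
  simp [uni_val, Matrix.mul_apply, Fin.sum_univ_two] at e00 e01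
  have h10 : x.1 1 0 = 0 := e00
  have h11 : x.1 0 0 = x.1 1 1 := by linear_combination e01
  have hd := Cfsg.Lib.Invol.AC.entries x
  rw [h10, mul_zero, add_zero, ← h11, ← pow_two] at hd
  have h00 : x.1 0 0 = 1 := CharTwo.sq_inj.mp (hd.trans (one_pow 2).symm)
  refine ⟨x.1 0 1, Subtype.ext ?_⟩
  ext i j
  fin_cases i <;> fin_cases j <;> simp [uni_val, h10, h00, ← h11]

end SL

/-- The structure of a Sylow two-subgroup of a group isomorphic to `PSL₂(2^a)`. -/
theorem psl_two_torus {L : Type*} [Group L] [Finite L] {F : Type*} [Field F] [Fintype F] {a : ℕ}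
    (hF : Fintype.card F = 2 ^ a) (e : L ≃* Matrix.ProjectiveSpecialLinearGroup (Fin 2) F) (S : Sylow 2 L) :
    (∀ v ∈ (S : Subgroup L), v * v = 1) ∧ Nat.card (S : Subgroup L) = 2 ^ a ∧
      (∃ x ∈ normalizer ((S : Subgroup L) : Set L), ∀ v ∈ (S : Subgroup L), v ≠ 1 → ∀ w ∈ (S : Subgroup L),
        w ≠ 1 → ∃ i : ℕ, x ^ i * v * (x ^ i)⁻¹ = w) ∧
      ∀ t : L, t * t = 1 → t ≠ 1 → Group.IsSolvable (centralizer ({t} : Set L)) := by
  classical
  haveI : Fact (Nat.Prime 2) := ⟨Nat.prime_two⟩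
  haveI : CharP F 2 := charP_of_card_eq_prime_pow hF
  let f : L ≃* SL(2, F) := e.trans Cfsg.Lib.Spec.pslEquivOfCharTwo
  obtain ⟨P, hP⟩ := isSylow_uniGroup hF
  have hS' : ∃ g : SL(2, F), ∀ v : L, v ∈ (S : Subgroup L) ↔ g * f v * g⁻¹ ∈ uniGroup F := by
    obtain ⟨g, hg⟩ := MulAction.exists_smul_eq SL(2, F) (S.mapSurjective (f := f.toMonoidHom) f.surjective) P
    refine ⟨g, fun v => ?_⟩
    have hc : ((S.mapSurjective (f := f.toMonoidHom) f.surjective) : Subgroup SL(2, F))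
        = (S : Subgroup L).map f.toMonoidHom := rfl
    rw [← hP, ← hg, Sylow.coe_subgroup_smul, Subgroup.mem_pointwise_smul_iff_inv_smul_mem]
    refine Iff.trans ?_ (iff_of_eq (congrArg (fun K : Subgroup SL(2, F) => _ ∈ K) hc.symm))
    simp [MulAut.smul_def, mul_assoc]
  obtain ⟨g, hS⟩ := hS'
  let f' : L ≃* SL(2, F) := f.trans (MulAut.conj g)
  have hS : ∀ v : L, v ∈ (S : Subgroup L) ↔ f' v ∈ uniGroup F := hS
  obtain ⟨x, hx, htr⟩ := exists_torus (F := F)
  refine ⟨fun v hv => f'.injective ?_, ?_, ⟨f'.symm x, ?_, fun v hv hv1 w hw hw1 => ?_⟩, fun t ht ht1 => ?_⟩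
  · obtain ⟨b, hb⟩ := (hS v).1 hv
    rw [map_mul, map_one, ← hb, uni_sq]
  · rw [← hF, ← Nat.card_eq_fintype_card, ← card_uniGroup (F := F)]
    exact Nat.card_congr (Equiv.subtypeEquiv f'.toEquiv hS)
  · refine mem_normalizer_iff.2 fun v => ?_
    simp only [SetLike.mem_coe, hS, map_mul, map_inv, MulEquiv.apply_symm_apply]
    exact mem_normalizer_iff.1 hx (f' v)
  · obtain ⟨i, hi⟩ := htr _ ((hS v).1 hv) (fun e' => hv1 (f'.injective (e'.trans (map_one f').symm))) _
      ((hS w).1 hw) (fun e' => hw1 (f'.injective (e'.trans (map_one f').symm)))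
    exact ⟨i, f'.injective (by simpa only [map_mul, map_inv, map_pow, MulEquiv.apply_symm_apply] using hi)⟩
  · have hsq : ∀ y : centralizer ({t} : Set L), y * y = 1 := fun y => by
      apply Subtype.ext
      apply f.injective
      rw [Subgroup.coe_mul, map_mul, Subgroup.coe_one, map_one, ← pow_two]
      refine Cfsg.Lib.Invol.AC.sq_eq_one_of_commute (M := f t) (by rw [pow_two, ← map_mul, ht, map_one])
        (fun e' => ht1 (f.injective (e'.trans (map_one f).symm))) ?_
      rw [← map_mul, ← map_mul, mem_centralizer_iff.1 y.2 t rfl]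
    refine Group.isSolvable_of_comm fun p q => ?_
    calc p * q = (p * q)⁻¹ := (inv_eq_of_mul_eq_one_right (hsq _)).symm
      _ = q⁻¹ * p⁻¹ := mul_inv_rev _ _
      _ = q * p := by rw [inv_eq_of_mul_eq_one_right (hsq p), inv_eq_of_mul_eq_one_right (hsq q)]

end Cfsg.Lib.WalterBig
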