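import Cfsg.Agent.Lib.WalterBig.Irreducible
import Cfsg.Agent.Lib.WalterBig.Torus
import Cfsg.Agent.Lib.AbTwo.Basic
import Cfsg.Agent.Lib.Linear.PSLSmall

/-!
# The inductive setting

The conclusion, the inductive hypothesis, and its consequences for simple groups of smaller order.
-/

set_option autoImplicit false
set_option linter.unusedSectionVars false
set_option linter.style.haveILetI false

namespace Cfsg.Lib.WalterBig

open Subgroup Cfsg.Lib

universe u

/-- Being `PSL₂` over a field with `2^a ≥ 4` elements. -/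
def IsPSLTwoPow (G : Type u) [Group G] : Prop :=
  ∃ (a : ℕ) (F : Type) (_ : Field F) (_ : Fintype F), 2 ≤ a ∧ Fintype.card F = 2 ^ a ∧
    Nonempty (G ≃* Matrix.ProjectiveSpecialLinearGroup (Fin 2) F)

/-- The theorem for groups of order less than `n`. -/
def Below (n : ℕ) : Prop :=
  ∀ (J : Type u) [Group J] [Finite J] [IsSimpleGroup J], Nat.card J < n → ¬ IsMulCommutative J →
    ∀ T : Sylow 2 J, IsMulCommutative ↥(T : Subgroup J) →
      (¬ (∀ v ∈ (T : Subgroup J), v * v = 1) ∨ 16 ≤ Nat.card (T : Subgroup J)) → IsPSLTwoPow J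

variable {G : Type u} [Group G] [Finite G] [IsSimpleGroup G]

theorem not_hasNormalPComplement (hna : ¬ IsMulCommutative G) (S : Sylow 2 G)
    (hS : IsMulCommutative ↥(S : Subgroup G)) : ¬ Cfsg.HasNormalPComplement 2 G := by
  haveI : Fact (Nat.Prime 2) := ⟨Nat.prime_two⟩
  rintro ⟨P, K, hK, hc⟩
  rcases IsSimpleGroup.eq_bot_or_eq_top_of_normal K hK with rfl | rfl
  · have htop : (P : Subgroup G) = ⊤ := isComplement'_bot_left.1 hc
    have := AbTwo.abelian_of_one S hS P
    exact hna ⟨⟨fun a b => AbTwo.comm_of_mem this (htop ▸ mem_top a) (htop ▸ mem_top b)⟩⟩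
  · have hbot : (P : Subgroup G) = ⊥ := isComplement'_top_left.1 hc
    have hodd : Odd (Nat.card G) := by
      have h := P.not_dvd_index
      rw [hbot, index_bot] at h
      exact Nat.not_even_iff_odd.1 fun he => h (even_iff_two_dvd.1 he)
    haveI := Cfsg.Agent.S0205.result hodd
    exact hna ⟨⟨fun a b => (IsSimpleGroup.comm_iff_isSolvable.mpr inferInstance) a b⟩⟩

theorem four_le_card (hna : ¬ IsMulCommutative G) (S : Sylow 2 G) (hS : IsMulCommutative ↥(S : Subgroup G)) :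
    4 ≤ Nat.card (S : Subgroup G) := by
  classical
  haveI : Fact (Nat.Prime 2) := ⟨Nat.prime_two⟩
  by_contra hlt
  obtain ⟨k, hk⟩ := S.isPGroup'.exists_card_eq
  have hk2 : Nat.card (S : Subgroup G) ≤ 2 := by
    rw [hk] at hlt ⊢
    rcases k with _ | _ | k
    · norm_num
    · norm_num
    · exact absurd (Nat.pow_le_pow_right two_pos (show 2 ≤ k + 1 + 1 by omega)) hlt
  refine not_hasNormalPComplement hna S hS (Fusion.hasNormalPComplement_of_normalizer_le_centralizer S fun g hg =>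
    mem_centralizer_iff.2 fun v hv => ?_)
  rcases eq_or_ne v 1 with rfl | hv1
  · simp
  have hgv : g * v * g⁻¹ ∈ (S : Subgroup G) := (mem_normalizer_iff.1 hg v).1 hv
  have hne : g * v * g⁻¹ ≠ 1 := fun e => hv1 (conj_eq_one_iff.1 e)
  have e : g * v * g⁻¹ = v := by
    by_contra hne'
    haveI := Fintype.ofFinite (S : Subgroup G)
    rw [Nat.card_eq_fintype_card] at hk2
    have h3 := Finset.card_le_univ ({1, ⟨v, hv⟩, ⟨_, hgv⟩} : Finset (S : Subgroup G))
    rw [Finset.card_insert_of_notMem (by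
        simp [Subtype.ext_iff, Ne.symm hv1, Ne.symm hne]),
      Finset.card_insert_of_notMem (by simp [Subtype.ext_iff, Ne.symm hne']), Finset.card_singleton] at h3
    omega
  exact (mul_inv_eq_iff_eq_mul.1 e).symm

/-- If the Sylow subgroup is not elementary then each of its involutions is a square in it. -/
theorem exists_sqrt (hna : ¬ IsMulCommutative G) (S : Sylow 2 G) (hS : IsMulCommutative ↥(S : Subgroup G))
    (hne : ¬ ∀ v ∈ (S : Subgroup G), v * v = 1) :
    ∀ v ∈ (S : Subgroup G), v * v = 1 → ∃ y ∈ (S : Subgroup G), y * y = v := by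
  haveI : Fact (Nat.Prime 2) := ⟨Nat.prime_two⟩
  let Q : Subgroup G :=
    { carrier := {z | ∃ y ∈ (S : Subgroup G), y * y = z}
      one_mem' := ⟨1, one_mem _, one_mul 1⟩
      mul_mem' := by
        rintro _ _ ⟨a, ha, rfl⟩ ⟨b, hb, rfl⟩
        exact ⟨a * b, mul_mem ha hb, Commute.mul_mul_mul_comm (AbTwo.comm_of_mem hS hb ha) a b⟩
      inv_mem' := by
        rintro _ ⟨a, ha, rfl⟩
        exact ⟨a⁻¹, inv_mem ha, (mul_inv_rev a a).symm⟩ }
  set U := Q ⊓ AbTwo.omega (S : Subgroup G) hS with hU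
  have hU2 : ∀ u ∈ U, u * u = 1 := fun u hu => by rw [← pow_two]; exact hu.2.2
  rcases irreducible hna S hS U (fun u hu => hu.2.1) hU2 (fun g hg u hu => by
    obtain ⟨⟨y, hy, rfl⟩, huS, hu2⟩ := hu
    refine ⟨⟨g * y * g⁻¹, (mem_normalizer_iff.1 hg y).1 hy, by group⟩,
      (mem_normalizer_iff.1 hg _).1 huS, ?_⟩
    rw [conj_pow, hu2, mul_one, mul_inv_cancel]) with h | h
  · exfalso
    push Not at hne
    obtain ⟨y, hy, hy2⟩ := hne
    have hQS : Q ≤ S := by rintro _ ⟨a, ha, rfl⟩; exact mul_mem ha ha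
    have hQne : Q ≠ ⊥ := fun e => hy2 (mem_bot.1 (e ▸ (⟨y, hy, rfl⟩ : y * y ∈ Q)))
    obtain ⟨k, hk⟩ := (S.2.to_le hQS).exists_card_eq
    have hk0 : k ≠ 0 := fun e => hQne (Q.eq_bot_of_card_eq (by rw [hk, e, pow_zero]))
    obtain ⟨z, hz⟩ := exists_prime_orderOf_dvd_card' (G := Q) 2 (hk ▸ dvd_pow_self 2 hk0)
    have hmem : (z : G) ∈ U := ⟨z.2, hQS z.2, by
      rw [← hz, ← Subgroup.orderOf_coe, pow_orderOf_eq_one]⟩
    rw [h, mem_bot] at hmem
    rw [← Subgroup.orderOf_coe, hmem, orderOf_one] at hz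
    omega
  · exact fun v hv hv2 => (h v hv hv2).1

/-- What the inductive hypothesis gives for a smaller simple group. -/
theorem section_facts {n : ℕ} (ih : Below.{u} n) (hn : Nat.card G < n) (hna : ¬ IsMulCommutative G) (S : Sylow 2 G)
    (hS : IsMulCommutative ↥(S : Subgroup G)) :
    (∀ v ∈ (S : Subgroup G), v * v = 1) ∧ 4 ≤ Nat.card (S : Subgroup G) ∧
      (∃ x ∈ normalizer ((S : Subgroup G) : Set G), ∀ v ∈ (S : Subgroup G), v ≠ 1 → ∀ w ∈ (S : Subgroup G),
        w ≠ 1 → ∃ i : ℕ, x ^ i * v * (x ^ i)⁻¹ = w) ∧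
      (16 ≤ Nat.card (S : Subgroup G) → ∀ t : G, t * t = 1 → t ≠ 1 →
        Group.IsSolvable (centralizer ({t} : Set G))) := by
  haveI : Fact (Nat.Prime 2) := ⟨Nat.prime_two⟩
  have hel : ∀ v ∈ (S : Subgroup G), v * v = 1 := by
    by_contra hne
    obtain ⟨a, F, i, j, -, hF, ⟨e⟩⟩ := ih G hn hna S hS (Or.inl hne)
    exact hne (psl_two_torus hF e S).1
  have h4 := four_le_card hna S hS
  by_cases h16 : 16 ≤ Nat.card (S : Subgroup G)
  · obtain ⟨a, F, i, j, -, hF, ⟨e⟩⟩ := ih G hn hna S hS (Or.inr h16)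
    obtain ⟨-, -, hx, hsol⟩ := psl_two_torus hF e S
    exact ⟨hel, h4, hx, fun _ => hsol⟩
  · refine ⟨hel, h4, exists_transitive hna S hS hel ?_, fun h => absurd h h16⟩
    obtain ⟨k, hk⟩ := S.isPGroup'.exists_card_eq
    rw [hk] at h4 h16 ⊢
    rcases k with _ | _ | _ | _ | k
    · norm_num at h4
    · norm_num at h4
    · norm_num
    · norm_num
    · exact absurd (Nat.pow_le_pow_right two_pos (show 4 ≤ k + 1 + 1 + 1 + 1 by omega)) h16

/-- Among the groups `PSL(2, q)` only those of even characteristic have a large Sylow two-subgroup. -/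
theorem pslTwoPow_of_good (hna : ¬ IsMulCommutative G) (S : Sylow 2 G) (hS : IsMulCommutative ↥(S : Subgroup G))
    (hbig : ¬ (∀ v ∈ (S : Subgroup G), v * v = 1) ∨ 16 ≤ Nat.card (S : Subgroup G))
    (h : AbTwo.IsGoodPSL G) : IsPSLTwoPow G := by
  haveI : Fact (Nat.Prime 2) := ⟨Nat.prime_two⟩
  obtain ⟨F, i, j, hq | ⟨n, hn, hn2⟩, he⟩ := h
  swap
  · exact ⟨n, F, i, j, hn, hn2, he⟩
  exfalso
  obtain ⟨e⟩ := he
  obtain ⟨hq, hq5⟩ := hq
  have hc := Linear.Two.card_PSL_two (F := F)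
  rw [← Nat.card_congr e.toEquiv] at hc
  have hdvd : Nat.card (S : Subgroup G) ∣ Nat.card G := card_subgroup_dvd_card _
  generalize Fintype.card F = q at hc hq hq5
  have hg : Nat.gcd 2 (q - 1) = 2 := Nat.gcd_eq_left (by omega)
  rw [hg] at hc
  have h8 : ¬ 8 ∣ Nat.card G := by
    intro hd
    have h16 : 16 ∣ q * (q ^ 2 - 1) := hc ▸ mul_dvd_mul_left 2 hd
    have h16' : 16 ∣ q ^ 2 - 1 := by
      refine (Nat.Coprime.dvd_mul_left ?_).1 h16
      exact Nat.Coprime.pow_left 4 (Nat.coprime_two_left.2 (Nat.odd_iff.2 (by omega)))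
    obtain ⟨c, hc'⟩ : ∃ c, q = 8 * c + q % 8 := ⟨q / 8, by omega⟩
    rcases hq with hq | hq <;> rw [hq] at hc' <;> subst hc'
    · rw [show (8 * c + 3) ^ 2 = 16 * (4 * c * c + 3 * c) + 9 by ring] at h16'
      omega
    · rw [show (8 * c + 5) ^ 2 = 16 * (4 * c * c + 5 * c + 1) + 9 by ring] at h16'
      omega
  obtain ⟨k, hk⟩ := S.isPGroup'.exists_card_eq
  have hk3 : k ≤ 2 := by
    by_contra hk3
    exact h8 (((pow_dvd_pow 2 (show 3 ≤ k by omega)).trans hk.symm.dvd).trans hdvd)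
  rcases hbig with hne | h16
  · push Not at hne
    obtain ⟨y, hy, hy2⟩ := hne
    refine not_hasNormalPComplement hna S hS ?_
    have ho : orderOf (⟨y, hy⟩ : (S : Subgroup G)) = Nat.card (S : Subgroup G) := by
      have hd := orderOf_dvd_natCard (⟨y, hy⟩ : (S : Subgroup G))
      rw [hk] at hd ⊢
      obtain ⟨j, hj, e⟩ := (Nat.dvd_prime_pow Nat.prime_two).1 hd
      rcases (show j ≤ 1 ∨ j = 2 by omega) with hj1 | rfl
      · exfalso
        have : (⟨y, hy⟩ : (S : Subgroup G)) ^ 2 = 1 :=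
          orderOf_dvd_iff_pow_eq_one.1 (e ▸ (pow_dvd_pow 2 hj1).trans (pow_one 2).dvd)
        exact hy2 (by simpa [pow_two] using congrArg Subtype.val this)
      · rw [e, show k = 2 by omega]
    haveI : IsCyclic ↥(S : Subgroup G) := isCyclic_of_orderOf_eq_card _ ho
    refine Fusion.hasNormalPComplement_of_normalizer_le_centralizer S ((inferInstance : IsCyclic ↥(S : Subgroup G)).normalizer_le_centralizer ?_)
    refine le_antisymm (Nat.minFac_le_of_dvd le_rfl (Nat.dvd_trans ?_ (orderOf_dvd_natCard y))) ?_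
    · rw [← Subgroup.orderOf_mk y hy, ho, hk]
      refine dvd_pow_self 2 fun hk0 => ?_
      rw [hk0] at hk
      have : (⟨y, hy⟩ : (S : Subgroup G)) = 1 := orderOf_eq_one_iff.1 (ho.trans (hk.trans (pow_zero 2)))
      exact hy2 (by rw [show y = 1 from congrArg Subtype.val this, one_mul])
    · exact (Nat.minFac_prime (Finite.one_lt_card).ne').two_le
  · rw [hk] at h16
    have := Nat.pow_le_pow_right two_pos hk3
    omega

end Cfsg.Lib.WalterBig
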