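import Cfsg.Agent.Lib.Core.Layer
import Cfsg.Agent.Lib.Fusion.Abelian
import Cfsg.Agent.Lib.ZStar.Main
import Cfsg.Agent.Lib.Local.SubnormalSylow
import Cfsg.Agent.S0205

/-!
# Groups with trivial core and an abelian Sylow two-subgroup

The components are simple and normalized by the Sylow subgroup, which splits over each of them; their
product with the two-core is a normal subgroup of odd index.
-/

set_option autoImplicit false
set_option linter.unusedSectionVars false
set_option linter.unusedVariables false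
set_option linter.style.haveILetI false

namespace Cfsg.Lib.WalterBig

open Subgroup Cfsg.Lib

universe u

theorem isSolvable_of_odd_card {H : Type u} [Group H] [Finite H] (h : Odd (Nat.card H)) : Group.IsSolvable H :=
  Cfsg.Agent.S0205.result h

theorem fact_two : Fact (Nat.Prime 2) := ⟨Nat.prime_two⟩

/-- A nontrivial two-group has an involution. -/
theorem exists_sq_one {H : Type u} [Group H] [Finite H] {A : Subgroup H} (hA : IsPGroup 2 A) (hne : A ≠ ⊥) :
    ∃ z ∈ A, z * z = 1 ∧ z ≠ 1 := by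
  haveI := fact_two
  haveI : Nontrivial A := (nontrivial_iff_ne_bot A).mpr hne
  obtain ⟨k, hk0, hk⟩ := hA.nontrivial_iff_card.mp inferInstance
  obtain ⟨z, hz⟩ := exists_prime_orderOf_dvd_card' 2 (show 2 ∣ Nat.card A from hk ▸ dvd_pow_self 2 hk0.ne')
  refine ⟨z, z.2, ?_, fun e => ?_⟩
  · exact congrArg Subtype.val (show z * z = 1 by rw [← sq, ← hz, pow_orderOf_eq_one])
  · rw [show z = 1 from Subtype.ext e, orderOf_one] at hz
    omega

/-- An extension of a simple group by a two-group, with abelian Sylow subgroups and trivial centralizer,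
is the simple group. -/
theorem sylow_le_of_simple {M : Type u} [Group M] [Finite M] (S : Sylow 2 M)
    (hS : IsMulCommutative ↥(S : Subgroup M)) (K : Subgroup M) [K.Normal] [IsSimpleGroup ↥K]
    (hC : centralizer (K : Set M) = ⊥) (hgen : K ⊔ (S : Subgroup M) = ⊤) : (S : Subgroup M) ≤ K := by
  haveI := fact_two
  haveI := hS
  -- no odd core
  have hO : Cfsg.oddCore M = ⊥ := by
    set O := Cfsg.oddCore M
    haveI : O.Normal := inferInstanceAs (Cfsg.pPrimeCore 2 M).Normal
    rcases IsSimpleGroup.eq_bot_or_eq_top_of_normal (O.subgroupOf K) inferInstance with h | h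
    · rw [subgroupOf_eq_bot, disjoint_iff] at h
      refine le_bot_iff.mp (hC ▸ ?_)
      rw [← commutator_eq_bot_iff_le_centralizer, eq_bot_iff, ← h]
      exact commutator_le_inf O K
    · rw [subgroupOf_eq_top] at h
      exfalso
      have hodd : Odd (Nat.card O) := Nat.coprime_two_right.1 (Core.pPrimeCore_coprime 2 M)
      have hKodd : Odd (Nat.card K) := hodd.of_dvd_nat (card_dvd_of_le h)
      haveI := isSolvable_of_odd_card hKodd
      have hab : ∀ a ∈ K, ∀ b ∈ K, a * b = b * a := fun a ha b hb =>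
        congrArg Subtype.val ((IsSimpleGroup.comm_iff_isSolvable.mpr inferInstance) (⟨a, ha⟩ : K) ⟨b, hb⟩)
      have : K = ⊥ := le_bot_iff.mp (hC ▸ fun a ha => mem_centralizer_iff.mpr fun b hb => hab b hb a ha)
      obtain ⟨x, hx⟩ := exists_ne (1 : ↥K)
      exact hx (Subtype.ext (mem_bot.mp (this ▸ x.2)))
  have hcomm : commutator M ≤ K := by
    refine Normal.quotient_commutative_iff_commutator_le.mp ⟨⟨fun a b => ?_⟩⟩
    obtain ⟨g, rfl⟩ := QuotientGroup.mk_surjective a
    obtain ⟨h, rfl⟩ := QuotientGroup.mk_surjective b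
    have hg : g ∈ (↑(K ⊔ (S : Subgroup M)) : Set M) := by rw [hgen]; exact mem_top g
    have hh : h ∈ (↑(K ⊔ (S : Subgroup M)) : Set M) := by rw [hgen]; exact mem_top h
    rw [normal_mul] at hg hh
    obtain ⟨k, hk, s, hs, rfl⟩ := hg
    obtain ⟨k', hk', s', hs', rfl⟩ := hh
    rw [QuotientGroup.mk_mul, QuotientGroup.mk_mul, (QuotientGroup.eq_one_iff k).mpr hk,
      (QuotientGroup.eq_one_iff k').mpr hk', one_mul, one_mul, ← QuotientGroup.mk_mul, ← QuotientGroup.mk_mul]
    exact congrArg _ (congrArg Subtype.val (hS.is_comm.comm ⟨s, hs⟩ ⟨s', hs'⟩))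
  set N := normalizer ((S : Subgroup M) : Set M) with hN
  haveI : ((S : Subgroup M).subgroupOf N).Normal := normal_in_normalizer
  haveI : IsMulCommutative ↥((S : Subgroup M).subgroupOf N) :=
    ⟨⟨fun a b => Subtype.ext (Subtype.ext
      (congrArg Subtype.val (hS.is_comm.comm ⟨_, mem_subgroupOf.mp a.2⟩ ⟨_, mem_subgroupOf.mp b.2⟩) :))⟩⟩
  have hcop : (Nat.card ((S : Subgroup M).subgroupOf N)).Coprime ((S : Subgroup M).subgroupOf N).index := by
    rw [Nat.card_congr (subgroupOfEquivOfLe le_normalizer).toEquiv]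
    exact Nat.Coprime.coprime_dvd_right (relIndex_dvd_index_of_le le_normalizer) S.card_coprime_index
  obtain ⟨-, -, hdec⟩ := Fusion.abelian_normal_hall_decomp ((S : Subgroup M).subgroupOf N) hcop
  -- nothing of the Sylow subgroup is central in its normalizer
  have hfix : center N ⊓ (S : Subgroup M).subgroupOf N = ⊥ := by
    by_contra hne
    obtain ⟨z, ⟨hzc, hzS⟩, hz2, hz1⟩ := exists_sq_one
      ((S.isPGroup'.comap_subtype (K := N)).to_le (inf_le_right : center N ⊓ _ ≤ _)) hne
    have hzG : (z : M) * z = 1 := congrArg Subtype.val hz2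
    have hz1' : (z : M) ≠ 1 := fun e => hz1 (Subtype.ext e)
    have hiso : Cfsg.IsIsolatedInvolution (z : M) := by
      refine ⟨orderOf_eq_prime (by rw [sq, hzG]) hz1', fun g hg => ?_⟩
      set C := centralizer ({(z : M)} : Set M)
      have hSC : (S : Subgroup M) ≤ C := fun s hs =>
        mem_centralizer_singleton_iff.mpr (congrArg Subtype.val (hS.is_comm.comm ⟨s, hs⟩ ⟨z, mem_subgroupOf.mp hzS⟩))
      have hy : g * z * g⁻¹ ∈ C := mem_centralizer_singleton_iff.mpr hg.eq.symm
      have hy2 : IsPGroup 2 (zpowers (⟨g * z * g⁻¹, hy⟩ : C)) := by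
        refine IsPGroup.of_card (n := 1) ?_
        rw [Nat.card_zpowers, pow_one, ← Subgroup.orderOf_coe]
        show orderOf (MulAut.conj g (z : M)) = 2
        rw [MulEquiv.orderOf_eq]
        exact orderOf_eq_prime (by rw [sq, hzG]) hz1'
      obtain ⟨Q, hQ⟩ := hy2.exists_le_sylow
      obtain ⟨c, hc⟩ := MulAction.exists_smul_eq C Q (S.subtype hSC)
      have hmem : (c : M) * (g * z * g⁻¹) * (c : M)⁻¹ ∈ (S : Subgroup M) := by
        have : c * ⟨g * z * g⁻¹, hy⟩ * c⁻¹ ∈ (S.subtype hSC : Subgroup C) := by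
          rw [← hc, Sylow.coe_subgroup_smul]
          exact ⟨_, hQ (mem_zpowers _), rfl⟩
        exact mem_subgroupOf.mp this
      obtain ⟨n, hn, hne'⟩ := Fusion.exists_normalizer_conj_of_abelian S (g := c * g) (mem_subgroupOf.mp hzS)
        (by rw [show (c : M) * g * z * ((c : M) * g)⁻¹ = c * (g * z * g⁻¹) * (c : M)⁻¹ by group]; exact hmem)
      have hnz : n * (z : M) * n⁻¹ = z :=
        mul_inv_eq_iff_eq_mul.mpr (congrArg Subtype.val (mem_center_iff.mp hzc ⟨n, hn⟩))
      rw [hnz] at hne'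
      have hcz : (c : M) * z * (c : M)⁻¹ = z :=
        mul_inv_eq_iff_eq_mul.mpr (mem_centralizer_singleton_iff.mp c.2)
      refine mul_left_cancel (a := (c : M)) (mul_right_cancel (b := (c : M)⁻¹) ?_)
      rw [hcz]
      exact (show (c : M) * (g * z * g⁻¹) * (c : M)⁻¹ = (c : M) * g * z * ((c : M) * g)⁻¹ by group).trans hne'.symm
    have hzc' := ZStar.mem_center_of_isolated hO hiso
    have : (z : M) ∈ centralizer (K : Set M) := mem_centralizer_iff.mpr fun k _ => mem_center_iff.mp hzc' k
    rw [hC, mem_bot] at this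
    exact hz1' this
  rw [hfix, sup_bot_eq] at hdec
  intro s hs
  have hs' : (⟨s, le_normalizer hs⟩ : N) ∈ commutator N ⊓ (S : Subgroup M).subgroupOf N :=
    hdec.ge (mem_subgroupOf.mpr hs)
  have hmap : (commutator N).map N.subtype ≤ commutator M := by
    rw [_root_.commutator_def, map_commutator, _root_.commutator_def]
    exact commutator_mono le_top le_top
  exact hcomm (hmap ⟨_, hs'.1, rfl⟩)

variable {X : Type u} [Group X] [Finite X] (hO : Cfsg.oddCore X = ⊥) (S : Sylow 2 X)
variable (hS : IsMulCommutative ↥(S : Subgroup X))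

include hO in
theorem fitting_eq_pCore : Cfsg.fittingSubgroup X = Cfsg.pCore 2 X := by
  haveI := fact_two
  refine le_antisymm ?_ ?_
  · rw [Core.fittingSubgroup_eq_iSup_pCore]
    refine iSup_le fun q => ?_
    by_cases hq : (q : ℕ) = 2
    · rw [hq]
    · haveI : Fact (q : ℕ).Prime := ⟨q.2⟩
      have : Cfsg.pCore (q : ℕ) X ≤ Cfsg.oddCore X := Core.le_pPrimeCore (by
        obtain ⟨k, hk⟩ := IsPGroup.iff_card.mp (Core.pCore_isPGroup (q : ℕ) X)
        rw [hk]
        exact Nat.Coprime.pow_left k ((Nat.coprime_primes q.2 Nat.prime_two).mpr hq))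
      rw [hO] at this
      exact this.trans bot_le
  · rw [Core.fittingSubgroup_eq_iSup_pCore]
    exact le_iSup (fun q : Nat.Primes => Cfsg.pCore (q : ℕ) X) ⟨2, Nat.prime_two⟩

include hS in
/-- The intersection of the Sylow subgroup with a component is a Sylow subgroup of it. -/
theorem component_sylow {K : Subgroup X} (hK : Cfsg.IsComponent K) :
    ∃ T : Sylow 2 K, (T : Subgroup K) = (S : Subgroup X).subgroupOf K := by
  haveI := fact_two
  exact ⟨S.isPGroup'.comap_subtype.toSylow (Solv.not_dvd_relIndex_of_isSubnormal S hK.1),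
    IsPGroup.toSylow_coe _ _⟩

include hO hS in
/-- Components are simple. -/
theorem component_simple {K : Subgroup X} (hK : Cfsg.IsComponent K) : IsSimpleGroup ↥K := by
  haveI := fact_two
  obtain ⟨T, hT⟩ := component_sylow S hS hK
  haveI : IsMulCommutative ↥(T : Subgroup K) := ⟨⟨fun a b => by
    have ha : ((a : K) : X) ∈ (S : Subgroup X) := mem_subgroupOf.mp (hT ▸ a.2)
    have hb : ((b : K) : X) ∈ (S : Subgroup X) := mem_subgroupOf.mp (hT ▸ b.2)
    exact Subtype.ext (Subtype.ext (congrArg Subtype.val (hS.is_comm.comm ⟨_, ha⟩ ⟨_, hb⟩) :))⟩⟩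
  have hz : center K = ⊥ := by
    have hperf : commutator K = ⊤ := Core.quasisimple_commutator hK.2
    have h2 : center K ≤ (T : Subgroup K) := by
      intro z hz
      rw [hT, mem_subgroupOf]
      have h1 := Core.center_map_le_fittingSubgroup hK.1 (⟨z, hz, rfl⟩ : (z : X) ∈ (center K).map K.subtype)
      rw [fitting_eq_pCore hO] at h1
      exact Core.pCore_le_sylow S h1
    have h := Fusion.inf_commutator_inf_center_eq_bot_sylow T
    rw [hperf, inf_top_eq, inf_eq_right.mpr h2] at h
    exact h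
  haveI := hK.2.2
  haveI : Nontrivial K := Core.quasisimple_nontrivial hK.2
  have e : K ≃* K ⧸ center K := QuotientGroup.quotientBot.symm.trans (QuotientGroup.quotientMulEquivOfEq hz.symm)
  exact IsSimpleGroup.isSimpleGroup_of_surjective e.symm.toMonoidHom e.symm.surjective

include hO hS in
theorem component_not_comm {K : Subgroup X} (hK : Cfsg.IsComponent K) : ¬ IsMulCommutative ↥K := fun h => by
  haveI := h
  exact Core.IsComponent.not_solvable hK (Core.isSolvable_of_isMulCommutative _)

include hO hS in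
theorem inf_centralizer_component {K : Subgroup X} (hK : Cfsg.IsComponent K) :
    K ⊓ centralizer (K : Set X) = ⊥ := by
  haveI := component_simple hO S hS hK
  rw [eq_bot_iff]
  rintro x ⟨hx, hxc⟩
  have hxz : (⟨x, hx⟩ : K) ∈ center K := mem_center_iff.mpr fun g => Subtype.ext (mem_centralizer_iff.mp hxc g g.2)
  rcases IsSimpleGroup.eq_bot_or_eq_top_of_normal (center K) inferInstance with h | h
  · rw [h, mem_bot] at hxz
    exact mem_bot.mpr (congrArg Subtype.val hxz)
  · exact absurd ⟨⟨fun a b => mem_center_iff.mp (h ▸ mem_top b) a⟩⟩ (component_not_comm hO S hS hK)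

include hO hS in
theorem component_disjoint {K L : Subgroup X} (hK : Cfsg.IsComponent K) (hL : Cfsg.IsComponent L) (hne : K ≠ L) :
    L ≤ centralizer (K : Set X) := by
  exact fun l hl => mem_centralizer_iff.mpr fun k hk =>
    Core.commutator_eq_bot_iff_forall.1 (Core.component_commute hK hL hne) k hk l hl

include hS in
theorem inf_component_ne_bot {K : Subgroup X} (hK : Cfsg.IsComponent K) : (S : Subgroup X) ⊓ K ≠ ⊥ := by
  haveI := fact_two
  intro h
  obtain ⟨T, hT⟩ := component_sylow S hS hK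
  refine Core.IsComponent.not_solvable hK (isSolvable_of_odd_card ?_)
  have h1 : (T : Subgroup K) = ⊥ := by rw [hT, subgroupOf_eq_bot, disjoint_iff]; exact h
  rw [← Nat.not_even_iff_odd, even_iff_two_dvd]
  intro h2
  have h3 := T.dvd_card_of_dvd_card h2
  rw [h1, Subgroup.card_bot] at h3
  omega

include hO hS in
/-- The Sylow subgroup normalizes every component. -/
theorem sylow_le_normalizer_component {K : Subgroup X} (hK : Cfsg.IsComponent K) :
    (S : Subgroup X) ≤ normalizer (K : Set X) := by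
  intro s hs
  obtain ⟨⟨w, hw⟩, hw1⟩ := Subgroup.ne_bot_iff_exists_ne_one.mp (inf_component_ne_bot S hS hK)
  have hL := Core.IsComponent.map_conj hK s
  have hws : w ∈ K.map (MulAut.conj s).toMonoidHom := by
    refine ⟨w, hw.2, ?_⟩
    show s * w * s⁻¹ = w
    exact mul_inv_eq_iff_eq_mul.mpr (congrArg Subtype.val (hS.is_comm.comm ⟨s, hs⟩ ⟨w, hw.1⟩))
  by_contra hn
  have hne : K ≠ K.map (MulAut.conj s).toMonoidHom := fun e => hn (mem_normalizer_iff.mpr fun k => by
    conv_rhs => rw [e]
    exact ⟨fun hk => ⟨k, hk, rfl⟩, fun ⟨k', hk', ek⟩ => (MulAut.conj s).injective ek ▸ hk'⟩)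
  have := component_disjoint hO S hS hK hL hne hws
  have h1 : w ∈ K ⊓ centralizer (K : Set X) := ⟨hw.2, this⟩
  rw [inf_centralizer_component hO S hS hK, mem_bot] at h1
  exact hw1 (Subtype.ext h1)

include hO hS in
/-- The Sylow subgroup splits over each component. -/
theorem exists_split {K : Subgroup X} (hK : Cfsg.IsComponent K) {s : X} (hs : s ∈ (S : Subgroup X)) :
    ∃ w ∈ (S : Subgroup X) ⊓ K, s * w⁻¹ ∈ centralizer (K : Set X) := by
  haveI := fact_two
  haveI := component_simple hO S hS hK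
  set M := K ⊔ (S : Subgroup X) with hM
  have hKM : K ≤ M := le_sup_left
  have hSM : (S : Subgroup X) ≤ M := le_sup_right
  have hMn : M ≤ normalizer (K : Set X) := sup_le le_normalizer (sylow_le_normalizer_component hO S hS hK)
  haveI hKn : (K.subgroupOf M).Normal := (normal_subgroupOf_iff_le_normalizer hKM).mpr hMn
  set C := centralizer ((K.subgroupOf M : Subgroup M) : Set M) with hC
  haveI : C.Normal := Subgroup.normal_centralizer
  have hCK : ∀ c : M, c ∈ C → (c : X) ∈ centralizer (K : Set X) := fun c hc => mem_centralizer_iff.mpr fun k hk =>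
    congrArg Subtype.val (mem_centralizer_iff.mp hc ⟨k, hKM hk⟩ (mem_subgroupOf.mpr hk))
  set π := QuotientGroup.mk' C with hπ
  have hπs : Function.Surjective π := QuotientGroup.mk'_surjective C
  set Kb := (K.subgroupOf M).map π with hKb
  haveI : Kb.Normal := hKn.map π hπs
  have hinj : ∀ a : M, a ∈ K.subgroupOf M → π a = 1 → a = 1 := by
    intro a ha h
    have h1 : (a : X) ∈ K ⊓ centralizer (K : Set X) := ⟨mem_subgroupOf.mp ha, hCK a ((QuotientGroup.eq_one_iff a).mp h)⟩
    rw [inf_centralizer_component hO S hS hK, mem_bot] at h1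
    exact Subtype.ext h1
  let φ : K →* Kb :=
    (π.subgroupMap (K.subgroupOf M)).comp (subgroupOfEquivOfLe hKM).symm.toMonoidHom
  have hφ : Function.Bijective φ := by
    refine Function.Bijective.comp (g := π.subgroupMap (K.subgroupOf M))
      (f := (subgroupOfEquivOfLe hKM).symm) ⟨fun a b e => ?_, MonoidHom.subgroupMap_surjective _ _⟩ (MulEquiv.bijective _)
    have e' : π a = π b := congrArg Subtype.val e
    refine Subtype.ext (inv_mul_eq_one.mp (hinj _ (mul_mem (inv_mem a.2) b.2) ?_))
    rw [map_mul, map_inv, e', inv_mul_cancel]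
  haveI : Nontrivial ↥Kb := hφ.1.nontrivial
  haveI : IsSimpleGroup ↥Kb := IsSimpleGroup.isSimpleGroup_of_surjective φ hφ.2
  have hCb : centralizer (Kb : Set (M ⧸ C)) = ⊥ := by
    rw [eq_bot_iff]
    intro q hq
    obtain ⟨a, rfl⟩ := hπs q
    rw [mem_bot]
    refine (QuotientGroup.eq_one_iff a).mpr (mem_centralizer_iff.mpr fun k hk => ?_)
    have e := mem_centralizer_iff.mp hq (π k) ⟨k, hk, rfl⟩
    rw [← map_mul, ← map_mul] at e
    have hm : (a * k)⁻¹ * (k * a) ∈ K.subgroupOf M := by
      rw [show (a * k)⁻¹ * (k * a) = k⁻¹ * (a⁻¹ * k * a⁻¹⁻¹) by group]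
      exact mul_mem (inv_mem hk) (hKn.conj_mem k hk a⁻¹)
    exact (inv_mul_eq_one.mp (hinj _ hm (by rw [map_mul, map_inv, e, inv_mul_cancel]))).symm
  let Sb := (S.subtype hSM).mapSurjective hπs
  have hSb : IsMulCommutative ↥(Sb : Subgroup (M ⧸ C)) := ⟨⟨fun a b => by
    obtain ⟨a', ha', ea⟩ := (show (a : M ⧸ C) ∈ (S.subtype hSM : Subgroup M).map π from a.2)
    obtain ⟨b', hb', eb⟩ := (show (b : M ⧸ C) ∈ (S.subtype hSM : Subgroup M).map π from b.2)
    refine Subtype.ext ?_
    show (a : M ⧸ C) * b = b * a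
    rw [← ea, ← eb, ← map_mul, ← map_mul]
    exact congrArg π (Subtype.ext (congrArg Subtype.val
      (hS.is_comm.comm ⟨_, mem_subgroupOf.mp ha'⟩ ⟨_, mem_subgroupOf.mp hb'⟩) :))⟩⟩
  have hgen : Kb ⊔ (Sb : Subgroup (M ⧸ C)) = ⊤ := by
    show (K.subgroupOf M).map π ⊔ ((S : Subgroup X).subgroupOf M).map π = ⊤
    rw [← Subgroup.map_sup, ← subgroupOf_sup hKM hSM, subgroupOf_self]
    exact map_top_of_surjective π hπs
  obtain ⟨k, hk, hke⟩ := sylow_le_of_simple Sb hSb Kb hCb hgen
    (show π ⟨s, hSM hs⟩ ∈ (Sb : Subgroup (M ⧸ C)) from ⟨⟨s, hSM hs⟩, mem_subgroupOf.mpr hs, rfl⟩)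
  -- the correcting element lies in the Sylow subgroup
  have hkK : (k : X) ∈ K := mem_subgroupOf.mp hk
  have hc : k⁻¹ * (⟨s, hSM hs⟩ : M) ∈ C := QuotientGroup.eq.mp hke
  set c := (k : X)⁻¹ * s with hcdef
  have hcC : c ∈ centralizer (K : Set X) := hCK _ hc
  have hsk : s = (k : X) * c := by rw [hcdef]; group
  have hcomm : Commute (k : X) c := mem_centralizer_iff.mp hcC k hkK
  obtain ⟨n, hn⟩ := S.isPGroup' ⟨s, hs⟩
  have hk2 : (k : X) ^ 2 ^ n = 1 := by
    have h1 : (k : X) ^ 2 ^ n * c ^ 2 ^ n = 1 := by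
      rw [← hcomm.mul_pow, ← hsk]; exact congrArg Subtype.val hn
    have h2 : (k : X) ^ 2 ^ n ∈ K ⊓ centralizer (K : Set X) :=
      ⟨pow_mem hkK _, by rw [eq_inv_of_mul_eq_one_left h1]; exact (centralizer _).inv_mem ((centralizer _).pow_mem hcC _)⟩
    rwa [inf_centralizer_component hO S hS hK, mem_bot] at h2
  obtain ⟨T, hT⟩ := component_sylow S hS hK
  have hkT : (⟨k, hkK⟩ : K) ∈ (T : Subgroup K) := by
    set P := zpowers (⟨k, hkK⟩ : K)
    have hP : IsPGroup 2 P := by
      obtain ⟨m, -, hm⟩ := (Nat.dvd_prime_pow Nat.prime_two).1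
        (orderOf_dvd_of_pow_eq_one (show (⟨k, hkK⟩ : K) ^ 2 ^ n = 1 from Subtype.ext (by simpa using hk2)))
      exact IsPGroup.of_card (n := m) (by rw [Nat.card_zpowers, hm])
    have hPT : P ≤ normalizer ((T : Subgroup K) : Set K) := by
      refine le_trans ?_ (centralizer_le_normalizer _)
      refine zpowers_le.mpr (mem_centralizer_iff.mpr fun t ht => Subtype.ext ?_)
      have htS : (t : X) ∈ (S : Subgroup X) := mem_subgroupOf.mp (hT ▸ ht)
      have h1 : (t : X) * s = s * t := congrArg Subtype.val (hS.is_comm.comm ⟨_, htS⟩ ⟨s, hs⟩)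
      have h2 : (t : X) * c = c * t := mem_centralizer_iff.mp hcC t t.2
      show (t : X) * k = k * t
      calc (t : X) * k = t * s * c⁻¹ := by rw [hsk]; group
        _ = s * t * c⁻¹ := by rw [h1]
        _ = (k : X) * (c * t) * c⁻¹ := by rw [hsk]; group
        _ = (k : X) * t := by rw [← h2]; group
    exact (hP.inf_normalizer_sylow T ▸ (inf_eq_left.mpr hPT)).symm.le.trans inf_le_right (mem_zpowers _)
  refine ⟨k, ⟨mem_subgroupOf.mp (show (⟨k, hkK⟩ : K) ∈ (S : Subgroup X).subgroupOf K from hT ▸ hkT), hkK⟩, ?_⟩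
  rw [show s * (k : X)⁻¹ = c by rw [hsk, hcomm.eq, mul_inv_cancel_right]]
  exact hcC

include hO hS in
/-- The product of the layer and the two-core contains the Sylow subgroup. -/
theorem sylow_le_layer_sup : (S : Subgroup X) ≤ Cfsg.layer X ⊔ Cfsg.pCore 2 X := by
  classical
  haveI := fact_two
  haveI := Fintype.ofFinite (Subgroup X)
  have key : ∀ F : Finset (Subgroup X), (∀ K ∈ F, Cfsg.IsComponent K) → ∀ s ∈ (S : Subgroup X),
      ∃ w ∈ (S : Subgroup X) ⊓ Cfsg.layer X, ∀ K ∈ F, s * w⁻¹ ∈ centralizer (K : Set X) := by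
    intro F
    induction F using Finset.induction with
    | empty => exact fun _ s hs => ⟨1, one_mem _, by simp⟩
    | @insert K F hKF ih =>
      intro hF s hs
      obtain ⟨w, hw, hwF⟩ := ih (fun L hL => hF L (Finset.mem_insert_of_mem hL)) s hs
      have hK := hF K (Finset.mem_insert_self K F)
      obtain ⟨v, hv, hvc⟩ := exists_split hO S hS hK (mul_mem hs (inv_mem hw.1))
      refine ⟨v * w, ⟨mul_mem hv.1 hw.1, mul_mem (Core.le_layer hK hv.2) hw.2⟩, fun L hL => ?_⟩
      rw [mul_inv_rev, ← mul_assoc]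
      rcases Finset.mem_insert.mp hL with rfl | hLF
      · exact hvc
      · refine mul_mem (hwF L hLF) (inv_mem ?_)
        exact component_disjoint hO S hS (hF L (Finset.mem_insert_of_mem hLF)) hK
          (fun e => hKF (e ▸ hLF)) hv.2
  intro s hs
  obtain ⟨w, hw, hwF⟩ := key (Finset.univ.filter fun K => Cfsg.IsComponent K) (fun K hK => (Finset.mem_filter.mp hK).2) s hs
  have hsw : s * w⁻¹ ∈ centralizer (Cfsg.generalizedFittingSubgroup X : Set X) := by
    have : Cfsg.generalizedFittingSubgroup X ≤ centralizer ({s * w⁻¹} : Set X) := by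
      refine sup_le (sSup_le fun K hK => ?_) ?_
      · intro k hk
        exact mem_centralizer_singleton_iff.mpr
          (mem_centralizer_iff.mp (hwF K (Finset.mem_filter.mpr ⟨Finset.mem_univ _, hK⟩)) k hk)
      · rw [fitting_eq_pCore hO]
        intro t ht
        exact mem_centralizer_singleton_iff.mpr (congrArg Subtype.val
          (hS.is_comm.comm ⟨t, Core.pCore_le_sylow S ht⟩ ⟨_, mul_mem hs (inv_mem hw.1)⟩))
    exact mem_centralizer_iff.mpr fun x hx => mem_centralizer_singleton_iff.mp (this hx)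
  have h1 := Core.centralizer_generalizedFitting_le hsw
  rw [Cfsg.generalizedFittingSubgroup, fitting_eq_pCore hO] at h1
  have := mul_mem h1 ((le_sup_left : Cfsg.layer X ≤ _ ⊔ Cfsg.pCore 2 X) hw.2)
  rwa [inv_mul_cancel_right] at this

include hO hS in
/-- Perfect subgroups lie in the layer. -/
theorem le_layer_of_perfect {P : Subgroup X} (hP : ⁅P, P⁆ = P) : P ≤ Cfsg.layer X := by
  haveI := fact_two
  haveI hLn : (Cfsg.layer X).Normal := inferInstance
  set N := Cfsg.layer X ⊔ Cfsg.pCore 2 X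
  have hodd : Odd (Nat.card (X ⧸ N)) := by
    rw [← index_eq_card, ← Nat.not_even_iff_odd, even_iff_two_dvd]
    exact fun h => S.not_dvd_index (h.trans (index_dvd_of_le (sylow_le_layer_sup hO S hS)))
  have step : ∀ {Q : Type u} [Group Q] (f : X →* Q), Group.IsSolvable ↥(P.map f) → P.map f = ⊥ := by
    intro Q _ f hsol
    by_contra hne
    haveI : Nontrivial ↥(P.map f) := (nontrivial_iff_ne_bot _).mpr hne
    refine (Group.IsSolvable.commutator_lt_top_of_nontrivial ↥(P.map f)).ne (map_injective (P.map f).subtype_injective ?_)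
    rw [← MonoidHom.range_eq_map, (P.map f).range_subtype, map_subtype_commutator, ← map_commutator, hP]
  have h1 : P ≤ N := by
    have := step (QuotientGroup.mk' N) (isSolvable_of_odd_card (hodd.of_dvd_nat (card_subgroup_dvd_card _)))
    rwa [Subgroup.map_eq_bot_iff, QuotientGroup.ker_mk'] at this
  have h2 : P.map (QuotientGroup.mk' (Cfsg.layer X)) ≤ (Cfsg.pCore 2 X).map (QuotientGroup.mk' (Cfsg.layer X)) := by
    refine (map_mono h1).trans ?_
    rw [Subgroup.map_sup, QuotientGroup.map_mk'_self, bot_sup_eq]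
  have := step (QuotientGroup.mk' (Cfsg.layer X)) (Core.isSolvable_of_le h2 (by
    haveI : IsMulCommutative ↥(Cfsg.pCore 2 X) := ⟨⟨fun a b => Subtype.ext (congrArg Subtype.val
      (hS.is_comm.comm ⟨_, Core.pCore_le_sylow S a.2⟩ ⟨_, Core.pCore_le_sylow S b.2⟩) :)⟩⟩
    exact Core.isSolvable_map (Core.isSolvable_of_isMulCommutative _) _))
  rwa [Subgroup.map_eq_bot_iff, QuotientGroup.ker_mk'] at this

include hO hS in
theorem isSolvable_of_no_component (h : ∀ K : Subgroup X, ¬ Cfsg.IsComponent K) : Group.IsSolvable X := by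
  haveI := fact_two
  have hle : (S : Subgroup X) ≤ Cfsg.pCore 2 X := by
    have := sylow_le_layer_sup hO S hS
    rwa [(Core.layer_eq_bot_iff).mpr h, bot_sup_eq] at this
  haveI : Group.IsSolvable ↥(Cfsg.pCore 2 X) := by
    haveI := (Core.pCore_isPGroup 2 X).isNilpotent
    infer_instance
  haveI : Group.IsSolvable (X ⧸ Cfsg.pCore 2 X) := isSolvable_of_odd_card (by
    rw [← index_eq_card, ← Nat.not_even_iff_odd, even_iff_two_dvd]
    exact fun h2 => S.not_dvd_index (h2.trans (index_dvd_of_le hle)))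
  exact Group.isSolvable_of_ker_le_range (Cfsg.pCore 2 X).subtype (QuotientGroup.mk' (Cfsg.pCore 2 X))
    (by rw [QuotientGroup.ker_mk', range_subtype])

end Cfsg.Lib.WalterBig
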