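import Cfsg.Agent.Lib.Goldschmidt.Product
import Cfsg.Agent.Lib.Fusion.Abelian
import Cfsg.Agent.Lib.Local.Isolated.Complement
import Cfsg.Agent.Lib.AbTwo.Embedded

/-!
# The normalizer of an abelian Sylow two-subgroup of a simple group

It acts irreducibly on the elements of square one; if these form a subgroup of order four or eight which
is all of the Sylow subgroup, some element permutes the involutions transitively.
-/

set_option autoImplicit false
set_option linter.unusedSectionVars false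
set_option linter.style.haveILetI false

namespace Cfsg.Lib.WalterBig

open Subgroup Cfsg.Lib

universe u

/-- An odd group of automorphisms of a group of exponent two fixes a complement of each invariant subgroup. -/
theorem exists_invariant_compl_odd {A V : Type*} [Group A] [Finite A] (hA : Odd (Nat.card A)) [CommGroup V]
    [Finite V] (hV : ∀ v : V, v * v = 1) (φ : A →* MulAut V) (U : Subgroup V)
    (hU : ∀ a, ∀ u ∈ U, φ a u ∈ U) :
    ∃ U' : Subgroup V, (∀ a, ∀ u ∈ U', φ a u ∈ U') ∧ U ⊓ U' = ⊥ ∧ U ⊔ U' = ⊤ := by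
  classical
  haveI : Fact (Nat.Prime 2) := ⟨Nat.prime_two⟩
  letI := Fintype.ofFinite A
  have hVel : Cfsg.IsElementaryAbelian 2 (⊤ : Subgroup V) :=
    ⟨⟨⟨fun a b => mul_comm a b⟩⟩, fun v _ => by rw [pow_two, hV]⟩
  obtain ⟨C, -, hsup, hinf⟩ := Local.Isolated.exists_compl hVel (le_top : U ≤ ⊤)
  let e : U × C ≃* V := MulEquiv.ofBijective (U.subtype.coprod C.subtype) ⟨by
    rw [injective_iff_map_eq_one]
    rintro ⟨u, c⟩ h
    have h' : (u : V) * c = 1 := h
    have hu : (u : V) = (c : V)⁻¹ := eq_inv_of_mul_eq_one_left h'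
    have hm : (u : V) ∈ U ⊓ C := ⟨u.2, hu ▸ C.inv_mem c.2⟩
    rw [hinf, mem_bot] at hm
    rw [hm, one_mul] at h'
    exact Prod.ext (Subtype.ext hm) (Subtype.ext h'), fun v => by
    obtain ⟨u, hu, c, hc, rfl⟩ := mem_sup.1 (hsup.ge (mem_top v))
    exact ⟨(⟨u, hu⟩, ⟨c, hc⟩), rfl⟩⟩
  let π : V →* V := U.subtype.comp ((MonoidHom.fst U C).comp e.symm.toMonoidHom)
  have hπU : ∀ v, π v ∈ U := fun v => SetLike.coe_mem _
  have hπid : ∀ u ∈ U, π u = u := fun u hu => by
    have : e.symm u = (⟨u, hu⟩, 1) := e.injective (by rw [MulEquiv.apply_symm_apply]; exact (mul_one u).symm)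
    show ((e.symm u).1 : V) = u
    rw [this]
  let π' : V →* V := ∏ a : A, ((φ a⁻¹).toMonoidHom.comp (π.comp (φ a).toMonoidHom))
  have happ : ∀ v, π' v = ∏ a : A, φ a⁻¹ (π (φ a v)) := fun v => by simp [π', MonoidHom.finsetProd_apply]
  have hmem : ∀ v, π' v ∈ U := fun v => by
    rw [happ]; exact Subgroup.prod_mem U fun a _ => hU _ _ (hπU _)
  have hid : ∀ u ∈ U, π' u = u := fun u hu => by
    rw [happ, Finset.prod_congr rfl (fun a _ => by
      show φ a⁻¹ (π (φ a u)) = u
      rw [hπid _ (hU a u hu), map_inv, MulAut.inv_apply_self])]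
    obtain ⟨k, hk⟩ := hA
    rw [Finset.prod_const, Finset.card_univ, ← Nat.card_eq_fintype_card, hk, pow_succ, pow_mul, pow_two, hV,
      one_pow, one_mul]
  have hequ : ∀ b v, π' (φ b v) = φ b (π' v) := fun b v => by
    rw [happ, happ, map_prod]
    refine Fintype.prod_equiv (Equiv.mulRight b) _ _ fun a => ?_
    simp [Equiv.coe_mulRight, map_mul, MulAut.mul_apply, map_inv]
  refine ⟨π'.ker, fun a u hu => by rw [MonoidHom.mem_ker, hequ, MonoidHom.mem_ker.1 hu, map_one], ?_, ?_⟩
  · rw [eq_bot_iff]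
    rintro v ⟨h1, h2⟩
    rw [mem_bot, ← hid v h1]
    exact h2
  · rw [eq_top_iff]
    intro v _
    rw [← mul_div_cancel (π' v) v]
    exact mul_mem_sup (hmem v) (by rw [MonoidHom.mem_ker, map_div, hid _ (hmem v), div_self'])

variable {G : Type u} [Group G] [Finite G] [IsSimpleGroup G]

theorem oddCore_eq_bot_of_simple (hna : ¬ IsMulCommutative G) : Cfsg.oddCore G = ⊥ := by
  haveI : (Cfsg.oddCore G).Normal := inferInstanceAs (Cfsg.pPrimeCore 2 G).Normal
  rcases IsSimpleGroup.eq_bot_or_eq_top_of_normal (Cfsg.oddCore G) inferInstance with h | h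
  · exact h
  · exfalso
    have hodd : Odd (Nat.card (Cfsg.oddCore G)) := Nat.coprime_two_right.1 (Core.pPrimeCore_coprime 2 G)
    rw [h, Subgroup.card_top] at hodd
    haveI := Cfsg.Agent.S0205.result hodd
    exact hna ⟨⟨fun a b => (IsSimpleGroup.comm_iff_isSolvable.mpr inferInstance) a b⟩⟩

/-- Irreducibility on the elements of square one. -/
theorem irreducible (hna : ¬ IsMulCommutative G) (S : Sylow 2 G) (hS : IsMulCommutative ↥(S : Subgroup G))
    (U : Subgroup G) (hU : U ≤ S) (hU2 : ∀ u ∈ U, u * u = 1)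
    (hinv : ∀ g ∈ normalizer ((S : Subgroup G) : Set G), ∀ u ∈ U, g * u * g⁻¹ ∈ U) :
    U = ⊥ ∨ ∀ v ∈ (S : Subgroup G), v * v = 1 → v ∈ U := by
  classical
  haveI : Fact (Nat.Prime 2) := ⟨Nat.prime_two⟩
  haveI := hS
  set V := AbTwo.omega (S : Subgroup G) hS with hVdef
  have hVS : V ≤ S := fun v hv => hv.1
  have hV2 : ∀ v ∈ V, v * v = 1 := fun v hv => by rw [← pow_two]; exact hv.2
  have hUV : U ≤ V := fun u hu => ⟨hU hu, by rw [pow_two]; exact hU2 u hu⟩
  letI : CommGroup V := { (inferInstance : Group V) with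
    mul_comm := fun a b => Subtype.ext (congrArg Subtype.val (hS.is_comm.comm ⟨a, hVS a.2⟩ ⟨b, hVS b.2⟩) :) }
  set N := normalizer ((S : Subgroup G) : Set G)
  have hNV : ∀ g ∈ N, ∀ v ∈ V, g * v * g⁻¹ ∈ V := fun g hg v hv => ⟨(mem_normalizer_iff.1 hg v).1 (hVS hv), by
    rw [conj_pow, show v ^ 2 = 1 from hv.2, mul_one, mul_inv_cancel]⟩
  have hNle : N ≤ normalizer (V : Set G) := fun g hg => mem_normalizer_iff.2 fun v => ⟨hNV g hg v, fun h => by
    simpa [mul_assoc] using hNV g⁻¹ (inv_mem hg) _ h⟩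
  let φ : N →* MulAut V := (V.normalizerMonoidHom).comp (inclusion hNle)
  have hφ : ∀ (g : N) (v : V), ((φ g v : V) : G) = (g : G) * v * (g : G)⁻¹ := fun g v => rfl
  have hodd : Odd (Nat.card φ.range) := by
    rw [← index_ker, ← Nat.not_even_iff_odd, even_iff_two_dvd]
    intro h2
    refine S.not_dvd_index ((h2.trans (index_dvd_of_le (H := (S : Subgroup G).subgroupOf N) fun g hg => ?_)).trans
      (relIndex_dvd_index_of_le le_normalizer))
    rw [MonoidHom.mem_ker]
    refine MulEquiv.ext fun v => Subtype.ext ?_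
    rw [hφ, congrArg Subtype.val (hS.is_comm.comm ⟨_, mem_subgroupOf.1 hg⟩ ⟨_, hVS v.2⟩) |>.trans rfl |>
      (fun e : (g : G) * v = v * g => e), mul_inv_cancel_right]
    rfl
  obtain ⟨U', hU'inv, hinf, hsup⟩ := exists_invariant_compl_odd hodd
    (fun v => Subtype.ext (hV2 v v.2)) φ.range.subtype (U.subgroupOf V) (by
      rintro ⟨-, g, rfl⟩ u hu
      exact mem_subgroupOf.2 (by
        show ((φ g u : V) : G) ∈ U
        rw [hφ]; exact hinv g g.2 _ (mem_subgroupOf.1 hu)))
  set U₂ := U'.map V.subtype with hU₂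
  have hU₂inv : ∀ g ∈ N, ∀ u ∈ U₂, g * u * g⁻¹ ∈ U₂ := by
    rintro g hg _ ⟨u, hu, rfl⟩
    exact ⟨_, hU'inv ⟨φ ⟨g, hg⟩, ⟨⟨g, hg⟩, rfl⟩⟩ u hu, hφ ⟨g, hg⟩ u⟩
  have hclosed : ∀ W : Subgroup G, W ≤ S → (∀ g ∈ N, ∀ u ∈ W, g * u * g⁻¹ ∈ W) →
      Cfsg.IsStronglyClosed W (S : Subgroup G) := fun W hW hWi => ⟨hW, fun x hx g hg => by
    obtain ⟨n, hn, e⟩ := Fusion.exists_normalizer_conj_of_abelian S (hW hx) hg
    exact e ▸ hWi n hn x hx⟩
  have hU₂S : U₂ ≤ S := (map_subtype_le _).trans hVS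
  have h := Goldschmidt.Product.productHolds G S U U₂ (hclosed U hU hinv) (hclosed U₂ hU₂S hU₂inv)
    (fun a ha b hb => congrArg Subtype.val (hS.is_comm.comm ⟨a, hU ha⟩ ⟨b, hU₂S hb⟩)) (by
      rw [eq_bot_iff]
      rintro x ⟨hx, y, hy, rfl⟩
      have hm : y ∈ U.subgroupOf V ⊓ U' := ⟨mem_subgroupOf.2 hx, hy⟩
      rw [hinf, mem_bot] at hm
      rw [mem_bot, hm, map_one])
  rw [oddCore_eq_bot_of_simple hna, le_bot_iff] at h
  have htop : ∀ W : Subgroup G, W ≠ ⊥ → normalClosure (W : Set G) = ⊤ := fun W hW =>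
    (IsSimpleGroup.eq_bot_or_eq_top_of_normal _ normalClosure_normal).resolve_left fun e =>
      hW (le_bot_iff.1 (e ▸ (subset_normalClosure : (W : Set G) ⊆ _)))
  rcases eq_or_ne U ⊥ with hU0 | hU0
  · exact Or.inl hU0
  right
  rcases eq_or_ne U₂ ⊥ with hU20 | hU20
  · intro v hv hv2
    rw [hU₂, map_eq_bot_iff_of_injective _ V.subtype_injective] at hU20
    rw [hU20, sup_bot_eq] at hsup
    exact mem_subgroupOf.1 (hsup.ge (mem_top ⟨v, hv, by rw [pow_two]; exact hv2⟩))
  · exfalso
    rw [htop U hU0, htop U₂ hU20, commutator_eq_bot_iff_le_centralizer] at h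
    exact hna ⟨⟨fun a b => (mem_centralizer_iff.1 (h (mem_top b)) a (mem_top a))⟩⟩

/-- Transitivity on the involutions of a Sylow subgroup of order four or eight. -/
theorem exists_transitive (hna : ¬ IsMulCommutative G) (S : Sylow 2 G) (hS : IsMulCommutative ↥(S : Subgroup G))
    (hel : ∀ v ∈ (S : Subgroup G), v * v = 1)
    (hcard : Nat.card (S : Subgroup G) = 4 ∨ Nat.card (S : Subgroup G) = 8) :
    ∃ x ∈ normalizer ((S : Subgroup G) : Set G), ∀ v ∈ (S : Subgroup G), v ≠ 1 → ∀ w ∈ (S : Subgroup G),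
      w ≠ 1 → ∃ i : ℕ, x ^ i * v * (x ^ i)⁻¹ = w := by
  classical
  haveI : Fact (Nat.Prime 2) := ⟨Nat.prime_two⟩
  set N := normalizer ((S : Subgroup G) : Set G) with hN
  let X := {v : (S : Subgroup G) // v ≠ 1}
  let θ : N →* Equiv.Perm X :=
    { toFun := fun g => ((S : Subgroup G).normalizerMonoidHom g).toEquiv.subtypeEquiv fun v => by
        simp [EmbeddingLike.map_eq_one_iff]
      map_one' := by ext v; simp
      map_mul' := fun a b => by ext v; simp }
  have hθ : ∀ (g : N) (v : X), ((((θ g) v).1 : (S : Subgroup G)) : G) = (g : G) * v.1 * (g : G)⁻¹ := fun g v => rfl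
  have hodd : Odd (Nat.card θ.range) := by
    rw [← index_ker, ← Nat.not_even_iff_odd, even_iff_two_dvd]
    intro h2
    refine S.not_dvd_index ((h2.trans (index_dvd_of_le (H := (S : Subgroup G).subgroupOf N) fun g hg => ?_)).trans
      (relIndex_dvd_index_of_le le_normalizer))
    rw [MonoidHom.mem_ker]
    refine Equiv.ext fun v => Subtype.ext (Subtype.ext ?_)
    have e : (g : G) * v.1 = v.1 * g :=
      congrArg Subtype.val (hS.is_comm.comm ⟨_, mem_subgroupOf.1 hg⟩ v.1)
    rw [hθ, e, mul_inv_cancel_right]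
    rfl
  have hX : Nat.card X + 1 = Nat.card (S : Subgroup G) := by
    letI := Fintype.ofFinite (S : Subgroup G)
    rw [Nat.card_eq_fintype_card, Nat.card_eq_fintype_card, Fintype.card_subtype_compl, Fintype.card_subtype_eq]
    have := Fintype.card_pos (α := (S : Subgroup G))
    omega
  have hsize : ∀ v : X, Odd (Nat.card (MulAction.orbit θ.range v)) ∧ 3 ≤ Nat.card (MulAction.orbit θ.range v) := by
    intro v
    have hdvd : Nat.card (MulAction.orbit θ.range v) ∣ Nat.card θ.range := by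
      rw [← Nat.card_congr (MulAction.orbitEquivQuotientStabilizer θ.range v).symm]
      exact card_quotient_dvd_card _
    have ho := hodd.of_dvd_nat hdvd
    refine ⟨ho, ?_⟩
    by_contra hlt
    have h1 : Nat.card (MulAction.orbit θ.range v) = 1 := by
      obtain ⟨k, hk⟩ := ho; omega
    rw [Nat.card_eq_one_iff_unique] at h1
    obtain ⟨hsub, -⟩ := h1
    have hfix : ∀ g ∈ N, g * v.1 * g⁻¹ = v.1 := fun g hg => by
      have e : θ ⟨g, hg⟩ v = v := congrArg Subtype.val
        (hsub.elim ⟨_, MulAction.mem_orbit v ⟨θ ⟨g, hg⟩, _, rfl⟩⟩ ⟨v, MulAction.mem_orbit_self v⟩)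
      conv_rhs => rw [← e]
      exact (hθ ⟨g, hg⟩ v).symm
    rcases irreducible hna S hS (zpowers (v.1 : G)) (zpowers_le.2 v.1.2)
      (fun u hu => hel u (zpowers_le.2 v.1.2 hu)) (fun g hg u hu => by
        obtain ⟨i, rfl⟩ := mem_zpowers_iff.1 hu
        rw [← conj_zpow, hfix g hg]
        exact hu) with h | h
    · exact v.2 (Subtype.ext (zpowers_eq_bot.1 h))
    · have hle : (S : Subgroup G) ≤ zpowers (v.1 : G) := fun w hw => h w hw (hel w hw)
      have := (card_le_of_le hle).trans ((Nat.card_zpowers _).le.trans (orderOf_le_of_pow_eq_one two_pos (by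
        rw [pow_two]; exact hel _ v.1.2)))
      omega
  have htrans : ∀ v w : X, w ∈ MulAction.orbit θ.range v := by
    by_contra hcon
    push Not at hcon
    obtain ⟨v, w, hw⟩ := hcon
    set A := MulAction.orbit θ.range v
    set B := MulAction.orbit θ.range w
    have hd : Disjoint A B := Set.disjoint_left.2 fun z hzA hzB => hw (by
      rw [show A = MulAction.orbit θ.range z from (MulAction.orbit_eq_iff.2 hzA).symm,
        show MulAction.orbit θ.range z = B from MulAction.orbit_eq_iff.2 hzB]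
      exact MulAction.mem_orbit_self w)
    have hAB : (A ∪ B).ncard = A.ncard + B.ncard :=
      Set.ncard_union_eq hd (Set.toFinite _) (Set.toFinite _)
    have hA : Odd A.ncard ∧ 3 ≤ A.ncard := by rw [← Nat.card_coe_set_eq]; exact hsize v
    have hB : Odd B.ncard ∧ 3 ≤ B.ncard := by rw [← Nat.card_coe_set_eq]; exact hsize w
    obtain ⟨oA, tA⟩ := hA
    obtain ⟨oB, tB⟩ := hB
    have hle : (A ∪ B).ncard ≤ Nat.card X := by
      rw [← Set.ncard_univ]; exact Set.ncard_le_ncard (Set.subset_univ _) (Set.toFinite _)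
    obtain ⟨a, ha⟩ := oA
    obtain ⟨b, hb⟩ := oB
    by_cases hall : A ∪ B = Set.univ
    · rw [hall, Set.ncard_univ] at hAB
      omega
    · obtain ⟨z, hz⟩ := (Set.ne_univ_iff_exists_notMem _).1 hall
      set C := MulAction.orbit θ.range z
      have hd' : Disjoint (A ∪ B) C := Set.disjoint_left.2 fun y hy hyC => hz (by
        rcases hy with hy | hy
        · left
          rw [show A = C from (MulAction.orbit_eq_iff.2 hy).symm.trans (MulAction.orbit_eq_iff.2 hyC)]
          exact MulAction.mem_orbit_self z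
        · right
          rw [show B = C from (MulAction.orbit_eq_iff.2 hy).symm.trans (MulAction.orbit_eq_iff.2 hyC)]
          exact MulAction.mem_orbit_self z)
      have tC : 3 ≤ C.ncard := by rw [← Nat.card_coe_set_eq]; exact (hsize z).2
      have h3 : (A ∪ B ∪ C).ncard ≤ Nat.card X := by
        rw [← Set.ncard_univ]; exact Set.ncard_le_ncard (Set.subset_univ _) (Set.toFinite _)
      rw [Set.ncard_union_eq hd' (Set.toFinite _) (Set.toFinite _)] at h3
      omega
  -- an element of prime order permuting the involutions in one cycle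
  have hp : (Nat.card X).Prime := by
    rcases hcard with h | h
    · rw [show Nat.card X = 3 by omega]; norm_num
    · rw [show Nat.card X = 7 by omega]; norm_num
  haveI : Fact (Nat.card X).Prime := ⟨hp⟩
  obtain ⟨v₀⟩ : Nonempty X := (Nat.card_pos_iff.1 hp.pos).1
  have hdvd : Nat.card X ∣ Nat.card θ.range := by
    have : MulAction.orbit θ.range v₀ = Set.univ := Set.eq_univ_of_forall (htrans v₀)
    rw [show Nat.card X = Nat.card (MulAction.orbit θ.range v₀) by rw [Nat.card_coe_set_eq, this, Set.ncard_univ],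
      ← Nat.card_congr (MulAction.orbitEquivQuotientStabilizer θ.range v₀).symm]
    exact card_quotient_dvd_card _
  obtain ⟨⟨σ, g, rfl⟩, hσ⟩ := exists_prime_orderOf_dvd_card' (G := θ.range) (Nat.card X) hdvd
  rw [← Subgroup.orderOf_coe] at hσ
  letI := Fintype.ofFinite X
  rw [Nat.card_eq_fintype_card] at hσ hp
  have hcyc : (θ g).IsCycle := Equiv.Perm.isCycle_of_prime_order'' hp hσ
  have hsupp : ∀ u : X, θ g u ≠ u := by
    intro u hu
    have h1 := hcyc.orderOf
    rw [hσ] at h1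
    have h2 : (θ g).support = Finset.univ := Finset.eq_univ_of_card _ h1.symm
    exact Equiv.Perm.mem_support.1 (h2.ge (Finset.mem_univ u)) hu
  refine ⟨g, g.2, fun v hv hv1 w hw hw1 => ?_⟩
  obtain ⟨i, hi⟩ := hcyc.exists_pow_eq (hsupp ⟨⟨v, hv⟩, fun e => hv1 (congrArg Subtype.val e)⟩)
    (hsupp ⟨⟨w, hw⟩, fun e => hw1 (congrArg Subtype.val e)⟩)
  refine ⟨i, ?_⟩
  rw [← map_pow] at hi
  have := congrArg (fun u : X => (u.1 : G)) hi
  rw [← SubmonoidClass.coe_pow]
  exact (hθ _ _).symm.trans this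

end Cfsg.Lib.WalterBig
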