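import Cfsg.Agent.Lib.WalterBig.Blocks
import Cfsg.Agent.Lib.AbTwo.Assembly
import Cfsg.Agent.Lib.Invol.SylowTools

/-!
# Simple groups with a large abelian Sylow two-subgroup

A simple group whose abelian Sylow two-subgroup is not elementary or has at least sixteen elements is
`PSL₂(2^a)`.
-/

set_option autoImplicit false
set_option linter.unusedSectionVars false
set_option linter.style.haveILetI false

namespace Cfsg.Lib.WalterBig

open Subgroup Cfsg.Lib
open Cfsg.Lib.Sig.CoreSep (C quo)

universe u

theorem below : ∀ n : ℕ, Below.{u} n := by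
  intro n
  induction n with
  | zero => intro G _ _ _ h; exact absurd h (Nat.not_lt_zero _)
  | succ n ih =>
    intro G _ _ _ hlt hna S hS hbig
    haveI := fact_two
    have ih' : Below.{u} (Nat.card G) := fun J _ _ _ hJ => ih J (by omega)
    -- no components
    have hno : ∀ a ∈ (S : Subgroup G), a ≠ 1 →
        ∀ Y : Subgroup (↥(C a) ⧸ Cfsg.pPrimeCore 2 ↥(C a)), ¬ Cfsg.IsComponent Y := by
      intro a ha ha1 Y hY
      by_cases hel : ∀ v ∈ (S : Subgroup G), v * v = 1
      · exact false_of_component hS hna ih' hel (hbig.resolve_left (not_not.2 hel)) ha ha1 hY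
      obtain ⟨hW2, h4, -⟩ := component_facts S hS hna ih' ha ha1 hY
      obtain ⟨⟨v, hv⟩, hv1⟩ : ∃ v : wPart (S : Subgroup G) a Y, v ≠ 1 := by
        haveI : Nontrivial (wPart (S : Subgroup G) a Y) := Finite.one_lt_card_iff_nontrivial.1 (by omega)
        exact exists_ne 1
      obtain ⟨y, hy, rfl⟩ := exists_sqrt hna S hS hel v hv.1 (hW2 v hv)
      rw [← wPart_sup_kPart S hS ha hY] at hy
      obtain ⟨w, hw, k, hk, rfl⟩ := (Core.mem_sup_of_commute (Core.commutator_eq_bot_iff_forall.2
        fun w (hw : w ∈ wPart (S : Subgroup G) a Y) k (hk : k ∈ kPart (S : Subgroup G) a Y) =>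
          AbTwo.comm_of_mem hS hw.1 hk.1)).1 hy
      have e : w * k * (w * k) = k * k := by
        rw [Commute.mul_mul_mul_comm (AbTwo.comm_of_mem hS hk.1 hw.1), hW2 w hw, one_mul]
      have hm : w * k * (w * k) ∈ wPart (S : Subgroup G) a Y ⊓ kPart (S : Subgroup G) a Y :=
        ⟨hv, e ▸ mul_mem hk hk⟩
      rw [wPart_inf_kPart S hS ha hY, mem_bot] at hm
      exact hv1 (Subtype.ext hm)
    have hsolvS : ∀ a ∈ (S : Subgroup G), a ≠ 1 → Group.IsSolvable ↥(C a) := by
      intro a ha ha1
      obtain ⟨T, -, hTc⟩ := exists_sylow_quo S hS ha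
      haveI := isSolvable_of_no_component Core.pPrimeCore_quotient_eq_bot T hTc (hno a ha ha1)
      haveI : Group.IsSolvable ↥(Cfsg.pPrimeCore 2 ↥(C a)) :=
        isSolvable_of_odd_card (Nat.coprime_two_right.1 (Core.pPrimeCore_coprime 2 ↥(C a)))
      exact Group.isSolvable_of_ker_le_range (Cfsg.pPrimeCore 2 ↥(C a)).subtype (quo a)
        (by rw [QuotientGroup.ker_mk', range_subtype])
    have hyp : AbTwo.Hyp G := by
      refine ⟨AbTwo.abelian_of_one S hS, fun t ht => ?_⟩
      obtain ⟨h, hh⟩ := Invol.exists_conj_mem_sylow S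
        (IsPGroup.of_card (n := 1) (by rw [Nat.card_zpowers, ht, pow_one]) : IsPGroup 2 (zpowers t))
      have ha1 : h * t * h⁻¹ ≠ 1 := fun e => by
        rw [conj_eq_one_iff] at e
        rw [e, orderOf_one] at ht
        omega
      haveI := hsolvS _ (hh t (mem_zpowers t)) ha1
      let f : ↥(centralizer ({t} : Set G)) →* ↥(C (h * t * h⁻¹)) :=
        ((MulAut.conj h).toMonoidHom.comp (centralizer ({t} : Set G)).subtype).codRestrict _ fun v =>
          mem_centralizer_singleton_iff.2 (by
            show h * v * h⁻¹ * (h * t * h⁻¹) = h * t * h⁻¹ * (h * v * h⁻¹)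
            rw [show h * (v : G) * h⁻¹ * (h * t * h⁻¹) = h * ((v : G) * t) * h⁻¹ by group,
              mem_centralizer_singleton_iff.1 v.2]
            group)
      exact Group.isSolvable_of_isSolvable_injective (f := f) fun u v e =>
        Subtype.ext ((MulAut.conj h).injective (congrArg Subtype.val e))
    exact pslTwoPow_of_good hna S hS hbig (AbTwo.goodPSL_of_simple hna hyp)

/-- A simple group with an abelian Sylow two-subgroup that is not elementary or has order at least sixteen
is `PSL₂(2^a)`. -/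
theorem big {G : Type u} [Group G] [Finite G] [IsSimpleGroup G] (hna : ¬ IsMulCommutative G) (S : Sylow 2 G)
    (hS : IsMulCommutative ↥(S : Subgroup G))
    (hbig : ¬ (∀ v ∈ (S : Subgroup G), v * v = 1) ∨ 16 ≤ Nat.card (S : Subgroup G)) : IsPSLTwoPow G :=
  below (Nat.card G + 1) G (Nat.lt_succ_self _) hna S hS hbig

end Cfsg.Lib.WalterBig
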