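import Cfsg.Agent.Lib.WalterBig.Main
import Cfsg.Agent.Lib.CpClosed.AbelianTwo.LTwo
import Cfsg.Agent.Lib.CompositeOrder.Simple
import Cfsg.Prelude.Def_Sporadic
import Cfsg.Prelude.Def_Exceptional

/-!
# Simple groups with abelian Sylow two-subgroups

The list, given the classification for Sylow two-subgroups of order eight.
-/

set_option autoImplicit false
set_option linter.style.haveILetI false

namespace Cfsg.Lib.WalterBig

open Subgroup Cfsg.Lib

universe u

theorem not_abTwo_alt_seven : ¬ CpClosed.AbelianTwo.AbTwo (alternatingGroup (Fin 7)) := fun h => by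
  let a : alternatingGroup (Fin 7) := ⟨Equiv.swap 1 2 * Equiv.swap 3 4, Equiv.Perm.mem_alternatingGroup.2 (by decide +kernel)⟩
  let t : alternatingGroup (Fin 7) := ⟨Equiv.swap 1 3 * Equiv.swap 5 6, Equiv.Perm.mem_alternatingGroup.2 (by decide +kernel)⟩
  exact absurd (h.dihedral (a := a) (t := t) (by decide +kernel) (by decide +kernel) (k := 2) (by decide +kernel))
    (by decide +kernel)

/-- The list, with the case of Sylow subgroups of order eight as a hypothesis. -/
theorem simple_list {G : Type u} [Group G] [Finite G] [IsSimpleGroup G] (hna : ¬ IsMulCommutative G)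
    (S : Sylow 2 G) (hS : IsMulCommutative ↥(S : Subgroup G))
    (h8 : Nat.card ↥(S : Subgroup G) = 8 →
      (∃ (F : Type) (_ : Field F) (_ : Fintype F), Fintype.card F = 8 ∧
          Nonempty (G ≃* Matrix.ProjectiveSpecialLinearGroup (Fin 2) F)) ∨
      (∃ (F : Type) (_ : Field F) (_ : Fintype F), (Fintype.card F % 16 = 7 ∨ Fintype.card F % 16 = 9) ∧
          Nonempty (G ≃* Matrix.ProjectiveSpecialLinearGroup (Fin 2) F)) ∨
      Nonempty (G ≃* alternatingGroup (Fin 7)) ∨ Cfsg.IsJ1 G ∨ Cfsg.IsRee G) :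
    (∃ a : ℕ, 2 ≤ a ∧ ∃ (F : Type) (_ : Field F) (_ : Fintype F), Fintype.card F = 2 ^ a ∧
        Nonempty (G ≃* Matrix.ProjectiveSpecialLinearGroup (Fin 2) F)) ∨
      (∃ (F : Type) (_ : Field F) (_ : Fintype F), (Fintype.card F % 8 = 3 ∨ Fintype.card F % 8 = 5) ∧
        Nonempty (G ≃* Matrix.ProjectiveSpecialLinearGroup (Fin 2) F)) ∨
      Cfsg.IsRee G ∨ Cfsg.IsJ1 G := by
  haveI := fact_two
  by_cases hbig : ¬ (∀ v ∈ (S : Subgroup G), v * v = 1) ∨ 16 ≤ Nat.card ↥(S : Subgroup G)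
  · obtain ⟨a, F, i, j, ha, hF, he⟩ := big hna S hS hbig
    exact Or.inl ⟨a, ha, F, i, j, hF, he⟩
  rw [not_or, not_not, not_le] at hbig
  obtain ⟨hel, h16⟩ := hbig
  have h4 := four_le_card hna S hS
  obtain ⟨k, hk⟩ := S.isPGroup'.exists_card_eq
  rw [hk] at h4 h16
  rcases k with _ | _ | _ | _ | k
  · norm_num at h4
  · norm_num at h4
  · obtain ⟨F, i, j, -, hq, he⟩ :=
      CompOrd.psl_of_sylow_four hna S hk (fun x hx => by rw [pow_two]; exact hel x hx)
    exact Or.inr (Or.inl ⟨F, i, j, hq, he⟩)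
  · have hab : CpClosed.AbelianTwo.AbTwo G :=
      CpClosed.AbelianTwo.abTwo_of_sylow fun T => AbTwo.abelian_of_one S hS T
    rcases h8 hk with ⟨F, i, j, hF, he⟩ | ⟨F, i, j, hq, ⟨e⟩⟩ | ⟨⟨e⟩⟩ | h | h
    · exact Or.inl ⟨3, by norm_num, F, i, j, by rw [hF]; norm_num, he⟩
    · exact absurd (hab.of_equiv e.symm) (CpClosed.AbelianTwo.not_abTwo_psl_two (by omega))
    · exact absurd (hab.of_equiv e.symm) not_abTwo_alt_seven
    · exact Or.inr (Or.inr (Or.inr h))
    · exact Or.inr (Or.inr (Or.inl h))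
  · exact absurd (Nat.pow_le_pow_right two_pos (show 4 ≤ k + 1 + 1 + 1 + 1 by omega)) (by omega)

end Cfsg.Lib.WalterBig
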