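import Cfsg.Agent.Lib.Sig.CoreSeparated

/-!
# Blocks of a Sylow two-subgroup

The data left by the local analysis: the Sylow subgroup is a product of at least three blocks permuted
by its normalizer, every component of an involution centralizer modulo core is centralized by the
complement of a block, and each block is the Sylow subgroup of a component.
-/

set_option autoImplicit false
set_option linter.unusedVariables false

namespace Cfsg.Lib.WalterBig

open Subgroup
open Cfsg.Lib.Sig.CoreSep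

universe u v

variable {G : Type u} [Group G] [Finite G]

/-- A block system of a Sylow two-subgroup. -/
structure Frame (S : Sylow 2 G) {ι : Type v} (W K : ι → Subgroup G) : Prop where
  elem : Cfsg.IsElementaryAbelian 2 (S : Subgroup G)
  three : 3 ≤ Nat.card ι
  W_le : ∀ i, W i ≤ (S : Subgroup G)
  K_le : ∀ i, K i ≤ (S : Subgroup G)
  split : ∀ i, W i ⊔ K i = (S : Subgroup G)
  disj : ∀ i, W i ⊓ K i = ⊥
  le_K : ∀ i j, i ≠ j → W j ≤ K i
  four : ∀ i, 4 ≤ Nat.card (W i)
  perm : ∀ g ∈ normalizer ((S : Subgroup G) : Set G), ∀ i, ∃ j,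
    (W i).map (MulAut.conj g).toMonoidHom = W j ∧ (K i).map (MulAut.conj g).toMonoidHom = K j
  sep : ∀ a ∈ (S : Subgroup G), a ≠ 1 →
    ∀ Y : Subgroup (↥(C a) ⧸ Cfsg.pPrimeCore 2 ↥(C a)), Cfsg.IsComponent Y →
      ∃ i, img a (K i) ≤ centralizer (SetLike.coe Y)
  comp : ∀ i, ∀ t ∈ K i, t ≠ 1 → ∃ Y : Subgroup (↥(C t) ⧸ Cfsg.pPrimeCore 2 ↥(C t)), Cfsg.IsComponent Y ∧
    img t (W i) = img t (S : Subgroup G) ⊓ Y ∧ img t (K i) ≤ centralizer (SetLike.coe Y)

end Cfsg.Lib.WalterBig
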