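import Cfsg.Agent.Lib.WalterBig.Components
import Cfsg.Agent.Lib.WalterBig.Frame
import Cfsg.Agent.Lib.Sig.PConstrained

/-!
# The subgroups of the blocks in the centralisers of their complements

For each block the normal closure of `W i` in `C(K i)` covers, modulo the core of an involution
centraliser, every component centralised by `K i`, and lies in the component of the block.
-/

set_option autoImplicit false
set_option linter.unusedSectionVars false
set_option linter.style.haveILetI false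

namespace Cfsg.Lib.WalterBig

open Subgroup Cfsg.Lib
open Cfsg.Lib.Sig.CoreSep (O C img quo)

universe u v

variable {G : Type u} [Group G] [Finite G]

/-- The normal closure of `W` in the centralizer of `K`. -/
def blockClosure (W K : Subgroup G) : Subgroup G :=
  (normalClosure ((W.subgroupOf (centralizer (K : Set G)) : Subgroup _) : Set ↥(centralizer (K : Set G)))).map
    (centralizer (K : Set G)).subtype

theorem blockClosure_le (W K : Subgroup G) : blockClosure W K ≤ centralizer (K : Set G) := map_subtype_le _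

theorem le_blockClosure {W K : Subgroup G} (hW : W ≤ centralizer (K : Set G)) : W ≤ blockClosure W K := fun w hw =>
  ⟨⟨w, hW hw⟩, subset_normalClosure (mem_subgroupOf.2 hw), rfl⟩

theorem centralizer_le_normalizer_blockClosure (W K : Subgroup G) :
    centralizer (K : Set G) ≤ normalizer (blockClosure W K : Set G) := by
  refine Core.le_normalizer_iff_conj_mem.2 fun g hg => ?_
  rintro _ ⟨y, hy, rfl⟩
  exact ⟨⟨g, hg⟩ * y * ⟨g, hg⟩⁻¹, normalClosure_normal.conj_mem y hy _, rfl⟩

theorem blockClosure_le_of {W K N : Subgroup G} (hW : W ≤ N)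
    (hN : centralizer (K : Set G) ≤ normalizer (N : Set G)) : blockClosure W K ≤ N := by
  haveI : (N.subgroupOf (centralizer (K : Set G))).Normal := ⟨fun y hy g => mem_subgroupOf.2
    (Core.le_normalizer_iff_conj_mem.1 hN g g.2 y (mem_subgroupOf.1 hy))⟩
  rintro _ ⟨y, hy, rfl⟩
  exact mem_subgroupOf.1 (normalClosure_le_normal (N := N.subgroupOf (centralizer (K : Set G)))
    (fun z hz => mem_subgroupOf.2 (hW (mem_subgroupOf.1 hz))) hy)

theorem blockClosure_map_conj (W K : Subgroup G) (g : G) :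
    (blockClosure W K).map (MulAut.conj g).toMonoidHom ≤
      blockClosure (W.map (MulAut.conj g).toMonoidHom) (K.map (MulAut.conj g).toMonoidHom) := by
  rw [map_le_iff_le_comap]
  intro x hx
  let Z := centralizer (K : Set G)
  have hZ : ∀ z ∈ Z, g * z * g⁻¹ ∈ centralizer ((K.map (MulAut.conj g).toMonoidHom : Subgroup G) : Set G) := fun z hz =>
    mem_centralizer_iff.2 fun y hy => by
      obtain ⟨k, hk, rfl⟩ := hy
      show g * k * g⁻¹ * (g * z * g⁻¹) = g * z * g⁻¹ * (g * k * g⁻¹)
      calc g * k * g⁻¹ * (g * z * g⁻¹) = g * (k * z) * g⁻¹ := by group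
        _ = g * (z * k) * g⁻¹ := by rw [mem_centralizer_iff.1 hz k hk]
        _ = _ := by group
  let f : Z →* centralizer ((K.map (MulAut.conj g).toMonoidHom : Subgroup G) : Set G) :=
    ((MulAut.conj g).toMonoidHom.comp Z.subtype).codRestrict _ fun z => hZ z z.2
  haveI := (normalClosure_normal (s := (((W.map (MulAut.conj g).toMonoidHom).subgroupOf
    (centralizer ((K.map (MulAut.conj g).toMonoidHom : Subgroup G) : Set G)) : Subgroup _) :
      Set ↥(centralizer ((K.map (MulAut.conj g).toMonoidHom : Subgroup G) : Set G))))).comap f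
  obtain ⟨y, hy, rfl⟩ := hx
  have h1 := normalClosure_le_normal (N := (normalClosure (((W.map (MulAut.conj g).toMonoidHom).subgroupOf
    (centralizer ((K.map (MulAut.conj g).toMonoidHom : Subgroup G) : Set G)) : Subgroup _) :
      Set ↥(centralizer ((K.map (MulAut.conj g).toMonoidHom : Subgroup G) : Set G)))).comap f)
    (s := ((W.subgroupOf Z : Subgroup Z) : Set Z))
    (fun z hz => subset_normalClosure (mem_subgroupOf.2 ⟨z, mem_subgroupOf.1 hz, rfl⟩)) hy
  exact ⟨f y, h1, rfl⟩

namespace Frame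

variable {S : Sylow 2 G} {ι : Type v} {W K : ι → Subgroup G} (h : Frame S W K)
include h

theorem W_le_centralizer (i : ι) : W i ≤ centralizer (K i : Set G) := fun w hw => mem_centralizer_iff.2 fun k hk => by
  haveI := h.elem.1
  exact setLike_mul_comm (h.K_le i hk) (h.W_le i hw)

theorem S_le_C {a : G} (ha : a ∈ (S : Subgroup G)) : (S : Subgroup G) ≤ C a := fun s hs => by
  haveI := h.elem.1
  exact mem_centralizer_singleton_iff.2 (setLike_mul_comm hs ha)

theorem exists_quo_sylow {a : G} (ha : a ∈ (S : Subgroup G)) :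
    ∃ T : Sylow 2 (↥(C a) ⧸ Cfsg.pPrimeCore 2 ↥(C a)), (T : Subgroup _) = img a (S : Subgroup G) ∧
      IsMulCommutative ↥(T : Subgroup (↥(C a) ⧸ Cfsg.pPrimeCore 2 ↥(C a))) := by
  haveI : Fact (Nat.Prime 2) := ⟨Nat.prime_two⟩
  let f := quo a
  have hf : Function.Surjective f := QuotientGroup.mk'_surjective _
  refine ⟨(S.subtype (h.S_le_C ha)).mapSurjective hf, rfl, ⟨⟨?_⟩⟩⟩
  rintro ⟨_, x, hx, rfl⟩ ⟨_, y, hy, rfl⟩
  refine Subtype.ext ?_
  show f x * f y = f y * f x
  rw [← map_mul, ← map_mul]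
  refine congrArg f (Subtype.ext ?_)
  haveI := h.elem.1
  exact setLike_mul_comm (show (x : G) ∈ (S : Subgroup G) from hx) (show (y : G) ∈ (S : Subgroup G) from hy)

theorem img_eq_sup {a : G} (ha : a ∈ (S : Subgroup G)) (i : ι) :
    img a (S : Subgroup G) = img a (W i) ⊔ img a (K i) := by
  rw [img, img, img, ← Subgroup.map_sup, ← subgroupOf_sup ((h.W_le i).trans (h.S_le_C ha))
    ((h.K_le i).trans (h.S_le_C ha)), h.split i]

/-- A component centralised by the complement of a block is covered by the closure of the block. -/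
theorem component_le_img {a : G} (ha : a ∈ (S : Subgroup G)) (i : ι)
    {Y : Subgroup (↥(C a) ⧸ Cfsg.pPrimeCore 2 ↥(C a))} (hY : Cfsg.IsComponent Y)
    (hK : img a (K i) ≤ centralizer (SetLike.coe Y)) : Y ≤ img a (blockClosure (W i) (K i)) := by
  haveI : Fact (Nat.Prime 2) := ⟨Nat.prime_two⟩
  obtain ⟨T, hT, hTc⟩ := h.exists_quo_sylow ha
  have hO : Cfsg.oddCore (↥(C a) ⧸ Cfsg.pPrimeCore 2 ↥(C a)) = ⊥ := Core.pPrimeCore_quotient_eq_bot
  set f := quo a
  set H := centralizer ((img a (K i) : Subgroup _) : Set (↥(C a) ⧸ Cfsg.pPrimeCore 2 ↥(C a)))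
  have hKS : K i ≤ C a := (h.K_le i).trans (h.S_le_C ha)
  have hHeq : H = (centralizer (((K i).subgroupOf (C a) : Subgroup _) : Set ↥(C a))).map f :=
    Sig.centralizer_map_mk' _ (Core.pPrimeCore_coprime 2 ↥(C a))
      ((S.isPGroup'.to_le (h.K_le i)).comap_of_injective _ (C a).subtype_injective)
  have hYH : Y ≤ H := fun y hy => mem_centralizer_iff.2 fun k hk => (mem_centralizer_iff.1 (hK hk) y hy).symm
  set N := img a (blockClosure (W i) (K i)) with hN
  have hmem : ∀ x : C a, x ∈ centralizer (((K i).subgroupOf (C a) : Subgroup _) : Set ↥(C a)) →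
      (x : G) ∈ centralizer (K i : Set G) := fun x hx => mem_centralizer_iff.2 fun k hk =>
    congrArg Subtype.val (mem_centralizer_iff.1 hx ⟨k, hKS hk⟩ (mem_subgroupOf.2 hk))
  have hNH : N ≤ H := by
    rw [hHeq]
    exact map_mono fun x hx => mem_centralizer_iff.2 fun k hk => Subtype.ext
      (mem_centralizer_iff.1 (blockClosure_le (W i) (K i) (mem_subgroupOf.1 hx)) k (mem_subgroupOf.1 hk))
  have hnN : (N.subgroupOf H).Normal := by
    refine (normal_subgroupOf_iff_le_normalizer hNH).2 ?_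
    rw [hHeq]
    refine le_trans (map_mono fun c hc => ?_) (le_normalizer_map f)
    have hcG := centralizer_le_normalizer_blockClosure (W i) (K i) (hmem c hc)
    refine Subgroup.mem_normalizer_iff.2 fun z => ?_
    simp only [mem_subgroupOf, Subgroup.coe_mul, Subgroup.coe_inv]
    exact Subgroup.mem_normalizer_iff.1 hcG z
  rcases Core.component_le_or_commute (Core.IsComponent.subgroupOf hY hYH) hnN.isSubnormal with h1 | h1
  · exact fun y hy => mem_subgroupOf.1 (h1 (mem_subgroupOf.2 hy : (⟨y, hYH hy⟩ : H) ∈ Y.subgroupOf H))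
  · exfalso
    have hWY : img a (W i) ≤ centralizer (SetLike.coe Y) := by
      intro w hw
      have hwN : w ∈ N := map_mono (comap_mono (le_blockClosure (h.W_le_centralizer i))) hw
      refine mem_centralizer_iff.2 fun y hy => ?_
      exact congrArg Subtype.val (Core.commutator_eq_bot_iff_forall.1 h1 ⟨y, hYH hy⟩ (mem_subgroupOf.2 hy)
        ⟨w, hNH hwN⟩ (mem_subgroupOf.2 hwN))
    have hTY : (T : Subgroup _) ≤ centralizer (SetLike.coe Y) := by
      rw [hT, h.img_eq_sup ha i]; exact sup_le hWY hK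
    refine inf_component_ne_bot T hTc hY (le_bot_iff.1 ?_)
    refine le_trans ?_ (inf_centralizer_component hO T hTc hY).le
    exact le_inf inf_le_right (inf_le_left.trans hTY)

/-- Only one component is centralised by the complement of a block. -/
theorem component_unique {t : G} (ht : t ∈ (S : Subgroup G)) (i : ι)
    {Y Y' : Subgroup (↥(C t) ⧸ Cfsg.pPrimeCore 2 ↥(C t))} (hY : Cfsg.IsComponent Y) (hY' : Cfsg.IsComponent Y')
    (hW : img t (W i) ≤ Y) (hK : img t (K i) ≤ centralizer (SetLike.coe Y))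
    (hK' : img t (K i) ≤ centralizer (SetLike.coe Y')) : Y' = Y := by
  by_contra hne
  obtain ⟨T, hT, hTc⟩ := h.exists_quo_sylow ht
  have hO : Cfsg.oddCore (↥(C t) ⧸ Cfsg.pPrimeCore 2 ↥(C t)) = ⊥ := Core.pPrimeCore_quotient_eq_bot
  obtain ⟨s, hs, hs1⟩ := ((T : Subgroup _) ⊓ Y').bot_or_exists_ne_one.resolve_left
    (inf_component_ne_bot T hTc hY')
  apply hs1
  have hsS : s ∈ img t (W i) ⊔ img t (K i) := by rw [← h.img_eq_sup ht i, ← hT]; exact hs.1
  have hnorm : img t (K i) ≤ normalizer (img t (W i) : Set _) := by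
    refine le_trans (fun k hk => mem_centralizer_iff.2 fun w hw => ?_) (centralizer_le_normalizer _)
    exact mem_centralizer_iff.1 (hK hk) w (hW hw)
  rw [← SetLike.mem_coe, coe_mul_of_right_le_normalizer_left _ _ hnorm] at hsS
  obtain ⟨w, hw, k, hk, rfl⟩ := hsS
  have hsY : w * k ∈ centralizer (SetLike.coe Y) := component_disjoint hO T hTc hY hY' (Ne.symm hne) hs.2
  have hwY : w ∈ Y ⊓ centralizer (SetLike.coe Y) :=
    ⟨hW hw, (Subgroup.mul_mem_cancel_right _ (hK hk)).1 hsY⟩
  rw [inf_centralizer_component hO T hTc hY, mem_bot] at hwY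
  have h2 : w * k ∈ Y' ⊓ centralizer (SetLike.coe Y') := ⟨hs.2, by rw [hwY, one_mul]; exact hK' hk⟩
  rw [inf_centralizer_component hO T hTc hY', mem_bot] at h2
  exact h2

/-- The closure of a block lies in the component of the block. -/
theorem exists_component_ge {t : G} (i : ι) (ht : t ∈ K i) (ht1 : t ≠ 1) :
    ∃ Y : Subgroup (↥(C t) ⧸ Cfsg.pPrimeCore 2 ↥(C t)), Cfsg.IsComponent Y ∧
      img t (blockClosure (W i) (K i)) ≤ Y ∧ img t (K i) ≤ centralizer (SetLike.coe Y) := by
  have htS := h.K_le i ht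
  obtain ⟨Y, hY, hWY, hKY⟩ := h.comp i t ht ht1
  have hW : img t (W i) ≤ Y := hWY.le.trans inf_le_right
  refine ⟨Y, hY, ?_, hKY⟩
  set f := quo t
  let N : Subgroup G := ((Y.comap f).map (C t).subtype) ⊓ centralizer (K i : Set G)
  have hCt : centralizer (K i : Set G) ≤ C t := centralizer_le (Set.singleton_subset_iff.2 ht)
  have hle : blockClosure (W i) (K i) ≤ N := by
    refine blockClosure_le_of (le_inf (fun w hw => ⟨⟨w, hCt (h.W_le_centralizer i hw)⟩, ?_, rfl⟩)
      (h.W_le_centralizer i)) ?_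
    · exact hW ⟨_, mem_subgroupOf.2 hw, rfl⟩
    refine Core.le_normalizer_iff_conj_mem.2 fun g hg => ?_
    rintro x ⟨⟨y, hy, rfl⟩, hx⟩
    refine ⟨⟨⟨g, hCt hg⟩ * y * ⟨g, hCt hg⟩⁻¹, ?_, rfl⟩, (centralizer (K i : Set G)).mul_mem ((centralizer (K i : Set G)).mul_mem hg hx) ((centralizer (K i : Set G)).inv_mem hg)⟩
    set g' := f ⟨g, hCt hg⟩ with hg'
    have heq : Y.map (MulAut.conj g').toMonoidHom = Y := by
      refine h.component_unique htS i hY (Core.IsComponent.map_conj hY g') hW hKY ?_
      intro k hk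
      refine mem_centralizer_iff.2 ?_
      rintro _ ⟨z, hz, rfl⟩
      have hcomm : g' * k = k * g' := by
        obtain ⟨k0, hk0, rfl⟩ := hk
        rw [hg', ← map_mul, ← map_mul]
        exact congrArg f (Subtype.ext (mem_centralizer_iff.1 hg k0 (mem_subgroupOf.1 hk0)).symm)
      show g' * z * g'⁻¹ * k = k * (g' * z * g'⁻¹)
      have hk' : g'⁻¹ * k = k * g'⁻¹ := ((show Commute g' k from hcomm).inv_left).eq
      calc g' * z * g'⁻¹ * k = g' * (z * k) * g'⁻¹ := by rw [mul_assoc _ g'⁻¹ k, hk']; group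
        _ = g' * (k * z) * g'⁻¹ := by rw [mem_centralizer_iff.1 (hKY hk) z hz]
        _ = k * (g' * z * g'⁻¹) := by rw [← mul_assoc g', hcomm]; group
    show f (⟨g, hCt hg⟩ * y * ⟨g, hCt hg⟩⁻¹) ∈ Y
    rw [map_mul, map_mul, map_inv, ← heq]
    exact ⟨f y, hy, rfl⟩
  rintro _ ⟨x, hx, rfl⟩
  obtain ⟨⟨y, hy, e⟩, -⟩ := hle (mem_subgroupOf.1 hx)
  rw [← Subtype.ext (show (y : G) = x from e)]
  exact hy

end Frame

end Cfsg.Lib.WalterBig
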