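import Cfsg.Agent.Lib.WalterBig.Signalizer
import Cfsg.Agent.Lib.WalterBig.Residual
import Cfsg.Agent.Lib.Fusion.Abelian

/-!
# A simple group has no block system

There is a proper subgroup containing the normalizer of the Sylow subgroup and all its involution
centralizers, so all involutions are conjugate, but the normalizer permutes the blocks.
-/

set_option autoImplicit false
set_option linter.unusedSectionVars false
set_option linter.style.haveILetI false

namespace Cfsg.Lib.WalterBig

open Subgroup Cfsg.Lib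
open Cfsg.Lib.Sig.CoreSep (O C img quo)
open Cfsg.Lib.Goldschmidt.Product (Four Wc ft theta_le_Wc Wc_map_conj_le)
open scoped commutatorElement

universe u v

variable {G : Type u} [Group G] [Finite G]

/-- Involutions are conjugate or commute with a common involution. -/
theorem conj_or_exists_commute {s t : G} (hs : s * s = 1) (ht : t * t = 1) :
    (∃ g : G, g * s * g⁻¹ = t) ∨ ∃ w : G, w * w = 1 ∧ w ≠ 1 ∧ w * s = s * w ∧ w * t = t * w := by
  set x := s * t with hx
  have hsi : s⁻¹ = s := inv_eq_of_mul_eq_one_right hs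
  have hti : t⁻¹ = t := inv_eq_of_mul_eq_one_right ht
  have htx : t = s * x := by rw [hx, ← mul_assoc, hs, one_mul]
  have hconj : ∀ k : ℕ, s * x ^ k * s = (x ^ k)⁻¹ := fun k => by
    have h1 : (MulAut.conj s) (x ^ k) = ((MulAut.conj s) x) ^ k := map_pow _ _ _
    simp only [MulAut.conj_apply, hsi] at h1
    rw [h1, show s * x * s = x⁻¹ by rw [hx, mul_inv_rev, hti, hsi, ← mul_assoc, hs, one_mul], inv_pow]
  rcases Nat.even_or_odd (orderOf x) with ⟨m, hm⟩ | ⟨m, hm⟩
  · right
    have hpos := orderOf_pos x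
    have hw2 : x ^ m * x ^ m = 1 := by rw [← pow_add, ← hm, pow_orderOf_eq_one]
    have hws : x ^ m * s = s * x ^ m := by
      have h1 := hconj m
      rw [inv_eq_of_mul_eq_one_right hw2] at h1
      calc x ^ m * s = s * x ^ m * s * s := by rw [h1]
        _ = s * x ^ m := by rw [mul_assoc, hs, mul_one]
    refine ⟨x ^ m, hw2, fun e => ?_, hws, ?_⟩
    · have := Nat.le_of_dvd (by omega) (orderOf_dvd_of_pow_eq_one e)
      omega
    · rw [htx, ← mul_assoc, hws, mul_assoc, mul_assoc, ← pow_succ, pow_succ']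
  · left
    refine ⟨x ^ m, ?_⟩
    have h1 : x ^ m * s * (x ^ m)⁻¹ = x ^ (m + m) * s := by
      rw [← hconj m, pow_add]
      calc x ^ m * s * (s * x ^ m * s) = x ^ m * (s * s) * x ^ m * s := by group
        _ = _ := by rw [hs, mul_one]
    rw [h1]
    have h2 : x ^ (m + m) = x⁻¹ := by
      rw [eq_inv_iff_mul_eq_one, ← pow_succ, show m + m + 1 = orderOf x by omega, pow_orderOf_eq_one]
    rw [h2, hx, mul_inv_rev, hti, hsi, mul_assoc, hs, mul_one]

namespace Frame

variable {S : Sylow 2 G} {ι : Type v} {W K : ι → Subgroup G} (h : Frame S W K)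
include h

/-- A subgroup with the closures of the blocks covers a centraliser modulo its core. -/
theorem C_le_of_core {M : Subgroup G} (hN : normalizer ((S : Subgroup G) : Set G) ≤ M)
    (hP : ∀ k, blockClosure (W k) (K k) ≤ M) {a : G} (ha : a ∈ (S : Subgroup G)) (ha1 : a ≠ 1)
    (hOa : O a ≤ M) : C a ≤ M := by
  haveI : Fact (Nat.Prime 2) := ⟨Nat.prime_two⟩
  obtain ⟨T, hT, hTc⟩ := h.exists_quo_sylow ha
  have hO : Cfsg.oddCore (↥(C a) ⧸ Cfsg.pPrimeCore 2 ↥(C a)) = ⊥ := Core.pPrimeCore_quotient_eq_bot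
  set f := quo a
  set E : Subgroup (C a) := (Cfsg.layer (↥(C a) ⧸ Cfsg.pPrimeCore 2 ↥(C a)) ⊔
    Cfsg.pCore 2 (↥(C a) ⧸ Cfsg.pPrimeCore 2 ↥(C a))).comap f with hE
  have hker : f.ker ≤ M.subgroupOf (C a) := by
    rw [QuotientGroup.ker_mk']
    exact fun x hx => hOa ⟨x, hx, rfl⟩
  have hmap : ∀ R : Subgroup (↥(C a) ⧸ Cfsg.pPrimeCore 2 ↥(C a)), R ≤ (M.subgroupOf (C a)).map f →
      R.comap f ≤ M.subgroupOf (C a) := fun R hR => by
    refine (comap_mono hR).trans ?_
    rw [comap_map_eq, sup_eq_left.2 hker]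
  have hEM : E ≤ M.subgroupOf (C a) := by
    refine hmap _ (sup_le (sSup_le fun Y hY => ?_) ?_)
    · obtain ⟨i, hi⟩ := h.sep a ha ha1 Y hY
      exact (h.component_le_img ha i hY hi).trans (map_mono (comap_mono (hP i)))
    · refine le_trans ?_ (map_mono (comap_mono (le_normalizer.trans hN)))
      show Cfsg.pCore 2 (↥(C a) ⧸ Cfsg.pPrimeCore 2 ↥(C a)) ≤ img a (S : Subgroup G)
      rw [← hT]
      exact Core.pCore_le_sylow T
  haveI : (Cfsg.layer (↥(C a) ⧸ Cfsg.pPrimeCore 2 ↥(C a))).Characteristic := Core.layer_characteristic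
  haveI : E.Normal := hE ▸ Subgroup.Normal.comap inferInstance f
  have hSE : ((S.subtype (h.S_le_C ha) : Sylow 2 (C a)) : Subgroup (C a)) ≤ E := fun x hx => by
    refine sylow_le_layer_sup hO T hTc ?_
    rw [hT]
    exact mem_map_of_mem f hx
  let P' : Sylow 2 E := (S.subtype (h.S_le_C ha)).subtype hSE
  have htop : normalizer ((P' : Subgroup E).map E.subtype : Set (C a)) ⊔ E = ⊤ := Sylow.normalizer_sup_eq_top P'
  intro g hg
  have hg' : (⟨g, hg⟩ : C a) ∈ M.subgroupOf (C a) := by
    have hle : normalizer ((P' : Subgroup E).map E.subtype : Set (C a)) ⊔ E ≤ M.subgroupOf (C a) := by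
      refine sup_le (fun x hx => mem_subgroupOf.2 (hN ?_)) hEM
      have hPS : (P' : Subgroup E).map E.subtype = (S : Subgroup G).subgroupOf (C a) :=
        map_subgroupOf_eq_of_le (H := (S : Subgroup G).subgroupOf (C a)) hSE
      rw [hPS, Core.mem_normalizer_iff_map_conj] at hx
      rw [Core.mem_normalizer_iff_map_conj]
      have h2 := congrArg (fun R : Subgroup (C a) => R.map (C a).subtype) hx
      simp only [map_subgroupOf_eq_of_le (h.S_le_C ha), Subgroup.map_map] at h2
      conv_rhs => rw [← h2]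
      conv_lhs => rw [← map_subgroupOf_eq_of_le (h.S_le_C ha), Subgroup.map_map]
      rfl
    rw [htop] at hle
    exact hle (mem_top _)
  exact mem_subgroupOf.1 hg'

/-- The cores of the block elements suffice. -/
theorem C_le_of {M : Subgroup G} (hN : normalizer ((S : Subgroup G) : Set G) ≤ M)
    (hP : ∀ k, blockClosure (W k) (K k) ≤ M) (hO : ∀ i, ∀ w ∈ W i, w ≠ 1 → O w ≤ M) :
    ∀ a ∈ (S : Subgroup G), a ≠ 1 → C a ≤ M := by
  intro a ha ha1
  refine h.C_le_of_core hN hP ha ha1 ?_
  haveI : Nonempty ι := (Nat.card_pos_iff.1 (by have := h.three; omega)).1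
  obtain ⟨i⟩ := ‹Nonempty ι›
  obtain ⟨A, hA, fA⟩ := h.four_exists_in (h.W_le i) (h.four i)
  have hAS : A ≤ (S : Subgroup G) := hA.trans (h.W_le i)
  haveI := fA.1.1
  have hnc : ¬ IsCyclic A := by
    intro hc
    obtain ⟨g, hg⟩ := hc.exists_generator
    have h4 := orderOf_eq_card_of_forall_mem_zpowers hg
    rw [fA.2] at h4
    have h2 : orderOf g ∣ 2 := orderOf_dvd_of_pow_eq_one (Subtype.ext (fA.1.2 g g.2))
    rw [h4] at h2
    norm_num at h2
  refine (Coprime.le_iSup_centralizer_of_not_isCyclic hnc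
    (hAS.trans ((h.S_le_C ha).trans (Sig.CoreSep.C_le_normalizer_O a)))
    (Goldschmidt.Product.coprime_four fA (Sig.CoreSep.odd_O a))).trans (iSup_le fun w => ?_)
  exact inf_le_right.trans (h.C_le_of_core hN hP (hAS w.2.1) w.2.2 (hO i w (hA w.2.1) w.2.2))

/-- No proper subgroup contains the normaliser of `S` and its involution centralisers. -/
theorem eq_top_of_C_le [IsSimpleGroup G] {M : Subgroup G} (hN : normalizer ((S : Subgroup G) : Set G) ≤ M)
    (hC : ∀ a ∈ (S : Subgroup G), a ≠ 1 → C a ≤ M) : M = ⊤ := by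
  haveI : Fact (Nat.Prime 2) := ⟨Nat.prime_two⟩
  by_contra hM
  have hSM : (S : Subgroup G) ≤ M := le_normalizer.trans hN
  have hCM : ∀ w ∈ M, w * w = 1 → w ≠ 1 → C w ≤ M := by
    intro w hw hw2 hw1
    obtain ⟨Q, hQ⟩ := (show IsPGroup 2 (zpowers (⟨w, hw⟩ : M)) from IsPGroup.of_card (n := 1) (by
      rw [Nat.card_zpowers, pow_one]
      exact orderOf_eq_prime (Subtype.ext (by rw [Subgroup.coe_pow, pow_two]; exact hw2))
        (fun e => hw1 (congrArg Subtype.val e)))).exists_le_sylow
    obtain ⟨m, hm⟩ := MulAction.exists_smul_eq M Q (S.subtype hSM)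
    have hmem : (m : G) * w * (m : G)⁻¹ ∈ (S : Subgroup G) := by
      have : m * ⟨w, hw⟩ * m⁻¹ ∈ (S.subtype hSM : Subgroup M) := by
        rw [← hm, Sylow.coe_subgroup_smul]
        exact ⟨_, hQ (mem_zpowers _), rfl⟩
      exact mem_subgroupOf.1 this
    intro g hg
    have h1 : (m : G) * g * (m : G)⁻¹ ∈ M := hC _ hmem (fun e => hw1 (by
      have := congrArg (fun z => (m : G)⁻¹ * z * m) e
      simpa [mul_assoc] using this)) (mem_centralizer_singleton_iff.2 (by
        have hgw := mem_centralizer_singleton_iff.1 hg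
        calc (m : G) * g * (m : G)⁻¹ * ((m : G) * w * (m : G)⁻¹) = m * (g * w) * (m : G)⁻¹ := by group
          _ = m * (w * g) * (m : G)⁻¹ := by rw [hgw]
          _ = _ := by group))
    have h2 := M.mul_mem (M.mul_mem (M.inv_mem m.2) h1) m.2
    simpa [mul_assoc] using h2
  have hclass : ∀ s ∈ (S : Subgroup G), s ≠ 1 → ∀ t ∈ (S : Subgroup G), t ≠ 1 → ∃ g : G, g * s * g⁻¹ = t := by
    intro s hs hs1 t ht ht1
    by_contra hcon
    -- every conjugate of `t` lies in `M`
    have hall : ∀ g : G, g * t * g⁻¹ ∈ M := by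
      intro g
      have hs2 : s * s = 1 := by rw [← pow_two]; exact h.S_sq hs
      have ht2 : g * t * g⁻¹ * (g * t * g⁻¹) = 1 := by
        rw [show g * t * g⁻¹ * (g * t * g⁻¹) = g * (t * t) * g⁻¹ by group, ← pow_two, h.S_sq ht]; group
      rcases conj_or_exists_commute hs2 ht2 with ⟨x, hx⟩ | ⟨w, hw2, hw1, hws, hwt⟩
      · exfalso
        refine hcon ⟨g⁻¹ * x, ?_⟩
        rw [show g⁻¹ * x * s * (g⁻¹ * x)⁻¹ = g⁻¹ * (x * s * x⁻¹) * g by group, hx]
        group
      · exact hCM w (hC s hs hs1 (mem_centralizer_singleton_iff.2 hws)) hw2 hw1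
          (mem_centralizer_singleton_iff.2 hwt.symm)
    have hle : normalClosure ({t} : Set G) ≤ M := by
      refine (closure_le _).2 ?_
      intro y hy
      obtain ⟨z, hz, hzy⟩ := Group.mem_conjugatesOfSet_iff.1 hy
      rw [Set.mem_singleton_iff] at hz
      subst hz
      obtain ⟨g, rfl⟩ := isConj_iff.1 hzy
      exact hall g
    rcases IsSimpleGroup.eq_bot_or_eq_top_of_normal (normalClosure ({t} : Set G)) normalClosure_normal with e | e
    · exact ht1 (mem_bot.1 (e ▸ subset_normalClosure rfl))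
    · exact hM (top_le_iff.1 (e ▸ hle))
  -- a block element and a mixed element are not conjugate under the normalizer
  haveI : Finite ι := Nat.finite_of_card_ne_zero (by have := h.three; omega)
  haveI : Nontrivial ι := Finite.one_lt_card_iff_nontrivial.1 (by have := h.three; omega)
  obtain ⟨i, j, hij⟩ := exists_pair_ne ι
  obtain ⟨u, hu, hu1⟩ := (W i).bot_or_exists_ne_one.resolve_left (fun e => by
    have := h.four i; rw [e, card_bot] at this; omega)
  obtain ⟨v, hv, hv1⟩ := (W j).bot_or_exists_ne_one.resolve_left (fun e => by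
    have := h.four j; rw [e, card_bot] at this; omega)
  have huS := h.W_le i hu
  have huv : u * v ∈ (S : Subgroup G) := mul_mem huS (h.W_le j hv)
  have hvK : v ∈ K i := h.le_K i j hij hv
  have huK : u ∉ K i := fun e => hu1 (mem_bot.1 ((h.disj i) ▸ (⟨hu, e⟩ : u ∈ W i ⊓ K i)))
  have huv1 : u * v ≠ 1 := fun e => huK (by rw [eq_inv_of_mul_eq_one_left e]; exact inv_mem hvK)
  obtain ⟨g, hg⟩ := hclass u huS hu1 (u * v) huv huv1
  haveI := h.elem.1
  obtain ⟨n, hn, hne⟩ := Fusion.exists_normalizer_conj_of_abelian S (g := g) huS (hg.symm ▸ huv)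
  obtain ⟨l, hWl, -⟩ := h.perm n hn i
  have hmem : u * v ∈ W l := by
    rw [← hWl, ← hg, ← hne]
    exact ⟨u, hu, rfl⟩
  rcases em (l = i) with rfl | hne'
  · have hvW : v ∈ W l := ((W l).mul_mem_cancel_left hu).1 hmem
    exact hv1 (mem_bot.1 ((h.disj l) ▸ (⟨hvW, hvK⟩ : v ∈ W l ⊓ K l)))
  · exact huK (((K i).mul_mem_cancel_right hvK).1 (h.le_K i l (Ne.symm hne') hmem))

theorem blockClosure_perm {g : G} (hg : g ∈ normalizer ((S : Subgroup G) : Set G)) (i : ι) :
    ∃ j, (blockClosure (W i) (K i)).map (MulAut.conj g).toMonoidHom ≤ blockClosure (W j) (K j) := by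
  obtain ⟨j, hW, hK⟩ := h.perm g hg i
  exact ⟨j, hW ▸ hK ▸ blockClosure_map_conj (W i) (K i) g⟩

/-- The closures commute when the complements centralise the cores of the blocks. -/
theorem blockClosure_commute (hcen : ∀ i, ∀ w ∈ W i, w ≠ 1 → ⁅O w, K i⁆ = ⊥) {i j : ι} (hij : i ≠ j) :
    ∀ x ∈ blockClosure (W i) (K i), ∀ y ∈ blockClosure (W j) (K j), x * y = y * x := by
  haveI : Finite ι := Nat.finite_of_card_ne_zero (by have := h.three; omega)
  obtain ⟨l, hli, hlj⟩ : ∃ l, l ≠ i ∧ l ≠ j := by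
    by_contra hcon
    push_neg at hcon
    have := h.three
    have h2 : Nat.card ι ≤ 2 := by
      refine le_trans (Nat.card_le_card_of_surjective (fun b : Bool => if b then i else j) fun l => ?_) (by simp)
      rcases em (l = i) with e | e
      · exact ⟨true, by simp [e]⟩
      · exact ⟨false, by simp [hcon l e]⟩
    omega
  obtain ⟨b, hb, hb1⟩ := (W l).bot_or_exists_ne_one.resolve_left (fun e => by
    have := h.four l; rw [e, card_bot] at this; omega)
  have hbi : b ∈ K i := h.le_K i l hli.symm hb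
  have hbj : b ∈ K j := h.le_K j l hlj.symm hb
  have hbS := h.W_le l hb
  -- the closures centralise the core
  have hPc : ∀ k, k ≠ l → b ∈ K k → blockClosure (W k) (K k) ≤ centralizer (O b : Set G) := by
    intro k hk hbk
    refine blockClosure_le_of ?_ ?_
    · intro w hw
      refine mem_centralizer_iff.2 fun o ho => ?_
      exact Core.commutator_eq_bot_iff_forall.1 (hcen l b hb hb1) o ho w (h.le_K l k hk.symm hw)
    · refine Core.le_normalizer_iff_conj_mem.2 fun g hg x hx => Sig.CoreSep.conj_mem_centralizer ?_ hx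
      exact Sig.CoreSep.C_le_normalizer_O b (centralizer_le (Set.singleton_subset_iff.2 hbk) hg)
  obtain ⟨Y, hY, hPY, hKY⟩ := h.exists_component_ge i hbi hb1
  obtain ⟨Y', hY', hPY', hKY'⟩ := h.exists_component_ge j hbj hb1
  obtain ⟨T, hT, hTc⟩ := h.exists_quo_sylow hbS
  have hO : Cfsg.oddCore (↥(C b) ⧸ Cfsg.pPrimeCore 2 ↥(C b)) = ⊥ := Core.pPrimeCore_quotient_eq_bot
  have hWY : img b (W i) ≤ Y := (map_mono (comap_mono (le_blockClosure (h.W_le_centralizer i)))).trans hPY
  have hne : Y ≠ Y' := by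
    intro e
    subst e
    obtain ⟨Y₀, hY₀, hW₀, hK₀⟩ := h.comp i b hbi hb1
    have e0 : Y = Y₀ := h.component_unique hbS i hY₀ hY (hW₀.le.trans inf_le_right) hK₀ hKY
    have h1 : img b (S : Subgroup G) ⊓ Y ≤ centralizer (SetLike.coe Y) := by
      rw [e0, ← hW₀, ← e0]
      exact (map_mono (comap_mono (h.le_K j i hij.symm))).trans hKY'
    refine inf_component_ne_bot T hTc hY (le_bot_iff.1 ?_)
    refine le_trans ?_ (inf_centralizer_component hO T hTc hY).le
    rw [hT]
    exact le_inf inf_le_right h1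
  have hCb : ∀ k, b ∈ K k → blockClosure (W k) (K k) ≤ C b := fun k hk =>
    (blockClosure_le _ _).trans (centralizer_le (Set.singleton_subset_iff.2 hk))
  set Pi := blockClosure (W i) (K i)
  set Pj := blockClosure (W j) (K j)
  have hcomm : ∀ x ∈ Pi, ∀ y ∈ Pj, ⁅x, y⁆ ∈ O b := by
    intro x hx y hy
    refine ⟨⁅(⟨x, hCb i hbi hx⟩ : C b), ⟨y, hCb j hbj hy⟩⁆, ?_, map_commutatorElement (C b).subtype _ _⟩
    rw [SetLike.mem_coe, ← QuotientGroup.eq_one_iff, ← QuotientGroup.mk'_apply, map_commutatorElement,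
      commutatorElement_eq_one_iff_mul_comm]
    exact (mem_centralizer_iff.1 (component_disjoint hO T hTc hY hY' hne
      (hPY' (mem_map_of_mem (quo b) (mem_subgroupOf.2 hy)))) _
      (hPY (mem_map_of_mem (quo b) (mem_subgroupOf.2 hx))))
  -- generators of order two
  intro x hx y hy
  have hcenO : ∀ z ∈ Pi, ∀ c ∈ O b, z * c = c * z := fun z hz c hc =>
    (mem_centralizer_iff.1 (hPc i hli.symm hbi hz) c hc).symm
  have hinv : ∀ z ∈ Pi, z * z = 1 → z * y = y * z := by
    intro z hz hz2
    have hc := hcomm z hz y hy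
    have hzc := hcenO z hz _ hc
    have h2 : ⁅z, y⁆ * ⁅z, y⁆ = 1 := by
      calc ⁅z, y⁆ * ⁅z, y⁆ = z * ⁅z, y⁆ * z⁻¹ * ⁅z, y⁆ := by rw [hzc]; group
        _ = z * z * y * (z * z)⁻¹ * y⁻¹ := by rw [commutatorElement_def]; group
        _ = 1 := by rw [hz2]; group
    rw [← commutatorElement_eq_one_iff_mul_comm]
    obtain ⟨m, hm⟩ := (Sig.CoreSep.odd_O b).of_dvd_nat
      ((orderOf_submonoid (⟨_, hc⟩ : O b)).symm ▸ orderOf_dvd_natCard (⟨⁅z, y⁆, hc⟩ : O b))
    have h3 := orderOf_dvd_of_pow_eq_one (show ⁅z, y⁆ ^ 2 = 1 by rw [pow_two, h2])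
    rw [← orderOf_eq_one_iff]
    rcases (Nat.dvd_prime Nat.prime_two).1 h3 with e | e
    · exact e
    · change orderOf ⁅z, y⁆ = _ at hm; omega
  have hle : Pi ≤ centralizer ({y} : Set G) := by
    rintro _ ⟨c, hc, rfl⟩
    have hsub : normalClosure ((((W i).subgroupOf (centralizer (K i : Set G))) : Subgroup _) :
        Set ↥(centralizer (K i : Set G))) ≤ (centralizer ({y} : Set G)).comap (centralizer (K i : Set G)).subtype := by
      refine (closure_le _).2 ?_
      intro q hq
      obtain ⟨p, hp, hpq⟩ := Group.mem_conjugatesOfSet_iff.1 hq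
      obtain ⟨d, rfl⟩ := isConj_iff.1 hpq
      refine mem_centralizer_singleton_iff.2 (hinv _ ⟨d * p * d⁻¹, ?_, rfl⟩ ?_)
      · exact normalClosure_normal.conj_mem p (subset_normalClosure hp) d
      · have hp2 : (p : G) * p = 1 := by rw [← pow_two]; exact h.S_sq (h.W_le i (mem_subgroupOf.1 hp))
        show (d : G) * p * (d : G)⁻¹ * ((d : G) * p * (d : G)⁻¹) = 1
        rw [show (d : G) * p * (d : G)⁻¹ * ((d : G) * p * (d : G)⁻¹) = (d : G) * (p * p) * (d : G)⁻¹ by group, hp2]
        group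
    exact hsub hc
  exact mem_centralizer_singleton_iff.1 (hle hx)

/-- A simple group has no block system. -/
theorem absurd_simple [IsSimpleGroup G] (hna : ¬ IsMulCommutative G) : False := by
  haveI : Fact (Nat.Prime 2) := ⟨Nat.prime_two⟩
  haveI : Finite ι := Nat.finite_of_card_ne_zero (by have := h.three; omega)
  have h2 : 2 ≤ Nat.card ι := by have := h.three; omega
  haveI : Nontrivial ι := Finite.one_lt_card_iff_nontrivial.1 (by omega)
  have hproper : ∀ R : Subgroup G, R ≠ ⊥ → R ≠ ⊤ → normalizer (R : Set G) ≠ ⊤ := fun R h0 h1 e => by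
    rcases IsSimpleGroup.eq_bot_or_eq_top_of_normal R (normalizer_eq_top_iff.1 e) with e' | e'
    · exact h0 e'
    · exact h1 e'
  obtain ⟨Q, hQodd, hQ⟩ := h.exists_completion
  have hcommQ : ∀ i, ∀ w ∈ W i, w ≠ 1 → ⁅O w, K i⁆ ≤ Q := by
    intro i w hw hw1
    refine commutator_le.2 fun o ho b hb => ?_
    rcases eq_or_ne b 1 with rfl | hb1
    · rw [commutatorElement_one_right]; exact one_mem Q
    obtain ⟨A, hA, fA, hwA⟩ := h.exists_four (h.W_le i) (h.four i) hw hw1
    obtain ⟨B, hB, fB, hbB⟩ := h.exists_four (h.K_le i) (h.card_W_le_K h2 i) hb hb1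
    rw [← hQ i A B hA hB fA fB]
    exact (h.spair hA hB fA fB).commutator_O_le hwA hw1 (commutator_mem_commutator ho hbB)
  have hN : normalizer ((S : Subgroup G) : Set G) ≤ normalizer (Q : Set G) := by
    refine Core.le_normalizer_iff_conj_mem.2 fun g hg x hx => ?_
    obtain ⟨i⟩ := (inferInstance : Nonempty ι)
    obtain ⟨A, hA, fA⟩ := h.four_exists_in (h.W_le i) (h.four i)
    obtain ⟨B, hB, fB⟩ := h.four_exists_in (h.K_le i) (h.card_W_le_K h2 i)
    obtain ⟨j, hW, hK⟩ := h.perm g hg i
    have hA' := (map_mono (f := (MulAut.conj g).toMonoidHom) hA).trans hW.le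
    have hB' := (map_mono (f := (MulAut.conj g).toMonoidHom) hB).trans hK.le
    have f4 : ∀ {R : Subgroup G}, Four R → Nat.card (R.map (MulAut.conj g).toMonoidHom) = 4 := fun {R} hR => by
      rw [card_map_of_injective (MulAut.conj g).injective, hR.2]
    rw [← hQ j _ _ hA' hB' (h.four_of_le (hA'.trans (h.W_le j)) (f4 fA))
      (h.four_of_le (hB'.trans (h.K_le j)) (f4 fB))]
    rw [← hQ i A B hA hB fA fB] at hx
    exact Wc_map_conj_le A B g ⟨x, hx, rfl⟩
  have hCK : ∀ k, centralizer (K k : Set G) ≤ normalizer (Q : Set G) := by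
    intro k
    refine Core.le_normalizer_iff_conj_mem.2 fun g hg x hx => ?_
    obtain ⟨i, hik⟩ := exists_ne k
    obtain ⟨j, hji, hjk⟩ : ∃ j, j ≠ i ∧ j ≠ k := by
      by_contra hcon
      push_neg at hcon
      have h3 := h.three
      have hle : Nat.card ι ≤ 2 := by
        refine le_trans (Nat.card_le_card_of_surjective (fun b : Bool => if b then i else k) fun l => ?_) (by simp)
        rcases em (l = i) with e | e
        · exact ⟨true, by simp [e]⟩
        · exact ⟨false, by simp [hcon l e]⟩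
      omega
    obtain ⟨A, hA, fA⟩ := h.four_exists_in (h.W_le i) (h.four i)
    obtain ⟨B, hB, fB⟩ := h.four_exists_in (h.W_le j) (h.four j)
    have hBK : B ≤ K i := hB.trans (h.le_K i j hji.symm)
    have hfix : ∀ R : Subgroup G, R ≤ K k → R.map (MulAut.conj g).toMonoidHom = R := fun R hR => by
      have he : ∀ y ∈ R, g * y * g⁻¹ = y := fun y hy => by
        rw [← mem_centralizer_iff.1 hg y (hR hy), mul_inv_cancel_right]
      ext y
      constructor
      · rintro ⟨z, hz, rfl⟩
        simpa [he z hz] using hz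
      · exact fun hy => ⟨y, hy, by simpa using he y hy⟩
    rw [← hQ i A B hA hBK fA fB] at hx ⊢
    have h1 := Wc_map_conj_le A B g ⟨x, hx, rfl⟩
    rwa [hfix A (hA.trans (h.le_K k i hik.symm)), hfix B (hB.trans (h.le_K k j hjk.symm))] at h1
  by_cases hQ0 : Q = ⊥
  · -- the complements centralise the cores of the blocks
    have hcen : ∀ i, ∀ w ∈ W i, w ≠ 1 → ⁅O w, K i⁆ = ⊥ := fun i w hw hw1 =>
      le_bot_iff.1 ((hcommQ i w hw hw1).trans hQ0.le)
    set R : Subgroup G := ⨆ i, blockClosure (W i) (K i) with hR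
    have hcomm := fun {i j : ι} (hij : i ≠ j) => h.blockClosure_commute hcen hij
    have hPR : ∀ i, blockClosure (W i) (K i) ≤ R := fun i =>
      le_iSup (fun i => blockClosure (W i) (K i)) i
    have hP1 : ∀ i, blockClosure (W i) (K i) ≠ ⊥ := fun i e => by
      have h4 := h.four i
      have := (le_blockClosure (h.W_le_centralizer i)).trans e.le
      rw [le_bot_iff.1 this, card_bot] at h4
      omega
    have hRM : ∀ i, R ≤ normalizer (blockClosure (W i) (K i) : Set G) := fun i => iSup_le fun j => by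
      rcases em (j = i) with rfl | hne
      · exact le_normalizer
      · exact fun y hy => centralizer_le_normalizer _ (mem_centralizer_iff.2 fun z hz => hcomm (Ne.symm hne) z hz y hy)
    have hRt : R ≠ ⊤ := fun e => by
      obtain ⟨i, j, hij⟩ := exists_pair_ne ι
      have htop : ∀ k, blockClosure (W k) (K k) = ⊤ := fun k =>
        (IsSimpleGroup.eq_bot_or_eq_top_of_normal _
          (normalizer_eq_top_iff.1 (top_le_iff.1 (e ▸ hRM k)))).resolve_left (hP1 k)
      refine hna ⟨⟨fun x y => ?_⟩⟩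
      exact hcomm hij x (htop i ▸ mem_top x) y (htop j ▸ mem_top y)
    have hR0 : R ≠ ⊥ := fun e => by
      obtain ⟨i⟩ := (inferInstance : Nonempty ι)
      exact hP1 i (le_bot_iff.1 ((hPR i).trans e.le))
    have hNR : normalizer ((S : Subgroup G) : Set G) ≤ normalizer (R : Set G) := by
      refine Core.le_normalizer_iff_conj_mem.2 fun g hg x hx => ?_
      have hle : R.map (MulAut.conj g).toMonoidHom ≤ R := by
        rw [hR, Subgroup.map_iSup]
        refine iSup_le fun i => ?_
        obtain ⟨j, hj⟩ := h.blockClosure_perm hg i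
        exact hj.trans (hPR j)
      exact hle ⟨x, hx, rfl⟩
    refine hproper R hR0 hRt (h.eq_top_of_C_le hNR (h.C_le_of hNR
      (fun k => (hPR k).trans le_normalizer) fun i w hw hw1 => ?_))
    refine Sig.SSFT.le_normalizer_of_iSup (J := R) le_rfl fun g hg j x hx => ?_
    refine hPR j ?_
    rcases em (j = i) with rfl | hne
    · refine Core.le_normalizer_iff_conj_mem.1 (centralizer_le_normalizer_blockClosure (W j) (K j)) g ?_ x hx
      exact mem_centralizer_iff.2 fun y hy =>
        (Core.commutator_eq_bot_iff_forall.1 (hcen j w hw hw1) g hg y hy).symm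
    · have hxc : blockClosure (W j) (K j) ≤ centralizer (O w : Set G) := by
        refine blockClosure_le_of (fun z hz => mem_centralizer_iff.2 fun o ho =>
          Core.commutator_eq_bot_iff_forall.1 (hcen i w hw hw1) o ho z (h.le_K i j (Ne.symm hne) hz)) ?_
        refine Core.le_normalizer_iff_conj_mem.2 fun c hc z hz => Sig.CoreSep.conj_mem_centralizer ?_ hz
        exact Sig.CoreSep.C_le_normalizer_O w
          (centralizer_le (Set.singleton_subset_iff.2 (h.le_K j i hne hw)) hc)
      rw [mem_centralizer_iff.1 (hxc hx) g hg, mul_inv_cancel_right]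
      exact hx
  · have hQt : Q ≠ ⊤ := fun e => by
      rw [e, Subgroup.card_top] at hQodd
      have := ft G hQodd
      exact hna ⟨⟨IsSimpleGroup.comm_iff_isSolvable.2 this⟩⟩
    refine hproper Q hQ0 hQt (h.eq_top_of_C_le hN (h.C_le_of hN
      (fun k => (blockClosure_le _ _).trans (hCK k)) fun i w hw hw1 => ?_))
    have hn : K i ≤ normalizer (O w : Set G) :=
      ((h.K_le i).trans (h.S_le_C (h.W_le i hw))).trans (Sig.CoreSep.C_le_normalizer_O w)
    have hcop : (Nat.card (K i)).Coprime (Nat.card (O w)) := by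
      obtain ⟨n, hn'⟩ := IsPGroup.iff_card.1 (S.isPGroup'.to_le (h.K_le i))
      rw [hn']
      exact Nat.Coprime.pow_left n (Nat.coprime_two_left.2 (Sig.CoreSep.odd_O w))
    rw [← Coprime.commutator_sup_centralizer_eq hn hcop (Or.inr (ft _ (Sig.CoreSep.odd_O w)))]
    exact sup_le ((hcommQ i w hw hw1).trans le_normalizer) (inf_le_right.trans (hCK i))

end Frame

end Cfsg.Lib.WalterBig
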