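import Cfsg.Agent.Lib.WalterBig.Linear

/-!
# The linear lemma for a group acting by conjugation on an elementary abelian 2-subgroup
-/

set_option autoImplicit false
set_option linter.unusedSectionVars false
set_option linter.style.haveILetI false

namespace Cfsg.Lib.WalterBig

open Subgroup

variable {G : Type*} [Group G]

/-- An element acting trivially on one point of `W` and on `K` acts trivially. -/
theorem pairEnd_free {V : Type*} [AddCommGroup V] {K W : AddSubgroup V} {c₀ : (AddMonoid.End V)ˣ}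
    (hsup : ∀ v : V, ∃ k ∈ K, ∃ w ∈ W, v = k + w) (hK : ∀ v ∈ K, Linear.ap c₀ v = v)
    (htrans : ∀ v ∈ W, ∀ w ∈ W, v ≠ 0 → w ≠ 0 → ∃ c ∈ zpowers c₀, Linear.ap c v = w) :
    ∀ c ∈ zpowers c₀, c ≠ 1 → ∀ v ∈ W, Linear.ap c v = v → v = 0 := by
  intro c hc hc1 v hv hcv
  by_contra hv0
  apply hc1
  refine Linear.ext_ap fun u => ?_
  obtain ⟨k, hk, w, hw, rfl⟩ := hsup u
  have hck : Linear.ap c k = k := by
    let st : Subgroup (AddMonoid.End V)ˣ :=
      { carrier := {a | Linear.ap a k = k}
        one_mem' := rfl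
        mul_mem' := fun {a b} (ha : Linear.ap a k = k) (hb : Linear.ap b k = k) => by
          show Linear.ap (a * b) k = k
          rw [Linear.ap_mul, hb, ha]
        inv_mem' := fun {a} (ha : Linear.ap a k = k) => by
          show Linear.ap a⁻¹ k = k
          conv_lhs => rw [← ha]
          rw [Linear.ap_inv_ap] }
    exact (zpowers_le.2 (show c₀ ∈ st from hK k hk)) hc
  rw [map_add, Linear.ap_one, hck]
  rcases eq_or_ne w 0 with rfl | hw0
  · rw [map_zero]
  obtain ⟨d, hd, rfl⟩ := htrans v hv w hw hv0 hw0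
  obtain ⟨i, rfl⟩ := mem_zpowers_iff.1 hc
  obtain ⟨j, rfl⟩ := mem_zpowers_iff.1 hd
  rw [← Linear.ap_mul, ((Commute.refl c₀).zpow_zpow i j).eq, Linear.ap_mul, hcv]

variable [Finite G]

/-- An irreducible odd group of automorphisms of `V = W × K` with an element centralising `K` and
transitive on `W#` forces `W` to be smaller than `K`. -/
theorem card_lt_of_conj (V W K N : Subgroup G) (x : G) (hV : ∀ v ∈ V, v * v = 1) (hW : W ≤ V) (hK : K ≤ V)
    (hsup : W ⊔ K = V) (hinf : W ⊓ K = ⊥) (hNV : N ≤ normalizer V)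
    (hodd : Odd ((centralizer (V : Set G)).relIndex N))
    (hirr : ∀ U : Subgroup G, U ≤ V → (∀ g ∈ N, ∀ u ∈ U, g * u * g⁻¹ ∈ U) → U = ⊥ ∨ U = V)
    (hx : x ∈ N) (hxK : ∀ k ∈ K, x * k = k * x) (hxW : ∀ w ∈ W, x * w * x⁻¹ ∈ W)
    (htrans : ∀ v ∈ W, v ≠ 1 → ∀ w ∈ W, w ≠ 1 → ∃ i : ℕ, x ^ i * v * (x ^ i)⁻¹ = w)
    (hK0 : K ≠ ⊥) (hW4 : 4 ≤ Nat.card W) (hV16 : 16 ≤ Nat.card V) : Nat.card W < Nat.card K := by
  classical
  have hinv : ∀ v : V, v⁻¹ = v := fun v => inv_eq_of_mul_eq_one_right (Subtype.ext (hV v v.2))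
  have hcomm : ∀ a b : V, a * b = b * a := fun a b => by
    conv_lhs => rw [← hinv (a * b), mul_inv_rev, hinv, hinv]
  letI : CommGroup V := { (inferInstance : Group V) with mul_comm := hcomm }
  have hmem : ∀ g : N, ∀ v : V, (g : G) * v * (g : G)⁻¹ ∈ V := fun g v => (mem_normalizer_iff.1 (hNV g.2) v).1 v.2
  let ψ : N →* AddMonoid.End (Additive V) :=
    { toFun := fun g => MonoidHom.toAdditive
        { toFun := fun v => ⟨(g : G) * v * (g : G)⁻¹, hmem g v⟩
          map_one' := Subtype.ext (by simp)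
          map_mul' := fun a b => Subtype.ext (by simp [mul_assoc]) }
      map_one' := by
        ext v
        show (1 : G) * (Additive.toMul v : V) * (1 : G)⁻¹ = _
        simp
      map_mul' := fun g g' => by
        ext v
        show ((g : G) * g') * (Additive.toMul v : V) * ((g : G) * g')⁻¹
          = (g : G) * ((g' : G) * (Additive.toMul v : V) * (g' : G)⁻¹) * (g : G)⁻¹
        group }
  let Φ : N →* (AddMonoid.End (Additive V))ˣ := ψ.toHomUnits
  have hap : ∀ (g : N) (v : V), ((Additive.toMul (Linear.ap (Φ g) (Additive.ofMul v)) : V) : G)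
      = (g : G) * v * (g : G)⁻¹ := fun g v => rfl
  let K' : AddSubgroup (Additive V) := Subgroup.toAddSubgroup (K.subgroupOf V)
  let W' : AddSubgroup (Additive V) := Subgroup.toAddSubgroup (W.subgroupOf V)
  have hcardW : Nat.card W' = Nat.card W :=
    (Nat.card_congr (Equiv.subtypeEquiv Additive.toMul fun _ => Iff.rfl)).trans
      (Nat.card_congr (subgroupOfEquivOfLe hW).toEquiv)
  have hcardK : Nat.card K' = Nat.card K :=
    (Nat.card_congr (Equiv.subtypeEquiv Additive.toMul fun _ => Iff.rfl)).trans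
      (Nat.card_congr (subgroupOfEquivOfLe hK).toEquiv)
  have hA : Odd (Nat.card Φ.range) := by
    refine hodd.of_dvd_nat ?_
    rw [← index_ker]
    refine index_dvd_of_le fun g hg => ?_
    rw [MonoidHom.mem_ker]
    refine Linear.ext_ap fun v => ?_
    apply Additive.toMul.injective
    apply Subtype.ext
    rw [Linear.ap_one]
    refine (hap g (Additive.toMul v)).trans ?_
    rw [← mem_centralizer_iff.1 (mem_subgroupOf.1 hg) _ (Additive.toMul v : V).2, mul_inv_cancel_right]
  set c₀ := Φ ⟨x, hx⟩ with hc₀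
  have hpow : ∀ (i : ℕ) (v : V), ((Additive.toMul (Linear.ap (c₀ ^ i) (Additive.ofMul v)) : V) : G)
      = x ^ i * v * (x ^ i)⁻¹ := fun i v => by
    rw [hc₀, ← map_pow, hap, SubmonoidClass.coe_pow]
  have htrans' : ∀ v ∈ W', ∀ w ∈ W', v ≠ 0 → w ≠ 0 → ∃ c ∈ zpowers c₀, Linear.ap c v = w := by
    intro v hv w hw hv0 hw0
    obtain ⟨i, hi⟩ := htrans _ (mem_subgroupOf.1 hv) (fun e => hv0 (Additive.toMul.injective (Subtype.ext e)))
      _ (mem_subgroupOf.1 hw) (fun e => hw0 (Additive.toMul.injective (Subtype.ext e)))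
    exact ⟨c₀ ^ i, pow_mem (mem_zpowers c₀) i, Additive.toMul.injective (Subtype.ext ((hpow i _).trans hi))⟩
  have hkfix : ∀ v ∈ K', Linear.ap c₀ v = v := fun v hv => Additive.toMul.injective (Subtype.ext
    ((hap ⟨x, hx⟩ (Additive.toMul v)).trans (by
      show x * _ * x⁻¹ = _
      exact mul_inv_eq_of_eq_mul (hxK _ (mem_subgroupOf.1 hv)))))
  have hsup' : ∀ v : Additive V, ∃ k ∈ K', ∃ w ∈ W', v = k + w := by
    intro v
    have hv : ((Additive.toMul v : V) : G) ∈ K ⊔ W := by rw [sup_comm, hsup]; exact (Additive.toMul v).2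
    have hnorm : K ≤ normalizer W := fun k hk => mem_normalizer_iff.2 fun w => by
      constructor
      · intro hw
        have := congrArg Subtype.val (hcomm ⟨k, hK hk⟩ ⟨w, hW hw⟩)
        rw [show k * w = w * k from this, mul_inv_cancel_right]
        exact hw
      · intro hw
        have h1 := congrArg Subtype.val (hcomm ⟨k⁻¹, V.inv_mem (hK hk)⟩ ⟨k * w * k⁻¹, hW hw⟩)
        have h2 : w = k * w * k⁻¹ := by
          calc w = k⁻¹ * (k * w * k⁻¹) * k := by group
            _ = _ := by rw [show k⁻¹ * (k * w * k⁻¹) = k * w * k⁻¹ * k⁻¹ from h1]; group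
        rwa [h2]
    rw [← SetLike.mem_coe, Subgroup.coe_mul_of_left_le_normalizer_right K W hnorm] at hv
    obtain ⟨k, hk, w, hw, e⟩ := Set.mem_mul.1 hv
    exact ⟨Additive.ofMul ⟨k, hK hk⟩, mem_subgroupOf.2 hk, Additive.ofMul ⟨w, hW hw⟩, mem_subgroupOf.2 hw,
      Additive.toMul.injective (Subtype.ext e.symm)⟩
  have hdata : Linear.Data Φ.range c₀ K' W' :=
    { two := fun v => Additive.toMul.injective (Subtype.ext (hV _ (Additive.toMul v : V).2))
      odd := hA
      irr := fun U hU => by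
        let U₀ : Subgroup G := (AddSubgroup.toSubgroup' U).map V.subtype
        rcases hirr U₀ (map_subtype_le _) (by
            rintro g hg - ⟨u, hu, rfl⟩
            exact ⟨_, hU (Φ ⟨g, hg⟩) ⟨_, rfl⟩ (Additive.ofMul u) hu, hap ⟨g, hg⟩ u⟩) with e | e
        · left
          refine (AddSubgroup.eq_bot_iff_forall U).2 fun u hu => ?_
          have hm : ((Additive.toMul u : V) : G) ∈ U₀ := ⟨Additive.toMul u, hu, rfl⟩
          rw [e, mem_bot] at hm
          exact Additive.toMul.injective (Subtype.ext hm)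
        · right
          refine (AddSubgroup.eq_top_iff' U).2 fun u => ?_
          obtain ⟨w, hw, hwu⟩ : ((Additive.toMul u : V) : G) ∈ U₀ := by rw [e]; exact (Additive.toMul u : V).2
          rw [← ofMul_toMul u, ← Subtype.ext hwu]
          exact hw
      mem := ⟨_, rfl⟩
      kfix := hkfix
      winv := fun v hv => mem_subgroupOf.2 (by
        have := hxW _ (mem_subgroupOf.1 hv)
        exact (hap ⟨x, hx⟩ (Additive.toMul v)).symm ▸ this)
      trans := htrans'
      free := pairEnd_free hsup' hkfix htrans'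
      sup := hsup'
      inf := fun v hvK hvW => by
        have hm : ((Additive.toMul v : V) : G) ∈ W ⊓ K := ⟨mem_subgroupOf.1 hvW, mem_subgroupOf.1 hvK⟩
        rw [hinf, mem_bot] at hm
        exact Additive.toMul.injective (Subtype.ext hm)
      kne := by
        obtain ⟨k, hk, hk1⟩ : ∃ k ∈ K, k ≠ 1 := by
          by_contra hcon
          push_neg at hcon
          exact hK0 ((eq_bot_iff_forall K).2 hcon)
        exact ⟨Additive.ofMul ⟨k, hK hk⟩, mem_subgroupOf.2 hk, fun e => hk1 (congrArg Subtype.val e)⟩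
      wfour := hcardW.symm ▸ hW4
      big := (Nat.card_congr Additive.toMul).symm ▸ hV16 }
  rw [← hcardW, ← hcardK]
  exact hdata.card_lt

end Cfsg.Lib.WalterBig
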