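import Cfsg.Agent.Lib.WalterBig.Pairs
import Cfsg.Agent.Lib.WalterBig.Group
import Cfsg.Agent.Lib.WalterBig.Endgame

/-!
# The block system

A pair is good if it is cut out in the centralizer of each nontrivial element of its `K`. Every component is
centralized by the `K` of a good pair, and two good pairs are equal or orthogonal.
-/

set_option autoImplicit false
set_option linter.unusedSectionVars false
set_option linter.unusedVariables false
set_option linter.style.haveILetI false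

namespace Cfsg.Lib.WalterBig

open Subgroup Cfsg.Lib
open Cfsg.Lib.Sig.CoreSep (C img quo conj_mem_centralizer)
open scoped commutatorElement

universe u

variable {G : Type u} [Group G] [Finite G] {S : Sylow 2 G} (hS : IsMulCommutative ↥(S : Subgroup G))

/-- A pair cut out by a component in the centralizer of each nontrivial element of `K`. -/
structure Good (S : Sylow 2 G) (W K : Subgroup G) : Prop where
  ne : K ≠ ⊥
  comp : ∀ b ∈ K, b ≠ 1 → ∃ Z : Subgroup (↥(C b) ⧸ Cfsg.pPrimeCore 2 ↥(C b)), Cfsg.IsComponent Z ∧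
    wPart (S : Subgroup G) b Z = W ∧ kPart (S : Subgroup G) b Z = K

include hS in
theorem IsPair.card_eq {W K : Subgroup G} (hp : IsPair S W K) :
    Nat.card (S : Subgroup G) = Nat.card W * Nat.card K := by
  rw [← Nat.card_prod]
  refine (Nat.card_congr (Equiv.ofBijective
    (fun p : W × K => (⟨(p.1 : G) * p.2, mul_mem (hp.W_le p.1.2) (hp.K_le p.2.2)⟩ : (S : Subgroup G))) ⟨?_, ?_⟩)).symm
  · rintro ⟨w, k⟩ ⟨w', k'⟩ e
    have e' : (w : G) * k = w' * k' := congrArg Subtype.val e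
    have h : (w' : G)⁻¹ * w = (k' : G) * (k : G)⁻¹ :=
      calc (w' : G)⁻¹ * w = (w' : G)⁻¹ * ((w : G) * k) * (k : G)⁻¹ := by group
        _ = (k' : G) * (k : G)⁻¹ := by rw [e']; group
    have hm : (w' : G)⁻¹ * w ∈ W ⊓ K :=
      ⟨mul_mem (W.inv_mem w'.2) w.2, h ▸ mul_mem k'.2 (K.inv_mem k.2)⟩
    rw [hp.disj, mem_bot] at hm
    have hw : w = w' := Subtype.ext (inv_mul_eq_one.1 hm).symm
    subst hw
    exact Prod.ext rfl (Subtype.ext (mul_left_cancel e'))
  · rintro ⟨v, hv⟩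
    rw [← hp.split] at hv
    obtain ⟨w, hw, k, hk, rfl⟩ := (Core.mem_sup_of_commute (Core.commutator_eq_bot_iff_forall.2
      fun w hw k hk => AbTwo.comm_of_mem hS (hp.W_le hw) (hp.K_le hk))).1 hv
    exact ⟨(⟨w, hw⟩, ⟨k, hk⟩), rfl⟩

include hS in
/-- Coverage: in the centralizer of each element of `K`, a component swallows `W`. -/
theorem IsPair.cover {W K : Subgroup G} (hp : IsPair S W K) {b : G} (hb : b ∈ K) :
    ∃ Z : Subgroup (↥(C b) ⧸ Cfsg.pPrimeCore 2 ↥(C b)), Cfsg.IsComponent Z ∧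
      kPart (S : Subgroup G) b Z ≤ K ∧
      (kPart (S : Subgroup G) b Z = K → wPart (S : Subgroup G) b Z = W) := by
  classical
  haveI := fact_two
  obtain ⟨P, hPP, hPK, x, hxP, hxS, hxW, htr⟩ := hp.act
  have hbS := hp.K_le hb
  have hxK : ∀ k ∈ K, x * k = k * x := fun k hk => (mem_centralizer_iff.1 (hPK hxP) k hk).symm
  have hPC : P ≤ C b := fun g hg => mem_centralizer_singleton_iff.2 (mem_centralizer_iff.1 (hPK hg) b hb).symm
  have hxC := hPC hxP
  have hxconj : ∀ v ∈ (S : Subgroup G), x * v * x⁻¹ ∈ (S : Subgroup G) :=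
    fun v hv => (mem_normalizer_iff.1 hxS v).1 hv
  have hdec : ∀ v ∈ (S : Subgroup G), ∃ w ∈ W, ∃ k ∈ K, w * k = v := fun v hv => by
    rw [← hp.split] at hv
    exact (Core.mem_sup_of_commute (Core.commutator_eq_bot_iff_forall.2
      fun w hw k hk => AbTwo.comm_of_mem hS (hp.W_le hw) (hp.K_le hk))).1 hv
  have hmove : ∀ w ∈ W, w ≠ 1 → x * w * x⁻¹ ≠ w := by
    intro w hw hw1 e
    have hall : ∀ u ∈ W, u ≠ 1 → u = w := fun u hu hu1 => by
      obtain ⟨i, hi⟩ := htr w hw hw1 u hu hu1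
      rw [← hi]
      clear hi
      induction i with
      | zero => simp
      | succ i ih =>
        rw [pow_succ', show x * x ^ i * w * (x * x ^ i)⁻¹ = x * (x ^ i * w * (x ^ i)⁻¹) * x⁻¹ by group, ih, e]
    have hle : W ≤ zpowers w := fun u hu => by
      rcases eq_or_ne u 1 with rfl | hu1
      · exact one_mem _
      · rw [hall u hu hu1]; exact mem_zpowers w
    have h2 : w * w = 1 := by
      by_contra h2
      exact hw1 (mul_right_cancel (b := w) ((hall _ (mul_mem hw hw) h2).trans (one_mul w).symm))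
    have := (card_le_of_le hle).trans ((Nat.card_zpowers _).le.trans
      (orderOf_le_of_pow_eq_one two_pos (by rw [pow_two]; exact h2)))
    have := hp.four
    omega
  have hfix : ∀ v ∈ (S : Subgroup G), x * v * x⁻¹ = v → v ∈ K := by
    intro v hv e
    obtain ⟨w, hw, k, hk, rfl⟩ := hdec v hv
    rcases eq_or_ne w 1 with rfl | hw1
    · rwa [one_mul]
    · exfalso
      refine hmove w hw hw1 (mul_right_cancel (b := k) ?_)
      calc x * w * x⁻¹ * k = x * w * (x⁻¹ * (k * x)) * x⁻¹ := by group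
        _ = x * (w * k) * x⁻¹ := by rw [← hxK k hk]; group
        _ = w * k := e
  have hcomm : ∀ v ∈ (S : Subgroup G), x * v * x⁻¹ * v⁻¹ ∈ W := by
    intro v hv
    obtain ⟨w, hw, k, hk, rfl⟩ := hdec v hv
    rw [show x * (w * k) * x⁻¹ * (w * k)⁻¹ = x * w * (k * x⁻¹) * k⁻¹ * w⁻¹ by group,
      show k * x⁻¹ = x⁻¹ * k from (show Commute x k from hxK k hk).inv_left.eq.symm,
      show x * w * (x⁻¹ * k) * k⁻¹ * w⁻¹ = x * w * x⁻¹ * w⁻¹ by group]
    exact mul_mem (hxW w hw) (inv_mem hw)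
  obtain ⟨T, hT, hTc⟩ := exists_sylow_quo S hS hbS
  have hO : Cfsg.oddCore (↥(C b) ⧸ Cfsg.pPrimeCore 2 ↥(C b)) = ⊥ := Core.pPrimeCore_quotient_eq_bot
  set xb := quo b ⟨x, hxC⟩ with hxb
  have hxL : xb ∈ Cfsg.layer (↥(C b) ⧸ Cfsg.pPrimeCore 2 ↥(C b)) := by
    refine le_layer_of_perfect hO T hTc (P := img b P) ?_ (mem_map_of_mem _ (mem_subgroupOf.2 hxP))
    rw [← map_commutator]
    refine congrArg _ (map_injective (C b).subtype_injective ?_)
    rw [map_commutator, subgroupOf_map_subtype, inf_eq_left.2 hPC, hPP]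
  have hxN : ∀ Z : Subgroup (↥(C b) ⧸ Cfsg.pPrimeCore 2 ↥(C b)), Cfsg.IsComponent Z →
      xb ∈ normalizer (SetLike.coe Z) := fun Z hZ =>
    (sSup_le fun L hL => Core.component_le_normalizer hL hZ) hxL
  have hquo : ∀ v (hv : v ∈ (S : Subgroup G)),
      quo b ⟨x * v * x⁻¹, sylow_le_C S hS hbS (hxconj v hv)⟩
        = xb * quo b ⟨v, sylow_le_C S hS hbS hv⟩ * xb⁻¹ := fun v hv => by
    rw [hxb, ← map_inv, ← map_mul, ← map_mul]
    rfl
  obtain ⟨Z, hZ, v₀, hv₀, hne⟩ : ∃ Z, Cfsg.IsComponent Z ∧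
      ∃ v ∈ wPart (S : Subgroup G) b Z, x * v * x⁻¹ ≠ v := by
    by_contra hcon
    push Not at hcon
    haveI := Fintype.ofFinite (Subgroup (↥(C b) ⧸ Cfsg.pPrimeCore 2 ↥(C b)))
    have key : ∀ F : Finset (Subgroup (↥(C b) ⧸ Cfsg.pPrimeCore 2 ↥(C b))), (∀ Z ∈ F, Cfsg.IsComponent Z) →
        ∀ s ∈ (S : Subgroup G), ∃ w : G, ∃ hw : w ∈ (S : Subgroup G), x * w * x⁻¹ = w ∧
          ∀ Z ∈ F, ∀ h : s * w⁻¹ ∈ C b, quo b ⟨s * w⁻¹, h⟩ ∈ centralizer (SetLike.coe Z) := by
      intro F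
      induction F using Finset.induction with
      | empty => exact fun _ s hs => ⟨1, one_mem _, by simp, by simp⟩
      | @insert Z F hZF ih =>
        intro hF s hs
        obtain ⟨w, hw, hwx, hwF⟩ := ih (fun L hL => hF L (Finset.mem_insert_of_mem hL)) s hs
        have hZ := hF Z (Finset.mem_insert_self Z F)
        have hm : s * w⁻¹ ∈ wPart (S : Subgroup G) b Z ⊔ kPart (S : Subgroup G) b Z := by
          rw [wPart_sup_kPart S hS hbS hZ]; exact mul_mem hs (inv_mem hw)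
        obtain ⟨v, hv, k, hk, hvk⟩ := (Core.mem_sup_of_commute (Core.commutator_eq_bot_iff_forall.2
          fun v (hv : v ∈ wPart (S : Subgroup G) b Z) k (hk : k ∈ kPart (S : Subgroup G) b Z) =>
            AbTwo.comm_of_mem hS hv.1 hk.1)).1 hm
        refine ⟨v * w, mul_mem hv.1 hw, ?_, fun L hL h => ?_⟩
        · rw [show x * (v * w) * x⁻¹ = (x * v * x⁻¹) * (x * w * x⁻¹) by group, hcon Z hZ v hv, hwx]
        have he : s * (v * w)⁻¹ = k := by
          rw [mul_inv_rev, ← mul_assoc, ← hvk, AbTwo.comm_of_mem hS hv.1 hk.1, mul_inv_cancel_right]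
        rcases Finset.mem_insert.mp hL with rfl | hLF
        · have := ((mem_wPart (sylow_le_C S hS hbS hk.1)).1 hk).2
          simpa only [he] using this
        · have h1 := hwF L hLF (sylow_le_C S hS hbS (mul_mem hs (inv_mem hw)))
          have h2 : quo b ⟨v, sylow_le_C S hS hbS hv.1⟩ ∈ centralizer (SetLike.coe L) :=
            component_disjoint hO T hTc (hF L (Finset.mem_insert_of_mem hLF)) hZ (fun e => hZF (e ▸ hLF))
              ((mem_wPart (sylow_le_C S hS hbS hv.1)).1 hv).2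
          have h3 := mul_mem h1 (inv_mem h2)
          rw [← map_inv, ← map_mul] at h3
          convert h3 using 2
          exact Subtype.ext (by simp [mul_inv_rev, mul_assoc])
    have hcent : ∀ s ∈ (S : Subgroup G), x * s * x⁻¹ = s := by
      intro s hs
      obtain ⟨w, hw, hwx, hwF⟩ := key (Finset.univ.filter fun Z => Cfsg.IsComponent Z)
        (fun Z hZ => (Finset.mem_filter.mp hZ).2) s hs
      have hsw := mul_mem hs (inv_mem hw)
      set c := quo b ⟨s * w⁻¹, sylow_le_C S hS hbS hsw⟩ with hc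
      have hLc : Cfsg.layer (↥(C b) ⧸ Cfsg.pPrimeCore 2 ↥(C b)) ≤ centralizer {c} :=
        sSup_le fun Z hZ z hz => mem_centralizer_singleton_iff.mpr
          (mem_centralizer_iff.mp (hwF Z (Finset.mem_filter.mpr ⟨Finset.mem_univ _, hZ⟩) _) z hz)
      have h1 : x * (s * w⁻¹) * x⁻¹ = s * w⁻¹ := quo_inj S hS hbS (hxconj _ hsw) hsw (by
        rw [hquo _ hsw, mem_centralizer_singleton_iff.mp (hLc hxL), mul_inv_cancel_right])
      calc x * s * x⁻¹ = x * (s * w⁻¹) * x⁻¹ * (x * w * x⁻¹) := by group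
        _ = s * w⁻¹ * w := by rw [h1, hwx]
        _ = s := inv_mul_cancel_right s w
    obtain ⟨⟨v, hv⟩, hv1⟩ := exists_ne_map_one hp.four
    exact hmove v hv (fun e => hv1 (Subtype.ext e)) (hcent v (hp.W_le hv))
  have hZinv : ∀ v ∈ wPart (S : Subgroup G) b Z, x * v * x⁻¹ ∈ wPart (S : Subgroup G) b Z := fun v hv => by
    refine (mem_wPart (sylow_le_C S hS hbS (hxconj v hv.1))).2 ⟨hxconj v hv.1, ?_⟩
    rw [hquo v hv.1]
    exact (mem_normalizer_iff.1 (hxN Z hZ) _).1 ((mem_wPart (sylow_le_C S hS hbS hv.1)).1 hv).2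
  have hKinv : ∀ v ∈ kPart (S : Subgroup G) b Z, x * v * x⁻¹ ∈ kPart (S : Subgroup G) b Z := fun v hv => by
    refine (mem_wPart (sylow_le_C S hS hbS (hxconj v hv.1))).2 ⟨hxconj v hv.1, ?_⟩
    rw [hquo v hv.1]
    exact conj_mem_centralizer (hxN Z hZ) ((mem_wPart (sylow_le_C S hS hbS hv.1)).1 hv).2
  set u := x * v₀ * x⁻¹ * v₀⁻¹ with hu
  have huW : u ∈ W := hcomm v₀ hv₀.1
  have huZ : u ∈ wPart (S : Subgroup G) b Z := mul_mem (hZinv v₀ hv₀) (inv_mem hv₀)
  have hu1 : u ≠ 1 := fun e => hne (mul_inv_eq_one.1 e)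
  have hWZ : W ≤ wPart (S : Subgroup G) b Z := by
    intro w hw
    rcases eq_or_ne w 1 with rfl | hw1
    · exact one_mem _
    obtain ⟨i, rfl⟩ := htr u huW hu1 w hw hw1
    clear hw hw1
    induction i with
    | zero => simpa using huZ
    | succ i ih =>
      rw [pow_succ', show x * x ^ i * u * (x * x ^ i)⁻¹ = x * (x ^ i * u * (x ^ i)⁻¹) * x⁻¹ by group]
      exact hZinv _ ih
  have hKZ : kPart (S : Subgroup G) b Z ≤ K := by
    intro k hk
    refine hfix k hk.1 (mul_inv_eq_one.1 ?_)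
    have hm : x * k * x⁻¹ * k⁻¹ ∈ wPart (S : Subgroup G) b Z ⊓ kPart (S : Subgroup G) b Z :=
      ⟨hWZ (hcomm k hk.1), mul_mem (hKinv k hk) ((kPart (S : Subgroup G) b Z).inv_mem hk)⟩
    rwa [wPart_inf_kPart S hS hbS hZ, mem_bot] at hm
  refine ⟨Z, hZ, hKZ, fun he => le_antisymm (fun v hv => ?_) hWZ⟩
  obtain ⟨w, hw, k, hk, rfl⟩ := hdec v hv.1
  have hkm : k ∈ wPart (S : Subgroup G) b Z ⊓ kPart (S : Subgroup G) b Z :=
    ⟨by simpa using mul_mem (inv_mem (hWZ hw)) hv, he ▸ hk⟩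
  rw [wPart_inf_kPart S hS hbS hZ, mem_bot] at hkm
  rwa [hkm, mul_one]
where
  exists_ne_map_one {W : Subgroup G} (h : 4 ≤ Nat.card W) : ∃ v : W, v ≠ 1 := by
    haveI : Nontrivial W := Finite.one_lt_card_iff_nontrivial.1 (by omega)
    exact exists_ne 1

variable [IsSimpleGroup G] (hna : ¬ IsMulCommutative G) (ih : Below.{u} (Nat.card G))

include hS hna ih in
theorem Good.isPair {W K : Subgroup G} (h : Good S W K) : IsPair S W K := by
  obtain ⟨⟨b, hb⟩, hb1⟩ := Subgroup.ne_bot_iff_exists_ne_one.mp h.ne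
  have hb1' : b ≠ 1 := fun e => hb1 (Subtype.ext e)
  obtain ⟨Z, hZ, rfl, rfl⟩ := h.comp b hb hb1'
  exact isPair_of_component S hS hna ih hb.1 hb1' hZ

include hS hna ih in
/-- Every component is centralized by the `K` of a good pair. -/
theorem exists_good : ∀ (n : ℕ) {a : G}, a ∈ (S : Subgroup G) → a ≠ 1 →
    ∀ Y : Subgroup (↥(C a) ⧸ Cfsg.pPrimeCore 2 ↥(C a)), Cfsg.IsComponent Y →
      Nat.card (kPart (S : Subgroup G) a Y) < n → ∃ W K, Good S W K ∧ K ≤ kPart (S : Subgroup G) a Y := by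
  intro n
  induction n with
  | zero => intro a _ _ Y _ h; exact absurd h (Nat.not_lt_zero _)
  | succ n ihn =>
    intro a ha ha1 Y hY hlt
    have hp := isPair_of_component S hS hna ih ha ha1 hY
    by_cases hgood : ∀ b ∈ kPart (S : Subgroup G) a Y, b ≠ 1 →
        ∃ Z : Subgroup (↥(C b) ⧸ Cfsg.pPrimeCore 2 ↥(C b)), Cfsg.IsComponent Z ∧
          wPart (S : Subgroup G) b Z = wPart (S : Subgroup G) a Y ∧
          kPart (S : Subgroup G) b Z = kPart (S : Subgroup G) a Y
    · exact ⟨_, _, ⟨hp.ne, hgood⟩, le_rfl⟩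
    push Not at hgood
    obtain ⟨b, hb, hb1, hbad⟩ := hgood
    obtain ⟨Z, hZ, hle, heq⟩ := hp.cover hS hb
    have hne : kPart (S : Subgroup G) b Z ≠ kPart (S : Subgroup G) a Y := fun e => hbad Z hZ (heq e) e
    have hlt' : Nat.card (kPart (S : Subgroup G) b Z) < Nat.card (kPart (S : Subgroup G) a Y) :=
      lt_of_le_of_ne (card_le_of_le hle) fun e => hne (eq_of_le_of_card_ge hle e.ge)
    obtain ⟨W, K, hg, hK⟩ := ihn hb.1 hb1 Z hZ (by omega)
    exact ⟨W, K, hg, hK.trans hle⟩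

include hS hna ih in
/-- The linear lemma. -/
theorem IsPair.card_lt {W K : Subgroup G} (hp : IsPair S W K) (hel : ∀ v ∈ (S : Subgroup G), v * v = 1)
    (h16 : 16 ≤ Nat.card (S : Subgroup G)) : Nat.card W < Nat.card K := by
  haveI := fact_two
  obtain ⟨P, -, hPK, x, hxP, hxS, hxW, htr⟩ := hp.act
  refine card_lt_of_conj (S : Subgroup G) W K (normalizer ((S : Subgroup G) : Set G)) x hel hp.W_le hp.K_le hp.split
    hp.disj le_rfl ?_ ?_ hxS (fun k hk => (mem_centralizer_iff.1 (hPK hxP) k hk).symm) hxW htr hp.ne hp.four h16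
  · rw [← Nat.not_even_iff_odd, even_iff_two_dvd]
    intro h2
    have hSC : (S : Subgroup G) ≤ centralizer ((S : Subgroup G) : Set G) := fun v hv =>
      mem_centralizer_iff.2 fun w hw => AbTwo.comm_of_mem hS hw hv
    exact S.not_dvd_index ((h2.trans (relIndex_dvd_of_le_left _ hSC)).trans (relIndex_dvd_index_of_le le_normalizer))
  · intro U hU hinv
    rcases irreducible hna S hS U hU (fun u hu => hel u (hU hu)) hinv with h | h
    · exact Or.inl h
    · exact Or.inr (le_antisymm hU fun v hv => h v hv (hel v hv))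

include hS hna ih in
theorem Good.inf_ne_bot {W K W' K' : Subgroup G} (h : Good S W K) (h' : Good S W' K')
    (hel : ∀ v ∈ (S : Subgroup G), v * v = 1) (h16 : 16 ≤ Nat.card (S : Subgroup G)) : K ⊓ K' ≠ ⊥ := by
  intro e
  have hp := h.isPair hS hna ih
  have hp' := h'.isPair hS hna ih
  have h1 := hp.card_lt hS hna ih hel h16
  have h2 := hp'.card_lt hS hna ih hel h16
  have h3 : Nat.card K * Nat.card K' ≤ Nat.card (S : Subgroup G) := by
    rw [← Nat.card_prod]
    refine Nat.card_le_card_of_injective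
      (fun p : K × K' => (⟨(p.1 : G) * p.2, mul_mem (hp.K_le p.1.2) (hp'.K_le p.2.2)⟩ : (S : Subgroup G))) ?_
    rintro ⟨a, c⟩ ⟨a', c'⟩ hac
    have hac' : (a : G) * c = a' * c' := congrArg Subtype.val hac
    have hh : (a' : G)⁻¹ * a = (c' : G) * (c : G)⁻¹ :=
      calc (a' : G)⁻¹ * a = (a' : G)⁻¹ * ((a : G) * c) * (c : G)⁻¹ := by group
        _ = (c' : G) * (c : G)⁻¹ := by rw [hac']; group
    have hm : (a' : G)⁻¹ * a ∈ K ⊓ K' := ⟨mul_mem (K.inv_mem a'.2) a.2, hh ▸ mul_mem c'.2 (K'.inv_mem c.2)⟩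
    rw [e, mem_bot] at hm
    have ha : a = a' := Subtype.ext (inv_mul_eq_one.1 hm).symm
    subst ha
    exact Prod.ext rfl (Subtype.ext (mul_left_cancel hac'))
  have h4 : Nat.card K' ≤ Nat.card W := Nat.le_of_mul_le_mul_left
    (h3.trans ((hp.card_eq hS).trans (mul_comm _ _)).le) Nat.card_pos
  have h5 : Nat.card K ≤ Nat.card W' := Nat.le_of_mul_le_mul_right
    (h3.trans (hp'.card_eq hS).le) Nat.card_pos
  omega

include hS hna ih in
/-- Two good pairs are equal or orthogonal. -/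
theorem Good.eq_or_le {W K W' K' : Subgroup G} (h : Good S W K) (h' : Good S W' K')
    (hel : ∀ v ∈ (S : Subgroup G), v * v = 1) (h16 : 16 ≤ Nat.card (S : Subgroup G)) :
    (W = W' ∧ K = K') ∨ W' ≤ K := by
  haveI := fact_two
  obtain ⟨⟨b, hb⟩, hb1⟩ := Subgroup.ne_bot_iff_exists_ne_one.mp (h.inf_ne_bot hS hna ih h' hel h16)
  have hb1' : b ≠ 1 := fun e => hb1 (Subtype.ext e)
  obtain ⟨Z, hZ, rfl, rfl⟩ := h.comp b hb.1 hb1'
  obtain ⟨Z', hZ', rfl, rfl⟩ := h'.comp b hb.2 hb1'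
  rcases eq_or_ne Z Z' with rfl | hne
  · exact Or.inl ⟨rfl, rfl⟩
  right
  obtain ⟨T, hT, hTc⟩ := exists_sylow_quo S hS hb.1.1
  have hle := component_disjoint Core.pPrimeCore_quotient_eq_bot T hTc hZ hZ' hne
  exact fun v hv => (mem_wPart (sylow_le_C S hS hb.1.1 hv.1)).2
    ⟨hv.1, hle ((mem_wPart (sylow_le_C S hS hb.1.1 hv.1)).1 hv).2⟩

/-- Conjugation by the normalizer preserves good pairs. -/
theorem Good.map_conj {W K : Subgroup G} (h : Good S W K) {g : G}
    (hg : g ∈ normalizer ((S : Subgroup G) : Set G)) :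
    Good S (W.map (MulAut.conj g).toMonoidHom) (K.map (MulAut.conj g).toMonoidHom) := by
  refine ⟨fun e => h.ne ((map_eq_bot_iff_of_injective _ (MulAut.conj g).injective).1 e), ?_⟩
  rintro _ ⟨b, hb, rfl⟩ hb1
  obtain ⟨Z, hZ, rfl, rfl⟩ := h.comp b hb (fun e => hb1 (by rw [e, map_one]))
  set b' := (MulAut.conj g).toMonoidHom b with hb'
  have hC : ∀ v : G, v ∈ C b ↔ MulAut.conj g v ∈ C b' := fun v => by
    rw [mem_centralizer_singleton_iff, mem_centralizer_singleton_iff]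
    exact ⟨fun e => (map_mul _ v b).symm.trans ((congrArg _ e).trans (map_mul _ b v)),
      fun e => (MulAut.conj g).injective ((map_mul _ v b).trans (e.trans (map_mul _ b v).symm))⟩
  let e : ↥(C b) ≃* ↥(C b') :=
    { toFun := fun v => ⟨MulAut.conj g v, (hC v).1 v.2⟩
      invFun := fun v => ⟨(MulAut.conj g).symm v, (hC _).2 (by rw [MulEquiv.apply_symm_apply]; exact v.2)⟩
      left_inv := fun v => Subtype.ext ((MulAut.conj g).symm_apply_apply _)
      right_inv := fun v => Subtype.ext ((MulAut.conj g).apply_symm_apply _)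
      map_mul' := fun v w => Subtype.ext (map_mul _ _ _) }
  let eb := QuotientGroup.congr (Cfsg.pPrimeCore 2 ↥(C b)) (Cfsg.pPrimeCore 2 ↥(C b')) e
    (Core.map_pPrimeCore_equiv e)
  have heb : ∀ v : ↥(C b), eb (quo b v) = quo b' (e v) := fun v => rfl
  have hmap : ∀ Y : Subgroup (↥(C b) ⧸ Cfsg.pPrimeCore 2 ↥(C b)),
      wPart (S : Subgroup G) b' (Y.map eb.toMonoidHom)
        = (wPart (S : Subgroup G) b Y).map (MulAut.conj g).toMonoidHom := by
    intro Y
    ext v
    constructor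
    · rintro ⟨hvS, u, ⟨y, hy, hye⟩, rfl⟩
      obtain ⟨w, rfl⟩ := e.surjective u
      have hy' : y = quo b w := eb.injective (hye.trans (heb w).symm)
      refine ⟨w, ⟨?_, w, (show quo b w ∈ Y from hy' ▸ hy), rfl⟩, rfl⟩
      exact (mem_normalizer_iff.1 hg w).2 hvS
    · rintro ⟨w, ⟨hwS, u, hu, rfl⟩, rfl⟩
      exact ⟨(mem_normalizer_iff.1 hg u).1 hwS, e u, ⟨quo b u, hu, heb u⟩, rfl⟩
  refine ⟨Z.map eb.toMonoidHom, Core.IsComponent.map_equiv hZ eb, hmap Z, ?_⟩
  rw [kPart, kPart, ← hmap]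
  congr 1
  ext q
  obtain ⟨q, rfl⟩ := eb.surjective q
  constructor
  · intro hq
    refine ⟨q, mem_centralizer_iff.2 fun z hz => eb.injective ?_, rfl⟩
    rw [map_mul, map_mul]
    exact mem_centralizer_iff.1 hq _ ⟨z, hz, rfl⟩
  · rintro ⟨q', hq', e'⟩
    refine mem_centralizer_iff.2 ?_
    rintro _ ⟨z, hz, rfl⟩
    rw [← e']
    show eb z * eb q' = eb q' * eb z
    rw [← map_mul, ← map_mul, mem_centralizer_iff.1 hq' z hz]

include hS hna ih in
/-- No component occurs in a simple group with a large elementary Sylow two-subgroup. -/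
theorem false_of_component (hel : ∀ v ∈ (S : Subgroup G), v * v = 1) (h16 : 16 ≤ Nat.card (S : Subgroup G))
    {a : G} (ha : a ∈ (S : Subgroup G)) (ha1 : a ≠ 1)
    {Y : Subgroup (↥(C a) ⧸ Cfsg.pPrimeCore 2 ↥(C a))} (hY : Cfsg.IsComponent Y) : False := by
  classical
  haveI := fact_two
  let ι := {p : Subgroup G × Subgroup G // Good S p.1 p.2}
  obtain ⟨W₀, K₀, hg₀, -⟩ := exists_good hS hna ih _ ha ha1 Y hY (Nat.lt_succ_self _)
  have hperm : ∀ g ∈ normalizer ((S : Subgroup G) : Set G), ∀ i : ι, ∃ j : ι,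
      i.1.1.map (MulAut.conj g).toMonoidHom = j.1.1 ∧ i.1.2.map (MulAut.conj g).toMonoidHom = j.1.2 :=
    fun g hg i => ⟨⟨(_, _), i.2.map_conj hg⟩, rfl, rfl⟩
  have horth : ∀ i j : ι, i ≠ j → j.1.1 ≤ i.1.2 := fun i j hij =>
    (i.2.eq_or_le hS hna ih j.2 hel h16).resolve_left fun h => hij (Subtype.ext (Prod.ext h.1 h.2))
  have hinter : ⨅ i : ι, i.1.2 = ⊥ := by
    have hle : (⨅ i : ι, i.1.2) ≤ (S : Subgroup G) :=
      (iInf_le _ ⟨(W₀, K₀), hg₀⟩).trans (hg₀.isPair hS hna ih).K_le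
    rcases irreducible hna S hS _ hle (fun u hu => hel u (hle hu)) (fun g hg u hu => by
      refine mem_iInf.2 fun i => ?_
      obtain ⟨j, -, hj⟩ := hperm g⁻¹ (inv_mem hg) i
      have h1 := mem_iInf.1 hu j
      rw [← hj] at h1
      obtain ⟨v, hv, rfl⟩ := h1
      simpa [mul_assoc] using hv) with h | h
    · exact h
    · exfalso
      have hp := hg₀.isPair hS hna ih
      have hWK : W₀ ≤ K₀ := fun w hw => mem_iInf.1 (h w (hp.W_le hw) (hel w (hp.W_le hw))) ⟨(W₀, K₀), hg₀⟩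
      have h4 := hp.four
      rw [← inf_eq_left.2 hWK, hp.disj, Subgroup.card_bot] at h4
      omega
  have hthree : 3 ≤ Nat.card ι := by
    by_contra hlt
    letI := Fintype.ofFinite ι
    rw [Nat.card_eq_fintype_card] at hlt
    by_cases hall : ∀ i : ι, i = ⟨(W₀, K₀), hg₀⟩
    · refine hg₀.ne (le_bot_iff.1 (hinter ▸ le_iInf fun i => ?_))
      rw [hall i]
    push Not at hall
    obtain ⟨i, hi⟩ := hall
    refine i.2.inf_ne_bot hS hna ih hg₀ hel h16 (le_bot_iff.1 (hinter ▸ le_iInf fun k => ?_))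
    rcases eq_or_ne k i with rfl | hk
    · exact inf_le_left
    rcases eq_or_ne k ⟨(W₀, K₀), hg₀⟩ with rfl | hk'
    · exact inf_le_right
    exfalso
    have h3 := Finset.card_le_univ ({k, i, ⟨(W₀, K₀), hg₀⟩} : Finset ι)
    rw [Finset.card_insert_of_notMem (by simp [hk, hk']), Finset.card_insert_of_notMem (by simp [hi]),
      Finset.card_singleton] at h3
    omega
  have hF : Frame S (fun i : ι => i.1.1) (fun i : ι => i.1.2) :=
    { elem := ⟨hS, fun v hv => by rw [pow_two]; exact hel v hv⟩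
      three := hthree
      W_le := fun i => (i.2.isPair hS hna ih).W_le
      K_le := fun i => (i.2.isPair hS hna ih).K_le
      split := fun i => (i.2.isPair hS hna ih).split
      disj := fun i => (i.2.isPair hS hna ih).disj
      le_K := horth
      four := fun i => (i.2.isPair hS hna ih).four
      perm := hperm
      sep := fun c hc hc1 Z hZ => by
        obtain ⟨W, K, hg, hK⟩ := exists_good hS hna ih _ hc hc1 Z hZ (Nat.lt_succ_self _)
        refine ⟨⟨(W, K), hg⟩, le_trans ?_ (img_kPart_le S c Z)⟩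
        exact map_mono (comap_mono hK)
      comp := fun i t ht ht1 => by
        obtain ⟨Z, hZ, hW, hK⟩ := i.2.comp t ht ht1
        refine ⟨Z, hZ, ?_, ?_⟩
        · rw [← hW]; exact img_wPart S hS ((i.2.isPair hS hna ih).K_le ht) Z
        · rw [← hK]; exact img_kPart_le S t Z }
  exact hF.absurd_simple hna

end Cfsg.Lib.WalterBig
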