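import Cfsg.Agent.Lib.WalterBig.LinearBase
import Cfsg.Agent.S0205

/-!
# An odd irreducible linear group with a large cyclic subgroup has a large fixed space

If an irreducible group of odd order over the field of two elements has a cyclic subgroup transitive on
the nonzero elements of its commutator `W`, then `W` is smaller than the fixed space.
-/

set_option autoImplicit false
set_option linter.unusedSectionVars false
set_option linter.unusedVariables false
set_option linter.style.haveILetI false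

namespace Cfsg.Lib.WalterBig.Linear

open Subgroup
open scoped commutatorElement

universe u

/-- An automorphism of a finite vector space has order less than the number of vectors. -/
theorem orderOf_lt_card {k : Type} [Field k] [Finite k] {M : Type u} [AddCommGroup M] [Module k M]
    [Finite M] [Nontrivial M] (f : Module.End k M) (hf : IsOfFinOrder f) : orderOf f < Nat.card M := by
  classical
  set n := Module.finrank k M
  have hmon : (LinearMap.charpoly f).Monic := LinearMap.charpoly_monic f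
  have hdeg : ∀ p : Polynomial k, p %ₘ LinearMap.charpoly f ∈ Polynomial.degreeLT k n := fun p => by
    rw [Polynomial.mem_degreeLT]
    have hnd : (LinearMap.charpoly f).natDegree = n := LinearMap.charpoly_natDegree f
    refine (Polynomial.degree_modByMonic_lt p hmon).trans_le ?_
    rw [Polynomial.degree_eq_natDegree hmon.ne_zero, hnd]
  have hev : ∀ p : Polynomial k, Polynomial.aeval f (p %ₘ LinearMap.charpoly f) = Polynomial.aeval f p := fun p => by
    conv_rhs => rw [← Polynomial.modByMonic_add_div p (LinearMap.charpoly f)]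
    rw [map_add, map_mul, LinearMap.aeval_self_charpoly, zero_mul, add_zero]
  haveI : Finite (Polynomial.degreeLT k n) := Finite.of_equiv _ (Polynomial.degreeLTEquiv k n).symm.toEquiv
  let φ : Option (Fin (orderOf f)) → Polynomial.degreeLT k n := fun o =>
    o.elim 0 fun i => ⟨_, hdeg (Polynomial.X ^ (i : ℕ))⟩
  have hφ : ∀ i, Polynomial.aeval f ((φ (some i) : Polynomial.degreeLT k n) : Polynomial k) = f ^ (i : ℕ) := fun i => by
    show Polynomial.aeval f (Polynomial.X ^ (i : ℕ) %ₘ LinearMap.charpoly f) = _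
    rw [hev, map_pow, Polynomial.aeval_X]
  have hne : ∀ i : Fin (orderOf f), f ^ (i : ℕ) ≠ 0 := fun i h0 => by
    have h1 : f ^ (i : ℕ) * f ^ (orderOf f - i) = 1 := by
      rw [← pow_add, Nat.add_sub_cancel' i.2.le, pow_orderOf_eq_one]
    rw [h0, zero_mul] at h1
    exact zero_ne_one h1
  have hinj : Function.Injective φ := by
    rintro (_ | i) (_ | j) hij
    · rfl
    · exact absurd (by rw [← hφ j, ← hij]; simp [φ]) (hne j)
    · exact absurd (by rw [← hφ i, hij]; simp [φ]) (hne i)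
    · have := congrArg (fun p : Polynomial.degreeLT k n => Polynomial.aeval f (p : Polynomial k)) hij
      simp only [hφ] at this
      rw [Fin.ext (pow_injOn_Iio_orderOf i.2 j.2 this)]
  have h1 := Nat.card_le_card_of_injective φ hinj
  rw [Nat.card_congr (Polynomial.degreeLTEquiv k n).toEquiv, Finite.card_option, Nat.card_fin, Nat.card_fun,
    Nat.card_fin, ← Module.natCard_eq_pow_finrank (K := k) (V := M)] at h1
  omega

variable {V : Type u} [AddCommGroup V] [Finite V]

instance finite_end : Finite (AddMonoid.End V) :=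
  Finite.of_injective (fun f => ⇑f) DFunLike.coe_injective

instance finite_units : Finite (AddMonoid.End V)ˣ :=
  Finite.of_injective (fun a => (a : AddMonoid.End V)) Units.val_injective
variable {A : Subgroup (AddMonoid.End V)ˣ} {c₀ : (AddMonoid.End V)ˣ} {K W : AddSubgroup V}

theorem Data.card_V (h : Data A c₀ K W) : Nat.card V = Nat.card K * Nat.card W := by
  rw [← Nat.card_prod]
  symm
  refine Nat.card_congr (Equiv.ofBijective (fun p => (p.1 : V) + p.2) ⟨?_, fun v => ?_⟩)
  · rintro ⟨⟨a, ha⟩, ⟨b, hb⟩⟩ ⟨⟨a', ha'⟩, ⟨b', hb'⟩⟩ e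
    have e' : a + b = a' + b' := e
    have h0 : a + a' = b + b' := by
      refine h.eq_of_add_eq_zero ?_
      rw [show a + a' + (b + b') = a + b + (a' + b') by abel, e', h.two]
    have := h.inf _ (add_mem ha ha') (h0 ▸ add_mem hb hb')
    have ha0 := h.eq_of_add_eq_zero this
    subst ha0
    exact Prod.ext rfl (Subtype.ext (add_left_cancel e'))
  · obtain ⟨k, hk, w, hw, e⟩ := h.sup v
    exact ⟨(⟨k, hk⟩, ⟨w, hw⟩), e.symm⟩

theorem Data.card_C (h : Data A c₀ K W) : Nat.card (zpowers c₀) + 1 = Nat.card W := by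
  classical
  obtain ⟨w0, hw0, hw00⟩ := h.exists_W_ne
  have e : Nat.card (Option (zpowers c₀)) = Nat.card W := by
    refine Nat.card_congr (Equiv.ofBijective
      (fun o => o.elim (0 : W) fun c => ⟨ap (c : (AddMonoid.End V)ˣ) w0, h.C_winv c.2 w0 hw0⟩) ⟨?_, ?_⟩)
    · have hnz : ∀ c : zpowers c₀, ap (c : (AddMonoid.End V)ˣ) w0 ≠ 0 := fun c e =>
        hw00 (ap_injective _ (by rw [e, map_zero]))
      rintro (_ | a) (_ | b) hab
      · rfl
      · exact absurd (congrArg Subtype.val hab).symm (hnz b)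
      · exact absurd (congrArg Subtype.val hab) (hnz a)
      · have hab' : ap (a : (AddMonoid.End V)ˣ) w0 = ap (b : (AddMonoid.End V)ˣ) w0 := congrArg Subtype.val hab
        refine congrArg some (Subtype.ext ?_)
        by_contra hne
        refine hw00 (h.free ((a : (AddMonoid.End V)ˣ)⁻¹ * b) (mul_mem (inv_mem a.2) b.2)
          (fun e => hne (inv_mul_eq_one.mp e)) w0 hw0 ?_)
        rw [ap_mul, ← hab', ap_inv_ap]
    · rintro ⟨v, hv⟩
      rcases eq_or_ne v 0 with rfl | hv0
      · exact ⟨none, rfl⟩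
      · obtain ⟨c, hc, e⟩ := h.trans w0 hw0 v hv hw00 hv0
        exact ⟨some ⟨c, hc⟩, Subtype.ext e⟩
  rwa [Finite.card_option] at e

theorem Data.exists_dim (h : Data A c₀ K W) : ∃ n, Nat.card V = 2 ^ n := by
  haveI : Fact (Nat.Prime 2) := ⟨Nat.prime_two⟩
  refine ((IsPGroup.iff_card (p := 2) (G := Multiplicative V)).mp ?_).imp fun n hn => ?_
  · exact fun g => ⟨1, by rw [pow_one, pow_two]; exact h.two (Multiplicative.toAdd g)⟩
  · rwa [Nat.card_congr Multiplicative.toAdd] at hn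

theorem Data.exists_add (h : Data A c₀ K W) {c : (AddMonoid.End V)ˣ} (hc : c ∈ zpowers c₀) (hc1 : c ≠ 1)
    {w : V} (hw : w ∈ W) : ∃ u ∈ W, u + ap c u = w := by
  have hsurj : Function.Surjective (fun u : W => (⟨(u : V) + ap c u, h.add_ap_mem hc u⟩ : W)) := by
    refine Finite.injective_iff_surjective.mp fun a b hab => Subtype.ext ?_
    have hab' : (a : V) + ap c a = b + ap c b := congrArg Subtype.val hab
    refine h.eq_of_add_eq_zero (h.free c hc hc1 _ (add_mem a.2 b.2) ?_)
    refine (h.eq_of_add_eq_zero ?_).symm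
    rw [map_add, show (a : V) + b + (ap c a + ap c b) = (a + ap c a) + (b + ap c b) by abel, hab', h.two]
  obtain ⟨u, hu⟩ := hsurj ⟨w, hw⟩
  exact ⟨u, u.2, congrArg Subtype.val hu⟩

section Field

variable (h : Data A c₀ K W) {N : Subgroup (AddMonoid.End V)ˣ} (hNA : N ≤ A)
variable (hNn : ∀ a ∈ A, ∀ y ∈ N, a * y * a⁻¹ ∈ N) (hN : ∀ y ∈ N, ∀ z ∈ N, y * z = z * y)
variable (hne : N ≠ ⊥) (hle : Nat.card K ≤ Nat.card W)

include h hNA hNn hN hne hle in
theorem ring_isField : IsField (ring N) where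
  exists_pair_ne := ⟨0, 1, fun e => by
    obtain ⟨k, -, hk⟩ := h.kne
    exact hk (DFunLike.congr_fun (congrArg Subtype.val e).symm k)⟩
  mul_comm := fun a b => Subtype.ext (ring_comm hN a.2 b.2)
  mul_inv_cancel := fun {a} ha => by
    obtain ⟨s, hs, e⟩ := exists_inv h hNA hNn hN hne hle a.2 (fun e => ha (Subtype.ext e))
    exact ⟨⟨s, hs⟩, Subtype.ext ((ring_comm hN a.2 hs).trans e)⟩

include h hNA hNn hN hne hle in
theorem eq_zero_of_ap {r : AddMonoid.End V} (hr : r ∈ ring N) {v : V} (hv : v ≠ 0) (e : r v = 0) : r = 0 := by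
  by_contra hr0
  obtain ⟨s, hs, e1⟩ := exists_inv h hNA hNn hN hne hle hr hr0
  have : s (r v) = v := DFunLike.congr_fun e1 v
  rw [e, map_zero] at this
  exact hv this.symm

include h hNA hNn hN hne hle in
/-- A nontrivial element of an abelian normal subgroup has no fixed points. -/
theorem eq_zero_of_fixed {z : (AddMonoid.End V)ˣ} (hz : z ∈ N) (hz1 : z ≠ 1) {v : V} (e : ap z v = v) :
    v = 0 := by
  by_contra hv
  have := eq_zero_of_ap h hNA hNn hN hne hle (add_mem (ap_mem_ring hz) (one_mem (ring N))) hv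
    (show ap z v + v = 0 by rw [e]; exact h.two v)
  refine hz1 (ext_ap fun u => h.eq_of_add_eq_zero ?_)
  exact DFunLike.congr_fun this u

include h hNA hNn hN hne hle in
/-- The cyclic group centralizes every abelian normal subgroup. -/
theorem commute_normal {y : (AddMonoid.End V)ˣ} (hy : y ∈ N) : c₀ * y = y * c₀ := by
  by_contra hmove
  classical
  set R := ring N
  have hstab : ∀ {c}, c ∈ zpowers c₀ → ∀ {r}, r ∈ R → cj c r ∈ R := fun {c} hc {r} hr =>
    cj_mem_ring (hNn _ (h.C_le hc)) hr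
  let Rv : V → AddSubgroup V := fun v =>
    { carrier := {u | ∃ r ∈ R, r v = u}
      zero_mem' := ⟨0, zero_mem R, rfl⟩
      add_mem' := by rintro _ _ ⟨a, ha, rfl⟩ ⟨b, hb, rfl⟩; exact ⟨a + b, add_mem ha hb, rfl⟩
      neg_mem' := by rintro _ ⟨a, ha, rfl⟩; exact ⟨-a, neg_mem ha, rfl⟩ }
  have hWv : ∀ v ∈ K, v ≠ 0 → W ≤ Rv v := by
    intro v hv hv0
    have hr : cj c₀ (ap y) + ap y ∈ R := add_mem (hstab (mem_zpowers _) (ap_mem_ring hy)) (ap_mem_ring hy)
    have hu : (cj c₀ (ap y) + ap y) v = ap c₀ (ap y v) + ap y v := by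
      show cj c₀ (ap y) v + ap y v = _
      conv_lhs => rw [← h.kfix v hv, cj_ap, h.kfix v hv]
    set u := ap c₀ (ap y v) + ap y v with hu'
    have huW : u ∈ W := by rw [hu', add_comm]; exact h.add_ap_mem (mem_zpowers _) _
    have hu0 : u ≠ 0 := by
      intro e0
      refine hmove (Units.ext ?_)
      have h0 := eq_zero_of_ap h hNA hNn hN hne hle hr hv0 (hu.trans e0)
      exact cj_eq_self_iff.mp (AddMonoidHom.ext fun x => h.eq_of_add_eq_zero (DFunLike.congr_fun h0 x))
    intro w hw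
    rcases eq_or_ne w 0 with rfl | hw0
    · exact zero_mem _
    obtain ⟨c, hc, rfl⟩ := h.trans u huW w hw hu0 hw0
    refine ⟨cj c (cj c₀ (ap y) + ap y), hstab hc hr, ?_⟩
    conv_lhs => rw [← h.C_kfix hc v hv, cj_ap, hu]
  obtain ⟨v, hv, hv0⟩ := h.kne
  obtain ⟨w0, hw0, hw00⟩ := h.exists_W_ne
  have htop : ∀ x : V, ∃ r ∈ R, r v = x := by
    intro x
    obtain ⟨k, hk, w, hw, rfl⟩ := h.sup x
    refine add_mem (s := Rv v) ?_ (hWv v hv hv0 hw)
    rcases eq_or_ne k 0 with rfl | hk0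
    · exact zero_mem _
    obtain ⟨r, hr, e⟩ := hWv v hv hv0 hw0
    obtain ⟨r', hr', e'⟩ := hWv k hk hk0 hw0
    have hr'0 : r' ≠ 0 := fun e0 => hw00 (by rw [← e', e0]; rfl)
    obtain ⟨s, hs, es⟩ := exists_inv h hNA hNn hN hne hle hr' hr'0
    refine ⟨s * r, mul_mem hs hr, ?_⟩
    show s (r v) = k
    rw [e, ← e']
    exact DFunLike.congr_fun es k
  -- the cyclic group acts faithfully on the field
  have hF := ring_isField h hNA hNn hN hne hle
  letI : Field R := hF.toField
  haveI : Fintype R := Fintype.ofFinite R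
  letI : MulSemiringAction (zpowers c₀) R :=
    { smul := fun c r => ⟨cj c r, hstab c.2 r.2⟩
      one_smul := fun r => Subtype.ext (cj_one _)
      mul_smul := fun c d r => Subtype.ext (cj_cj _ _ _).symm
      smul_zero := fun c => Subtype.ext (show cj _ (0 : AddMonoid.End V) = 0 by simp [cj])
      smul_add := fun (c : zpowers c₀) (r s : R) => Subtype.ext (show cj (c : (AddMonoid.End V)ˣ) ((r : AddMonoid.End V) + s) = cj c r + cj c s by
        simp [cj, mul_add, add_mul])
      smul_one := fun c => Subtype.ext (show cj _ (1 : AddMonoid.End V) = 1 by simp [cj])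
      smul_mul := fun c r s => Subtype.ext (cj_mul _ _ _) }
  haveI : FaithfulSMul (zpowers c₀) R := ⟨fun {a b} hab => Subtype.ext (ext_ap fun x => by
    obtain ⟨r, hr, rfl⟩ := htop x
    have he : cj (a : (AddMonoid.End V)ˣ) r = cj (b : (AddMonoid.End V)ˣ) r := congrArg Subtype.val (hab ⟨r, hr⟩)
    have ea := cj_ap (a : (AddMonoid.End V)ˣ) r v
    have eb := cj_ap (b : (AddMonoid.End V)ˣ) r v
    rw [h.C_kfix a.2 v hv] at ea
    rw [h.C_kfix b.2 v hv] at eb
    rw [← ea, he, eb])⟩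
  haveI : Fintype (zpowers c₀) := Fintype.ofFinite _
  have hcR : Nat.card R = Nat.card V := by
    refine Nat.card_congr (Equiv.ofBijective (fun r : R => (r : AddMonoid.End V) v) ⟨fun a b e => ?_, fun x => ?_⟩)
    · refine Subtype.ext (AddMonoidHom.ext fun x => h.eq_of_add_eq_zero ?_)
      have e' : (a : AddMonoid.End V) v = (b : AddMonoid.End V) v := e
      have h0 := eq_zero_of_ap h hNA hNn hN hne hle (add_mem a.2 b.2) hv0
        (show (a : AddMonoid.End V) v + (b : AddMonoid.End V) v = 0 by rw [e']; exact h.two _)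
      exact DFunLike.congr_fun h0 x
    · obtain ⟨r, hr, e⟩ := htop x
      exact ⟨⟨r, hr⟩, e⟩
  obtain ⟨n, hn⟩ := h.exists_dim
  have h1 := FixedPoints.finrank_eq_card (zpowers c₀) R
  have h2 : Nat.card R = Nat.card (FixedPoints.subfield (zpowers c₀) R) ^ Fintype.card (zpowers c₀) := by
    rw [← h1]; exact Module.natCard_eq_pow_finrank
  rw [hcR, hn] at h2
  obtain ⟨l, -, hl⟩ := (Nat.dvd_prime_pow Nat.prime_two).1
    (h2 ▸ dvd_pow_self _ Fintype.card_ne_zero : Nat.card (FixedPoints.subfield (zpowers c₀) R) ∣ 2 ^ n)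
  rw [hl, ← pow_mul, ← Nat.card_eq_fintype_card] at h2
  have hdvd : Nat.card (zpowers c₀) ∣ n := ⟨l, by rw [mul_comm]; exact Nat.pow_right_injective le_rfl h2⟩
  -- arithmetic
  have hW := h.card_C
  have hV := h.card_V
  have h16 := h.big
  rw [hn] at hV h16
  have hn4 : 4 ≤ n := (Nat.pow_le_pow_iff_right (by norm_num : 1 < 2)).mp (show 2 ^ 4 ≤ 2 ^ n by simpa using h16)
  obtain ⟨d, -, hd⟩ := (Nat.dvd_prime_pow Nat.prime_two).1 (Dvd.intro_left _ hV.symm : Nat.card W ∣ 2 ^ n)
  have h4 := h.wfour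
  have hd2 : 2 ≤ d := (Nat.pow_le_pow_iff_right (by norm_num : 1 < 2)).mp (show 2 ^ 2 ≤ 2 ^ d by rw [← hd]; simpa using h4)
  have hn2 : n ≤ 2 * d := (Nat.pow_le_pow_iff_right (by norm_num : 1 < 2)).mp (by
    rw [hV, two_mul, pow_add, ← hd]; exact Nat.mul_le_mul_right _ hle)
  rw [hd] at hW
  have hle' : Nat.card (zpowers c₀) ≤ n := Nat.le_of_dvd (by omega) hdvd
  rcases eq_or_ne d 2 with rfl | hd'
  · obtain rfl : n = 4 := by omega
    rw [show (2 : ℕ) ^ 2 = 4 by norm_num] at hW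
    rw [show Nat.card (zpowers c₀) = 3 by omega] at hdvd
    norm_num at hdvd
  · have key : ∀ k, 3 ≤ k → 2 * k + 1 < 2 ^ k := by
      intro k hk
      induction k, hk using Nat.le_induction with
      | base => norm_num
      | succ k hk ih => rw [pow_succ]; omega
    have := key d (by omega)
    omega

end Field

/-- The cyclic group and its conjugates. -/
def conjClosure (A : Subgroup (AddMonoid.End V)ˣ) (c₀ : (AddMonoid.End V)ˣ) : Subgroup (AddMonoid.End V)ˣ :=
  Subgroup.closure {g | ∃ a ∈ A, g = a * c₀ * a⁻¹}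

section Main

variable (h : Data A c₀ K W) (hle : Nat.card K ≤ Nat.card W)

include h in
theorem closure_le_A : conjClosure A c₀ ≤ A := (closure_le A).mpr (by
  rintro _ ⟨a, ha, rfl⟩
  exact mul_mem (mul_mem ha h.mem) (inv_mem ha))

theorem closure_normal : ∀ b ∈ A, ∀ g ∈ conjClosure A c₀, b * g * b⁻¹ ∈ conjClosure A c₀ := by
  intro b hb g hg
  have : conjClosure A c₀ ≤ (conjClosure A c₀).comap (MulAut.conj b).toMonoidHom := (closure_le _).mpr (by
    rintro _ ⟨a, ha, rfl⟩
    refine subset_closure ⟨b * a, mul_mem hb ha, ?_⟩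
    simp [mul_assoc])
  exact this hg

include h in
theorem mem_closure : c₀ ∈ conjClosure A c₀ := subset_closure ⟨1, one_mem A, by group⟩

include h hle in
/-- The conjugates centralize every abelian normal subgroup. -/
theorem closure_commute {N : Subgroup (AddMonoid.End V)ˣ} (hNA : N ≤ A)
    (hNn : ∀ a ∈ A, ∀ y ∈ N, a * y * a⁻¹ ∈ N) (hN : ∀ y ∈ N, ∀ z ∈ N, y * z = z * y)
    {g y : (AddMonoid.End V)ˣ} (hg : g ∈ conjClosure A c₀) (hy : y ∈ N) : g * y = y * g := by
  rcases eq_or_ne N ⊥ with rfl | hne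
  · rw [mem_bot.mp hy, mul_one, one_mul]
  have : conjClosure A c₀ ≤ centralizer (N : Set (AddMonoid.End V)ˣ) := (closure_le _).mpr (by
    rintro _ ⟨a, ha, rfl⟩
    refine mem_centralizer_iff.mpr fun y hy => ?_
    have h1 := commute_normal h hNA hNn hN hne hle
      (show a⁻¹ * y * a ∈ N by simpa using hNn a⁻¹ (inv_mem ha) y hy)
    calc y * (a * c₀ * a⁻¹) = a * ((a⁻¹ * y * a) * c₀) * a⁻¹ := by group
      _ = a * (c₀ * (a⁻¹ * y * a)) * a⁻¹ := by rw [h1]
      _ = a * c₀ * a⁻¹ * y := by group)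
  exact (mem_centralizer_iff.mp (this hg) y hy).symm

include h hle in
theorem closure_not_comm : ¬ ∀ a ∈ conjClosure A c₀, ∀ b ∈ conjClosure A c₀, a * b = b * a := by
  intro hcomm
  obtain ⟨v, hv, hv0⟩ := h.kne
  exact hv0 (eq_zero_of_fixed h (closure_le_A h) closure_normal hcomm
    (fun e => h.c₀_ne_one (mem_bot.mp (e ▸ mem_closure h))) hle (mem_closure h) h.c₀_ne_one (h.kfix v hv))

/-- The center of the closure. -/
def centre (A : Subgroup (AddMonoid.End V)ˣ) (c₀ : (AddMonoid.End V)ˣ) : Subgroup (AddMonoid.End V)ˣ :=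
  conjClosure A c₀ ⊓ centralizer (conjClosure A c₀ : Set (AddMonoid.End V)ˣ)

theorem centre_comm : ∀ y ∈ centre A c₀, ∀ z ∈ centre A c₀, y * z = z * y :=
  fun y hy z hz => mem_centralizer_iff.mp hz.2 y hy.1

theorem centre_normal : ∀ a ∈ A, ∀ y ∈ centre A c₀, a * y * a⁻¹ ∈ centre A c₀ := by
  intro a ha y hy
  refine ⟨closure_normal a ha y hy.1, mem_centralizer_iff.mpr fun g hg => ?_⟩
  have hg' : a⁻¹ * g * a ∈ conjClosure A c₀ := by simpa using closure_normal a⁻¹ (inv_mem ha) g hg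
  calc g * (a * y * a⁻¹) = a * ((a⁻¹ * g * a) * y) * a⁻¹ := by group
    _ = a * (y * (a⁻¹ * g * a)) * a⁻¹ := by rw [mem_centralizer_iff.mp hy.2 _ hg']
    _ = a * y * a⁻¹ * g := by group

theorem commute_centre {g z : (AddMonoid.End V)ˣ} (hg : g ∈ conjClosure A c₀) (hz : z ∈ centre A c₀) :
    g * z = z * g :=
  mem_centralizer_iff.mp hz.2 g hg

include h hle in
/-- No element conjugates an element of the cyclic group to a nontrivial scalar multiple. -/
theorem not_conj_mul {c g z : (AddMonoid.End V)ˣ} (hc : c ∈ zpowers c₀) (hc1 : c ≠ 1)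
    (hg : g ∈ conjClosure A c₀) (hz : z ∈ centre A c₀) (hz1 : z ≠ 1) (he : g * c * g⁻¹ = c * z) : False := by
  have hcX : c ∈ conjClosure A c₀ := zpowers_le.mpr (mem_closure h) hc
  have hfix : ∀ {y : (AddMonoid.End V)ˣ}, y ∈ centre A c₀ → y ≠ 1 → ∀ {v : V}, ap y v = v → v = 0 :=
    fun {y} hy hy1 {v} e => eq_zero_of_fixed h (inf_le_left.trans (closure_le_A h)) centre_normal centre_comm
      (fun e0 => hy1 (mem_bot.mp (e0 ▸ hy))) hle hy hy1 e
  have key : ∀ {g y : (AddMonoid.End V)ˣ}, y ∈ centre A c₀ → y ≠ 1 → g * c * g⁻¹ = c * y →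
      ∀ w ∈ W, ap c (ap y w) = w := by
    intro g y hy hy1 he w hw
    have hcy : c * y = y * c := commute_centre hcX hy
    obtain ⟨v, hv, hv0⟩ := h.kne
    set u := ap g v
    have hu : ap c (ap y u) = u := by
      show ap (c * y) (ap g v) = ap g v
      rw [← he, ap_mul, ap_mul, ap_inv_ap, h.C_kfix hc v hv]
    have hu0 : u ≠ 0 := fun e0 => hv0 (ap_injective g (by rw [map_zero]; exact e0))
    have huW : u ∈ W := by
      obtain ⟨k, hk, w', hw', e⟩ := h.sup u
      have hyk : ap y k ∈ K := (h.mem_K_iff hc hc1).mpr (by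
        rw [← ap_mul, hcy, ap_mul, h.C_kfix hc k hk])
      have hyw : ap c (ap y w') ∈ W := by
        obtain ⟨x, -, hx⟩ := h.exists_add hc hc1 hw'
        refine h.C_winv hc _ ?_
        rw [← hx, map_add, ← ap_mul y c, ← hcy, ap_mul]
        exact h.add_ap_mem hc _
      rw [e, map_add, map_add, h.C_kfix hc _ hyk] at hu
      have h1 : ap y k + k = w' + ap c (ap y w') := by
        refine h.eq_of_add_eq_zero ?_
        rw [show ap y k + k + (w' + ap c (ap y w')) = ap y k + ap c (ap y w') + (k + w') by abel, hu, h.two]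
      have h2 := h.inf _ (add_mem hyk hk) (h1 ▸ add_mem hw' hyw)
      rw [e, hfix hy hy1 (h.eq_of_add_eq_zero h2), zero_add]
      exact hw'
    rcases eq_or_ne w 0 with rfl | hw0
    · rw [map_zero, map_zero]
    obtain ⟨d, hd, rfl⟩ := h.trans u huW w hw hu0 hw0
    have hdy : d * y = y * d := commute_centre (zpowers_le.mpr (mem_closure h) hd) hy
    have hdc : d * c = c * d := by
      obtain ⟨i, rfl⟩ := mem_zpowers_iff.mp hd
      obtain ⟨j, rfl⟩ := mem_zpowers_iff.mp hc
      exact ((Commute.refl c₀).zpow_zpow i j).eq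
    show ap (c * (y * d)) u = ap d u
    rw [← hdy, ← mul_assoc, ← hdc, mul_assoc, ap_mul, ap_mul, hu]
  have hz2 : z * z ≠ 1 := fun e => hz1 (by
    obtain ⟨n, hn⟩ := h.odd.of_dvd_nat (Subgroup.orderOf_dvd_natCard A (closure_le_A h hz.1))
    have : z ^ (2 * n + 1) = 1 := by rw [← hn]; exact pow_orderOf_eq_one z
    rwa [pow_succ, pow_mul, pow_two, e, one_pow, one_mul] at this)
  have he2 : g * g * c * (g * g)⁻¹ = c * (z * z) := by
    calc g * g * c * (g * g)⁻¹ = g * (g * c * g⁻¹) * g⁻¹ := by group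
      _ = g * (c * z) * g⁻¹ := by rw [he]
      _ = g * c * g⁻¹ * (g * z * g⁻¹) := by group
      _ = c * (z * z) := by
        rw [he, commute_centre hg hz, mul_inv_cancel_right, mul_assoc]
  obtain ⟨w, hw, hw0⟩ := h.exists_W_ne
  have h1 := key hz hz1 he w hw
  have h2 := key (mul_mem hz hz) hz2 he2 w hw
  rw [ap_mul] at h2
  exact hw0 (hfix hz hz1 (ap_injective z (ap_injective c (h2.trans h1.symm))))

include h hle in
theorem false_of_le : False := by
  classical
  set X := conjClosure A c₀ with hX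
  have hXA : X ≤ A := closure_le_A h
  -- a minimal nonabelian normal subgroup
  obtain ⟨D, ⟨hDX, hDn, hDc⟩, hDmin⟩ := Set.exists_min_image
    {D : Subgroup (AddMonoid.End V)ˣ | D ≤ X ∧ (∀ a ∈ A, ∀ y ∈ D, a * y * a⁻¹ ∈ D) ∧
      ¬ ∀ a ∈ D, ∀ b ∈ D, a * b = b * a} (fun D => Nat.card D) (Set.toFinite _)
    ⟨X, le_rfl, closure_normal, closure_not_comm h hle⟩
  have hDA : D ≤ A := hDX.trans hXA
  have hsolD : Group.IsSolvable ↥D := Cfsg.Agent.S0205.result (h.odd.of_dvd_nat (card_dvd_of_le hDA))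
  have hD'lt : ⁅D, D⁆ < D := by
    haveI : Nontrivial ↥D := by
      refine (nontrivial_iff_ne_bot D).mpr fun e => hDc fun a ha b hb => ?_
      rw [e, mem_bot] at ha hb
      rw [ha, hb]
    have := Group.IsSolvable.commutator_lt_top_of_nontrivial ↥D
    refine lt_of_le_of_ne (commutator_le.mpr fun a ha b hb =>
      mul_mem (mul_mem (mul_mem ha hb) (inv_mem ha)) (inv_mem hb)) fun e => this.ne ?_
    refine map_injective D.subtype_injective ?_
    rw [← MonoidHom.range_eq_map, D.range_subtype, map_subtype_commutator]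
    exact e
  have hD'n : ∀ a ∈ A, ∀ y ∈ ⁅D, D⁆, a * y * a⁻¹ ∈ ⁅D, D⁆ := by
    intro a ha y hy
    have : ⁅D, D⁆ ≤ (⁅D, D⁆).comap (MulAut.conj a).toMonoidHom := by
      rw [commutator_le]
      intro p hp q hq
      show (MulAut.conj a) ⁅p, q⁆ ∈ ⁅D, D⁆
      rw [map_commutatorElement]
      exact commutator_mem_commutator (hDn a ha p hp) (hDn a ha q hq)
    exact this hy
  have hD'c : ∀ a ∈ ⁅D, D⁆, ∀ b ∈ ⁅D, D⁆, a * b = b * a := by
    by_contra hnc
    exact (Set.ncard_lt_ncard hD'lt (Set.toFinite _)).not_ge (hDmin _ ⟨hD'lt.le.trans hDX, hD'n, hnc⟩)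
  have hD'Z : ∀ y ∈ ⁅D, D⁆, y ∈ centre A c₀ := fun y hy =>
    ⟨hDX (hD'lt.le hy), mem_centralizer_iff.mpr fun g hg =>
      closure_commute h hle (hD'lt.le.trans hDA) hD'n hD'c hg hy⟩
  have hcomD : ∀ {p q : (AddMonoid.End V)ˣ}, p ∈ D → q ∈ D → ∀ r ∈ D, r * ⁅p, q⁆ = ⁅p, q⁆ * r :=
    fun hp hq r hr => commute_centre (hDX hr) (hD'Z _ (commutator_mem_commutator hp hq))
  have hmul : ∀ {p q r : (AddMonoid.End V)ˣ}, p ∈ D → q ∈ D → r ∈ D → ⁅p * q, r⁆ = ⁅p, r⁆ * ⁅q, r⁆ := by
    intro p q r hp hq hr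
    have : ⁅p * q, r⁆ = p * ⁅q, r⁆ * p⁻¹ * ⁅p, r⁆ := by
      simp only [commutatorElement_def]; group
    rw [this, hcomD hq hr p hp, mul_inv_cancel_right]
    exact commute_centre (hDX (hD'lt.le (commutator_mem_commutator hq hr))) (hD'Z _ (commutator_mem_commutator hp hr))
  have hpow : ∀ {p r : (AddMonoid.End V)ˣ}, p ∈ D → r ∈ D → ∀ n : ℕ, ⁅p ^ n, r⁆ = ⁅p, r⁆ ^ n := by
    intro p r hp hr n
    induction n with
    | zero => simp
    | succ n ih => rw [pow_succ, hmul (pow_mem hp n) hp hr, ih, pow_succ]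
  -- a prime of the central factor
  obtain ⟨u0, hu0, w0, hw0, huw⟩ : ∃ u ∈ D, ∃ w ∈ D, ⁅u, w⁆ ≠ 1 := by
    by_contra hcon
    push_neg at hcon
    exact hDc fun a ha b hb => commutatorElement_eq_one_iff_mul_comm.mp (hcon a ha b hb)
  set m := orderOf ((⟨u0, hu0⟩ : ↥D) : ↥D ⧸ center ↥D) with hm
  have hcen : ∀ {p : (AddMonoid.End V)ˣ} (hp : p ∈ D), (⟨p, hp⟩ : ↥D) ∈ center ↥D ↔ ∀ r ∈ D, ⁅p, r⁆ = 1 := by
    intro p hp
    rw [mem_center_iff]
    exact ⟨fun e r hr => commutatorElement_eq_one_iff_mul_comm.mpr (congrArg Subtype.val (e ⟨r, hr⟩)).symm,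
      fun e g => Subtype.ext (commutatorElement_eq_one_iff_mul_comm.mp (e g g.2)).symm⟩
  have hm1 : m ≠ 1 := fun e => huw ((hcen hu0).mp ((QuotientGroup.eq_one_iff _).mp (orderOf_eq_one_iff.mp e)) w0 hw0)
  obtain ⟨l, hl, hlm⟩ := Nat.exists_prime_and_dvd hm1
  haveI := Fact.mk hl
  let U : Subgroup (AddMonoid.End V)ˣ :=
    { carrier := {u | u ∈ D ∧ ∀ r ∈ D, ⁅u, r⁆ ^ l = 1}
      one_mem' := ⟨one_mem D, fun r _ => by simp⟩
      mul_mem' := fun {p q} hp hq => ⟨mul_mem hp.1 hq.1, fun r hr => by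
        rw [hmul hp.1 hq.1 hr, (show Commute ⁅p, r⁆ ⁅q, r⁆ from
          commute_centre (hDX (hD'lt.le (commutator_mem_commutator hp.1 hr)))
            (hD'Z _ (commutator_mem_commutator hq.1 hr))).mul_pow, hp.2 r hr, hq.2 r hr, one_mul]⟩
      inv_mem' := fun {p} hp => ⟨inv_mem hp.1, fun r hr => by
        have e := hmul (inv_mem hp.1) hp.1 hr
        rw [inv_mul_cancel, commutatorElement_one_left] at e
        rw [eq_inv_of_mul_eq_one_left e.symm, inv_pow, hp.2 r hr, inv_one]⟩ }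
  have hUD : U ≤ D := fun _ hu => hu.1
  have hUX : U ≤ X := hUD.trans hDX
  have hUn : ∀ a ∈ A, ∀ y ∈ U, a * y * a⁻¹ ∈ U := by
    intro a ha y hy
    refine ⟨hDn a ha y hy.1, fun r hr => ?_⟩
    have hr' : a⁻¹ * r * a ∈ D := by simpa using hDn a⁻¹ (inv_mem ha) r hr
    have e := congrArg (MulAut.conj a) (hy.2 _ hr')
    rw [map_pow, map_one, map_commutatorElement, MulAut.conj_apply, MulAut.conj_apply,
      show a * (a⁻¹ * r * a) * a⁻¹ = r by group] at e
    exact e
  have hUc : ¬ ∀ p ∈ U, ∀ q ∈ U, p * q = q * p := by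
    intro hUc
    have hu' : u0 ^ (m / l) ∈ U := by
      refine ⟨pow_mem hu0 _, fun r hr => ?_⟩
      rw [← hpow (pow_mem hu0 _) hr, ← pow_mul, Nat.div_mul_cancel hlm]
      exact (hcen (pow_mem hu0 m)).mp ((QuotientGroup.eq_one_iff _).mp (by
        show ((⟨u0, hu0⟩ ^ m : ↥D) : ↥D ⧸ center ↥D) = 1
        rw [QuotientGroup.mk_pow, pow_orderOf_eq_one])) r hr
    have h1 : ∀ r ∈ D, ⁅u0 ^ (m / l), r⁆ = 1 := fun r hr => commutatorElement_eq_one_iff_mul_comm.mpr
      (closure_commute h hle (hUX.trans hXA) hUn hUc (hDX hr) hu').symm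
    have h2 : ((⟨u0, hu0⟩ ^ (m / l) : ↥D) : ↥D ⧸ center ↥D) = 1 :=
      (QuotientGroup.eq_one_iff _).mpr ((hcen (pow_mem hu0 _)).mpr h1)
    rw [QuotientGroup.mk_pow] at h2
    have h3 := orderOf_dvd_of_pow_eq_one h2
    rw [← hm] at h3
    have hmpos : 0 < m := orderOf_pos _
    have := Nat.le_of_dvd (Nat.div_pos (Nat.le_of_dvd hmpos hlm) hl.pos) h3
    exact absurd this (not_le.mpr (Nat.div_lt_self hmpos hl.one_lt))
  -- the centre of `U` is scalar
  set Y := U ⊓ centralizer (U : Set (AddMonoid.End V)ˣ) with hY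
  have hYn : ∀ a ∈ A, ∀ y ∈ Y, a * y * a⁻¹ ∈ Y := by
    intro a ha y hy
    refine ⟨hUn a ha y hy.1, mem_centralizer_iff.mpr fun g hg => ?_⟩
    have hg' : a⁻¹ * g * a ∈ U := by simpa using hUn a⁻¹ (inv_mem ha) g hg
    calc g * (a * y * a⁻¹) = a * ((a⁻¹ * g * a) * y) * a⁻¹ := by group
      _ = a * (y * (a⁻¹ * g * a)) * a⁻¹ := by rw [mem_centralizer_iff.mp hy.2 _ hg']
      _ = a * y * a⁻¹ * g := by group
  have hYZ : ∀ y ∈ Y, y ∈ centre A c₀ := fun y hy => ⟨hUX hy.1, mem_centralizer_iff.mpr fun g hg =>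
    closure_commute h hle ((inf_le_left.trans hUX).trans hXA) hYn
      (fun p hp q hq => mem_centralizer_iff.mp hq.2 p hp.1) hg hy⟩
  have hZne : centre A c₀ ≠ ⊥ := fun e => huw (mem_bot.mp (e ▸ hD'Z _ (commutator_mem_commutator hu0 hw0)))
  have hmemY : ∀ {p : (AddMonoid.End V)ˣ} (hp : p ∈ U), (⟨p, hp⟩ : ↥U) ∈ center ↥U ↔ p ∈ Y := by
    intro p hp
    rw [mem_center_iff]
    exact ⟨fun e => ⟨hp, mem_centralizer_iff.mpr fun g hg => congrArg Subtype.val (e ⟨g, hg⟩)⟩,
      fun e g => Subtype.ext (mem_centralizer_iff.mp e.2 g g.2)⟩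
  haveI : Fintype (↥U ⧸ center ↥U) := Fintype.ofFinite _
  let rep : ↥U ⧸ center ↥U → ↥U := Quotient.out
  have hrep : ∀ q, ((rep q : ↥U) : ↥U ⧸ center ↥U) = q := fun q => QuotientGroup.out_eq' q
  -- the space over the scalar field
  have hF := ring_isField h (inf_le_left.trans hXA) centre_normal centre_comm hZne hle
  obtain ⟨R, hR⟩ : ∃ R : Subring (AddMonoid.End V), R = ring (centre A c₀) := ⟨_, rfl⟩
  replace hF : IsField R := hR ▸ hF
  letI : Field R := hF.toField
  have hin : ∀ {r : AddMonoid.End V}, r ∈ R → r ∈ ring (centre A c₀) := fun hr => hR ▸ hr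
  have hto : ∀ {r : AddMonoid.End V}, r ∈ ring (centre A c₀) → r ∈ R := fun hr => hR ▸ hr
  haveI hfree : Module.Free R V := inferInstance
  have hlin : ∀ g ∈ X, ∀ r ∈ R, ∀ v : V, ap g (r v) = r (ap g v) := fun g hg r hr v =>
    DFunLike.congr_fun (commute_ring (N := centre A c₀) (g := ap g) (fun y hy => by
      rw [ap, ap, ← Units.val_mul, ← Units.val_mul, commute_centre hg hy]) (hin hr)) v
  let T : ↥U ⧸ center ↥U → Module.End R V := fun q =>
    { toFun := fun v => ap ((rep q : ↥U) : (AddMonoid.End V)ˣ) v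
      map_add' := fun x y => map_add _ x y
      map_smul' := fun r v => hlin _ (hUX (rep q).2) _ r.2 v }
  obtain ⟨v1, hv1, hv10⟩ := h.kne
  have hfix : ∀ {y : (AddMonoid.End V)ˣ}, y ∈ centre A c₀ → y ≠ 1 → ∀ {v : V}, ap y v = v → v = 0 :=
    fun {y} hy hy1 {v} e => eq_zero_of_fixed h (inf_le_left.trans hXA) centre_normal centre_comm hZne hle hy hy1 e
  have hind : ∀ (s : Finset (↥U ⧸ center ↥U)) (f : ↥U ⧸ center ↥U → R),
      (∀ v : V, ∑ q ∈ s, (f q : AddMonoid.End V) (ap ((rep q : ↥U) : (AddMonoid.End V)ˣ) v) = 0) →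
      ∀ q ∈ s, f q = 0 := by
    intro s
    induction s using Finset.strongInduction with
    | _ s ih =>
      intro f hf q hq
      by_cases hs : ∃ p ∈ s, p ≠ q
      · obtain ⟨p, hp, hpq⟩ := hs
        obtain ⟨g, hg, hne⟩ : ∃ g ∈ U, ⁅g, ((rep p : ↥U) : (AddMonoid.End V)ˣ)⁆ ≠
            ⁅g, ((rep q : ↥U) : (AddMonoid.End V)ˣ)⁆ := by
          by_contra hcon
          push_neg at hcon
          refine hpq ?_
          rw [← hrep p, ← hrep q, QuotientGroup.eq]
          refine (hmemY _).mpr ⟨U.mul_mem (U.inv_mem (rep p).2) (rep q).2, mem_centralizer_iff.mpr fun g hg => ?_⟩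
          have e := hcon g hg
          simp only [commutatorElement_def] at e
          set a := ((rep p : ↥U) : (AddMonoid.End V)ˣ)
          set b := ((rep q : ↥U) : (AddMonoid.End V)ˣ)
          show g * (a⁻¹ * b) = a⁻¹ * b * g
          have h3 : g * a * g⁻¹ * a⁻¹ * b * g = g * b * g⁻¹ * b⁻¹ * b * g := by rw [e]
          calc g * (a⁻¹ * b) = g * a⁻¹ * g⁻¹ * (g * b * g⁻¹ * b⁻¹ * b * g) := by group
            _ = g * a⁻¹ * g⁻¹ * (g * a * g⁻¹ * a⁻¹ * b * g) := by rw [h3]
            _ = a⁻¹ * b * g := by group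
        let χ : ↥U ⧸ center ↥U → R := fun k => ⟨ap ⁅g, ((rep k : ↥U) : (AddMonoid.End V)ˣ)⁆,
          hto (ap_mem_ring (hD'Z _ (commutator_mem_commutator (hUD hg) (hUD (rep k).2))))⟩
        have h1 : ∀ v : V, ∑ k ∈ s.erase p, (((χ k + χ p) * f k : R) : AddMonoid.End V)
            (ap ((rep k : ↥U) : (AddMonoid.End V)ˣ) v) = 0 := by
          intro v
          rw [Finset.sum_erase _ (by
            show (χ p : AddMonoid.End V) ((f p : AddMonoid.End V) _) + (χ p : AddMonoid.End V) ((f p : AddMonoid.End V) _) = 0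
            exact h.two _)]
          have hsplit : ∀ k ∈ s, (((χ k + χ p) * f k : R) : AddMonoid.End V) (ap ((rep k : ↥U) : (AddMonoid.End V)ˣ) v) =
              ap g ((f k : AddMonoid.End V) (ap ((rep k : ↥U) : (AddMonoid.End V)ˣ) (ap g⁻¹ v))) +
              (χ p : AddMonoid.End V) ((f k : AddMonoid.End V) (ap ((rep k : ↥U) : (AddMonoid.End V)ˣ) v)) := by
            intro k _
            set a := ((rep k : ↥U) : (AddMonoid.End V)ˣ) with ha
            show (χ k : AddMonoid.End V) ((f k : AddMonoid.End V) (ap a v)) +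
              (χ p : AddMonoid.End V) ((f k : AddMonoid.End V) (ap a v)) = _
            congr 1
            rw [hlin g (hUX hg) _ (f k).2]
            refine (DFunLike.congr_fun (ring_comm centre_comm (hin (f k).2) (hin (χ k).2)) (ap a v)).symm.trans ?_
            show (f k : AddMonoid.End V) (ap ⁅g, a⁆ (ap a v)) = _
            rw [← ap_mul, ← ap_mul, ← ap_mul, commutatorElement_def, inv_mul_cancel_right, mul_assoc]
          rw [Finset.sum_congr rfl hsplit, Finset.sum_add_distrib, ← map_sum, ← map_sum, hf, hf, map_zero, map_zero,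
            add_zero]
        have h2 := ih _ (Finset.erase_ssubset hp) _ h1 q (Finset.mem_erase.mpr ⟨hpq.symm, hq⟩)
        rcases mul_eq_zero.mp h2 with e | e
        · exfalso
          refine hne (ext_ap fun x => h.eq_of_add_eq_zero ?_)
          rw [add_comm]
          exact DFunLike.congr_fun (congrArg Subtype.val e) x
        · exact e
      · push_neg at hs
        obtain rfl : s = {q} := Finset.eq_singleton_iff_unique_mem.mpr ⟨hq, hs⟩
        have e := hf (ap ((rep q : ↥U) : (AddMonoid.End V)ˣ)⁻¹ v1)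
        rw [Finset.sum_singleton, ap_ap_inv] at e
        exact Subtype.ext (eq_zero_of_ap h (inf_le_left.trans hXA) centre_normal centre_comm hZne hle (hin (f q).2) hv10 e)
  have hli : LinearIndependent R T := Fintype.linearIndependent_iff.mpr fun f hf q =>
    hind Finset.univ f (fun v => by
      have e := LinearMap.congr_fun hf v
      simp only [LinearMap.sum_apply, LinearMap.smul_apply, LinearMap.zero_apply] at e
      exact e) q (Finset.mem_univ q)
  have hQh : Nat.card (↥U ⧸ center ↥U) ≤ Module.finrank R V * Module.finrank R V := by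
    rw [Nat.card_eq_fintype_card, ← Module.finrank_linearMap (R := R) (S := R) V V]
    exact hli.fintype_card_le_finrank
  -- the dimensions
  obtain ⟨n, hn⟩ := h.exists_dim
  obtain ⟨d, -, hd⟩ := (Nat.dvd_prime_pow Nat.prime_two).1
    (show Nat.card W ∣ 2 ^ n by rw [← hn, h.card_V]; exact dvd_mul_left _ _)
  have hcW := h.card_C
  rw [hd] at hcW
  have hh : Module.finrank R V ≤ d := by
    have e1 : Nat.card V = Nat.card R ^ Module.finrank R V := Module.natCard_eq_pow_finrank
    have e4 : 4 ≤ Nat.card R := by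
      obtain ⟨⟨y, hy⟩, hy1'⟩ := (Subgroup.ne_bot_iff_exists_ne_one).mp hZne
      have hy1 : y ≠ 1 := fun e => hy1' (Subtype.ext e)
      let F : Fin 4 → R := ![0, 1, ⟨ap y, hto (ap_mem_ring hy)⟩, ⟨ap y, hto (ap_mem_ring hy)⟩ + 1]
      have hy0 : ap y ≠ 0 := fun e => hv10 (ap_injective y (by rw [map_zero, e]; rfl))
      have hy1' : ap y ≠ 1 := fun e => hy1 (Units.ext e)
      have hch : ∀ r : R, r + r = 0 := fun r => Subtype.ext (AddMonoidHom.ext fun x => h.two _)
      have hyR : (⟨ap y, hto (ap_mem_ring hy)⟩ : R) + 1 ≠ 0 := fun e => hy1' (congrArg Subtype.val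
        ((add_eq_zero_iff_eq_neg.mp e).trans (neg_eq_of_add_eq_zero_left (hch 1))))
      have hinj : Function.Injective F := by
        intro i j e
        fin_cases i <;> fin_cases j <;> simp [F] at e ⊢
        all_goals first
          | exact absurd (congrArg Subtype.val e) hy0
          | exact absurd e hy0
          | exact absurd e.symm hy0
          | exact absurd e hy1'
          | exact absurd e.symm hy1'
          | exact absurd (congrArg Subtype.val e).symm hy0
          | exact absurd (congrArg Subtype.val e) hy1'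
          | exact absurd (congrArg Subtype.val e).symm hy1'
          | exact absurd e hyR
          | exact absurd e.symm hyR
      simpa using Nat.card_le_card_of_injective F hinj
    have e2 : Nat.card R ^ Module.finrank R V ≤ 2 ^ (2 * d) := by
      rw [← e1, h.card_V, two_mul, pow_add, hd]
      exact Nat.mul_le_mul_right _ (hle.trans_eq hd)
    have e3 := (Nat.pow_le_pow_left e4 (Module.finrank R V)).trans e2
    rw [show (4 : ℕ) = 2 ^ 2 by norm_num, ← pow_mul] at e3
    have := (Nat.pow_le_pow_iff_right (by norm_num : 1 < 2)).mp e3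
    omega
  have hQ2 : Nat.card (↥U ⧸ center ↥U) ≤ d * d := hQh.trans (Nat.mul_le_mul hh hh)
  -- the cyclic group acts faithfully on the quotient
  have hcent : ∀ {c}, c ∈ zpowers c₀ → c ≠ 1 → (∀ u ∈ U, c⁻¹ * (u * c * u⁻¹) ∈ Y) → ∀ u ∈ U, c * u = u * c := by
    intro c hc hc1 hall u hu
    by_contra hne
    refine not_conj_mul h hle hc hc1 (hUX hu) (hYZ _ (hall u hu)) (fun e => hne ?_) (by group)
    rw [inv_mul_eq_one, eq_mul_inv_iff_mul_eq] at e
    exact e
  obtain ⟨u1, hu1, hv⟩ : ∃ u ∈ U, c₀⁻¹ * (u * c₀ * u⁻¹) ∉ Y := by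
    by_contra hcon
    push_neg at hcon
    have hc := hcent (mem_zpowers c₀) h.c₀_ne_one hcon
    refine hUc fun p hp q hq => ?_
    have : X ≤ centralizer (U : Set (AddMonoid.End V)ˣ) := (closure_le _).mpr (by
      rintro _ ⟨a, ha, rfl⟩
      refine mem_centralizer_iff.mpr fun y hy => ?_
      have h1 := hc (a⁻¹ * y * a) (by simpa using hUn a⁻¹ (inv_mem ha) y hy)
      calc y * (a * c₀ * a⁻¹) = a * ((a⁻¹ * y * a) * c₀) * a⁻¹ := by group
        _ = a * (c₀ * (a⁻¹ * y * a)) * a⁻¹ := by rw [h1]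
        _ = a * c₀ * a⁻¹ * y := by group)
    exact (mem_centralizer_iff.mp (this (hUX hp)) q hq).symm
  have hfaith : ∀ {c}, c ∈ zpowers c₀ → (∀ u ∈ U, c⁻¹ * (u * c * u⁻¹) ∈ Y) → c = 1 := by
    intro c hc hall
    by_contra hc1
    have hcu := hcent hc hc1 hall
    have hK : ∀ u ∈ U, ∀ v ∈ K, ap u v ∈ K := fun u hu v hv =>
      (h.mem_K_iff hc hc1).mpr (by rw [← ap_mul, hcu u hu, ap_mul, h.C_kfix hc v hv])
    set v := c₀⁻¹ * (u1 * c₀ * u1⁻¹) with hvdef
    have hvU : v ∈ U := by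
      rw [hvdef, show c₀⁻¹ * (u1 * c₀ * u1⁻¹) = (c₀⁻¹ * u1 * c₀⁻¹⁻¹) * u1⁻¹ by group]
      exact mul_mem (hUn _ (inv_mem h.mem) u1 hu1) (inv_mem hu1)
    have hvK : ∀ x ∈ K, ap v x = x := fun x hx => by
      rw [hvdef, ap_mul, ap_mul, ap_mul, h.kfix _ (hK _ (inv_mem hu1) x hx), ap_ap_inv,
        h.C_kfix (inv_mem (mem_zpowers c₀)) x hx]
    obtain ⟨g, hg, hgv⟩ : ∃ g ∈ U, g * v ≠ v * g := by
      by_contra hcon
      push_neg at hcon
      exact hv ⟨hvU, mem_centralizer_iff.mpr hcon⟩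
    refine hgv (commutatorElement_eq_one_iff_mul_comm.mp ?_)
    by_contra hz1
    refine hv10 (hfix (hD'Z _ (commutator_mem_commutator (hUD hg) (hUD hvU))) hz1 ?_)
    rw [commutatorElement_def, ap_mul, ap_mul, ap_mul]
    have e1 : ap v⁻¹ v1 = v1 := by
      conv_lhs => rw [← hvK v1 hv1]
      exact ap_inv_ap v v1
    rw [e1, hvK _ (hK _ (inv_mem hg) v1 hv1), ap_ap_inv]
  -- the action of the cyclic group on the quotient
  have hc0U : ∀ u ∈ U, c₀ * u * c₀⁻¹ ∈ U := hUn c₀ h.mem
  let α : ↥U →* ↥U :=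
    { toFun := fun u => ⟨c₀ * u * c₀⁻¹, hc0U u u.2⟩
      map_one' := Subtype.ext (show c₀ * 1 * c₀⁻¹ = 1 by group)
      map_mul' := fun a b => Subtype.ext (show c₀ * ((a : (AddMonoid.End V)ˣ) * b) * c₀⁻¹ =
        c₀ * a * c₀⁻¹ * (c₀ * b * c₀⁻¹) by group) }
  have hα : center ↥U ≤ (center ↥U).comap α := fun u hu =>
    (hmemY (hc0U u u.2)).mpr (hYn c₀ h.mem u ((hmemY u.2).mp hu))
  let αQ := QuotientGroup.map (center ↥U) (center ↥U) α hα
  have hQl : ∀ q : ↥U ⧸ center ↥U, q ^ l = 1 := by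
    intro q
    obtain ⟨⟨u, hu⟩, rfl⟩ := QuotientGroup.mk_surjective q
    rw [← QuotientGroup.mk_pow, QuotientGroup.eq_one_iff]
    refine (hmemY (pow_mem hu l)).mpr ⟨pow_mem hu l, mem_centralizer_iff.mpr fun g hg => ?_⟩
    refine (commutatorElement_eq_one_iff_mul_comm.mp ?_).symm
    rw [hpow (hUD hu) (hUD hg)]
    exact hu.2 g (hUD hg)
  letI : CommGroup (↥U ⧸ center ↥U) :=
    { (inferInstance : Group (↥U ⧸ center ↥U)) with
      mul_comm := fun a b => by
        obtain ⟨⟨p, hp⟩, rfl⟩ := QuotientGroup.mk_surjective a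
        obtain ⟨⟨q, hq⟩, rfl⟩ := QuotientGroup.mk_surjective b
        rw [← commutatorElement_eq_one_iff_mul_comm]
        show ⁅QuotientGroup.mk' (center ↥U) (⟨p, hp⟩ : ↥U), QuotientGroup.mk' (center ↥U) (⟨q, hq⟩ : ↥U)⁆ = _
        rw [← map_commutatorElement (QuotientGroup.mk' (center ↥U))]
        refine (QuotientGroup.eq_one_iff _).mpr ?_
        have hpq : ⁅p, q⁆ ∈ U := by
          rw [commutatorElement_def]; exact mul_mem (mul_mem (mul_mem hp hq) (inv_mem hp)) (inv_mem hq)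
        exact (hmemY hpq).mpr ⟨hpq, mem_centralizer_iff.mpr fun g hg => hcomD (hUD hp) (hUD hq) g (hUD hg)⟩ }
  letI : Module (ZMod l) (Additive (↥U ⧸ center ↥U)) :=
    AddCommGroup.zmodModule (n := l) fun q => hQl (Additive.toMul q)
  let σ : Module.End (ZMod l) (Additive (↥U ⧸ center ↥U)) :=
    (MonoidHom.toAdditive αQ).toZModLinearMap l
  have hσ : ∀ (i : ℕ) (u : ↥U) (hu' : c₀ ^ i * u * (c₀ ^ i)⁻¹ ∈ U),
      (σ ^ i) (Additive.ofMul (u : ↥U ⧸ center ↥U)) =
        Additive.ofMul ((⟨c₀ ^ i * u * (c₀ ^ i)⁻¹, hu'⟩ : ↥U) : ↥U ⧸ center ↥U) := by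
    intro i
    induction i with
    | zero => intro u hu'; simp
    | succ i ih =>
      intro u hu'
      rw [pow_succ', Module.End.mul_apply, ih u (hUn _ (pow_mem h.mem i) u u.2)]
      show Additive.ofMul (αQ _) = _
      refine congrArg Additive.ofMul (congrArg QuotientGroup.mk (Subtype.ext ?_))
      show c₀ * (c₀ ^ i * u * (c₀ ^ i)⁻¹) * c₀⁻¹ = c₀ ^ (i + 1) * u * (c₀ ^ (i + 1))⁻¹
      rw [pow_succ']
      group
  have hσ1 : ∀ i : ℕ, σ ^ i = 1 → c₀ ^ i = 1 := by
    intro i hi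
    refine hfaith (pow_mem (mem_zpowers c₀) i) fun u hu => ?_
    have hu' : c₀ ^ i * u * (c₀ ^ i)⁻¹ ∈ U := hUn _ (pow_mem h.mem i) u hu
    have e := hσ i ⟨u, hu⟩ hu'
    rw [hi, Module.End.one_apply] at e
    have e' := QuotientGroup.eq.mp (Additive.ofMul.injective e)
    have hY1 := hYn u (hXA (hUX hu)) _ ((hmemY _).mp e')
    have hY2 := hYn ((c₀ ^ i)⁻¹) (inv_mem (pow_mem h.mem i)) _ (inv_mem hY1)
    convert hY2 using 1
    show (c₀ ^ i)⁻¹ * (u * c₀ ^ i * u⁻¹) =
      (c₀ ^ i)⁻¹ * (u * (u⁻¹ * (c₀ ^ i * u * (c₀ ^ i)⁻¹)) * u⁻¹)⁻¹ * ((c₀ ^ i)⁻¹)⁻¹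
    group
  have hσo : orderOf σ = orderOf c₀ := by
    refine Nat.dvd_antisymm (orderOf_dvd_of_pow_eq_one (LinearMap.ext fun q => ?_))
      (orderOf_dvd_of_pow_eq_one (hσ1 _ (pow_orderOf_eq_one σ)))
    obtain ⟨u, hu⟩ := QuotientGroup.mk_surjective (Additive.toMul q)
    rw [show q = Additive.ofMul (u : ↥U ⧸ center ↥U) by rw [hu]; rfl, Module.End.one_apply,
      hσ _ u (hUn _ (pow_mem h.mem _) u u.2)]
    refine congrArg Additive.ofMul (congrArg QuotientGroup.mk (Subtype.ext ?_))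
    show c₀ ^ orderOf c₀ * (u : (AddMonoid.End V)ˣ) * (c₀ ^ orderOf c₀)⁻¹ = u
    rw [pow_orderOf_eq_one]
    group
  have hnt : Nontrivial (Additive (↥U ⧸ center ↥U)) := by
    by_contra hsub
    rw [not_nontrivial_iff_subsingleton] at hsub
    refine hUc fun p hp q hq => ?_
    have e : ((⟨p, hp⟩ : ↥U) : ↥U ⧸ center ↥U) = 1 := Additive.ofMul.injective (Subsingleton.elim _ _)
    exact (mem_centralizer_iff.mp ((hmemY hp).mp ((QuotientGroup.eq_one_iff _).mp e)).2 q hq).symm
  have hc0fin : IsOfFinOrder c₀ := isOfFinOrder_of_finite c₀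
  have hσfin : IsOfFinOrder σ := orderOf_pos_iff.mp (hσo ▸ orderOf_pos c₀)
  have hlt := orderOf_lt_card σ hσfin
  rw [hσo, Nat.card_congr Additive.toMul] at hlt
  rw [Nat.card_zpowers] at hcW
  have hoddQ : Odd (Nat.card (↥U ⧸ center ↥U)) :=
    h.odd.of_dvd_nat ((Subgroup.card_quotient_dvd_card _).trans (card_dvd_of_le (hUX.trans hXA)))
  have hd2 : 2 ≤ d := (Nat.pow_le_pow_iff_right (by norm_num : 1 < 2)).mp
    (show 2 ^ 2 ≤ 2 ^ d by rw [← hd]; simpa using h.wfour)
  have hQ2 : Nat.card (↥U ⧸ center ↥U) ≤ d * d := hQ2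
  have hge : 2 ^ d < Nat.card (↥U ⧸ center ↥U) := by
    rcases Nat.lt_or_ge (2 ^ d) (Nat.card (↥U ⧸ center ↥U)) with h' | h'
    · exact h'
    · exfalso
      have : Nat.card (↥U ⧸ center ↥U) = 2 ^ d := by omega
      rw [this, Nat.odd_iff, show d = d - 1 + 1 by omega, pow_succ] at hoddQ
      omega
  have key : ∀ k, 4 ≤ k → k * k ≤ 2 ^ k := by
    intro k hk
    induction k, hk using Nat.le_induction with
    | base => norm_num
    | succ k hk ih => rw [pow_succ]; nlinarith
  rcases Nat.lt_or_ge d 4 with hd4 | hd4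
  · interval_cases d
    · omega
    · -- order seven on a group of order nine
      have h9 : Nat.card (↥U ⧸ center ↥U) = 9 := by omega
      have ho7 : orderOf c₀ = 7 := by norm_num at hcW; omega
      haveI : Fact (Nat.Prime 7) := ⟨by norm_num⟩
      let f : Function.End (Additive (↥U ⧸ center ↥U)) := fun q => σ q
      have hfp : ∀ i : ℕ, f ^ i = fun q => (σ ^ i) q := by
        intro i
        induction i with
        | zero => rfl
        | succ i ih =>
          funext q
          rw [pow_succ, pow_succ]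
          show (f ^ i) (f q) = (σ ^ i) (σ q)
          rw [ih]
      have hf : f ^ 7 ^ 1 = 1 := by
        rw [hfp, pow_one, ← ho7, ← hσo, pow_orderOf_eq_one]
        rfl
      haveI : Fintype (Additive (↥U ⧸ center ↥U)) := Fintype.ofFinite _
      have hmod := Equiv.Perm.card_fixedPoints_modEq (p := 7) (n := 1) hf
      let Fx : AddSubgroup (Additive (↥U ⧸ center ↥U)) :=
        { carrier := {q | σ q = q}
          zero_mem' := map_zero σ
          add_mem' := fun {a b} (ha : σ a = a) (hb : σ b = b) => show σ (a + b) = a + b by rw [map_add, ha, hb]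
          neg_mem' := fun {a} (ha : σ a = a) => show σ (-a) = -a by rw [map_neg, ha] }
      have hFx : Fintype.card (Function.fixedPoints f) = Nat.card Fx := by
        rw [← Nat.card_eq_fintype_card]; rfl
      have hdvd : Nat.card Fx ∣ 9 := by
        rw [← h9, Nat.card_congr (Additive.ofMul (α := ↥U ⧸ center ↥U))]
        exact AddSubgroup.card_addSubgroup_dvd_card Fx
      
      rw [hFx, ← Nat.card_eq_fintype_card, Nat.card_congr Additive.toMul, h9, Nat.ModEq] at hmod
      have hfull : Nat.card Fx = 9 := by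
        have := Nat.le_of_dvd (by norm_num) hdvd
        interval_cases hx : Nat.card Fx <;> omega
      have htop : Fx = ⊤ := AddSubgroup.eq_top_of_card_eq _ (by rw [hfull, Nat.card_congr Additive.toMul, h9])
      have hs1 : σ = 1 := LinearMap.ext fun q => (htop ▸ AddSubgroup.mem_top q : q ∈ Fx)
      rw [hs1, orderOf_one] at hσo
      omega
  · have := key d hd4
    omega

end Main

/-- The moved space is smaller than the fixed space. -/
theorem Data.card_lt (h : Data A c₀ K W) : Nat.card W < Nat.card K := by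
  by_contra hle
  exact false_of_le h (not_lt.mp hle)

end Cfsg.Lib.WalterBig.Linear
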