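import Mathlib

/-!
# Abelian normal subgroups of an irreducible odd linear group over the field of two elements

The subring generated by an abelian group of odd order is reduced, so its minimal idempotents split
the module; a cyclic group which is transitive on the nonzero elements of its commutator fixes them.
-/

set_option autoImplicit false
set_option linter.unusedSectionVars false
set_option linter.unusedVariables false
set_option linter.style.haveILetI false

namespace Cfsg.Lib.WalterBig.Linear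

open Subgroup

universe u

variable {V : Type u} [AddCommGroup V]

/-- The endomorphism of an element of the unit group. -/
abbrev ap (a : (AddMonoid.End V)ˣ) : AddMonoid.End V := a

/-- Conjugation of an endomorphism. -/
def cj (a : (AddMonoid.End V)ˣ) (r : AddMonoid.End V) : AddMonoid.End V :=
  ap a * r * ap a⁻¹

/-- An irreducible group of odd order with a cyclic subgroup `⟨c₀⟩` fixing `K` and transitive on the
nonzero elements of a complement `W`. -/
structure Data (A : Subgroup (AddMonoid.End V)ˣ) (c₀ : (AddMonoid.End V)ˣ) (K W : AddSubgroup V) : Prop where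
  two : ∀ v : V, v + v = 0
  odd : Odd (Nat.card A)
  irr : ∀ U : AddSubgroup V, (∀ a ∈ A, ∀ u ∈ U, ap a u ∈ U) → U = ⊥ ∨ U = ⊤
  mem : c₀ ∈ A
  kfix : ∀ v ∈ K, ap c₀ v = v
  winv : ∀ v ∈ W, ap c₀ v ∈ W
  trans : ∀ v ∈ W, ∀ w ∈ W, v ≠ 0 → w ≠ 0 → ∃ c ∈ zpowers c₀, ap c v = w
  free : ∀ c ∈ zpowers c₀, c ≠ 1 → ∀ v ∈ W, ap c v = v → v = 0
  sup : ∀ v : V, ∃ k ∈ K, ∃ w ∈ W, v = k + w
  inf : ∀ v ∈ K, v ∈ W → v = 0
  kne : ∃ k ∈ K, k ≠ 0
  wfour : 4 ≤ Nat.card W
  big : 16 ≤ Nat.card V

theorem ap_inv_ap (a : (AddMonoid.End V)ˣ) (v : V) : ap a⁻¹ (ap a v) = v := by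
  show (ap a⁻¹ * ap a) v = v
  rw [ap, ap, Units.inv_mul]; rfl

theorem ap_ap_inv (a : (AddMonoid.End V)ˣ) (v : V) : ap a (ap a⁻¹ v) = v := by
  show (ap a * ap a⁻¹) v = v
  rw [ap, ap, Units.mul_inv]; rfl

theorem ap_mul (a b : (AddMonoid.End V)ˣ) (v : V) : ap (a * b) v = ap a (ap b v) := rfl

theorem ap_one (v : V) : ap (1 : (AddMonoid.End V)ˣ) v = v := rfl

theorem ap_injective (a : (AddMonoid.End V)ˣ) : Function.Injective (ap a) :=
  Function.LeftInverse.injective (ap_inv_ap a)

theorem ext_ap {a b : (AddMonoid.End V)ˣ} (h : ∀ v, ap a v = ap b v) : a = b :=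
  Units.ext (AddMonoidHom.ext h)

theorem cj_ap (a : (AddMonoid.End V)ˣ) (r : AddMonoid.End V) (v : V) : cj a r (ap a v) = ap a (r v) := by
  show ap a (r (ap a⁻¹ (ap a v))) = _
  rw [ap_inv_ap]

theorem cj_one (r : AddMonoid.End V) : cj 1 r = r := by
  simp [cj, ap]

theorem cj_cj (a b : (AddMonoid.End V)ˣ) (r : AddMonoid.End V) : cj a (cj b r) = cj (a * b) r := by
  simp [cj, ap, mul_assoc]

theorem cj_mul (a : (AddMonoid.End V)ˣ) (r s : AddMonoid.End V) : cj a (r * s) = cj a r * cj a s := by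
  simp only [cj, ap, mul_assoc]
  rw [Units.inv_mul_cancel_left]

theorem cj_injective (a : (AddMonoid.End V)ˣ) : Function.Injective (cj a) :=
  Function.LeftInverse.injective (g := cj a⁻¹) fun r => by rw [cj_cj, inv_mul_cancel, cj_one]

theorem cj_eq_self_iff {a : (AddMonoid.End V)ˣ} {r : AddMonoid.End V} :
    cj a r = r ↔ ap a * r = r * ap a := by
  constructor
  · intro h
    conv_rhs => rw [← h]
    simp [cj, ap, mul_assoc]
  · intro h
    simp [cj, h, ap, mul_assoc]

variable {A : Subgroup (AddMonoid.End V)ˣ} {c₀ : (AddMonoid.End V)ˣ} {K W : AddSubgroup V}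

namespace Data

theorem C_le (h : Data A c₀ K W) : zpowers c₀ ≤ A := zpowers_le.mpr h.mem

theorem neg_eq (h : Data A c₀ K W) (v : V) : -v = v := neg_eq_of_add_eq_zero_left (h.two v)

theorem cancel_mid (h : Data A c₀ K W) (x y z : V) : (x + y) + (y + z) = x + z := by
  rw [add_add_add_comm, ← add_assoc, add_assoc x, add_comm y y, h.two, add_zero]

theorem eq_of_add_eq_zero (h : Data A c₀ K W) {x y : V} (e : x + y = 0) : x = y := by
  rw [eq_neg_of_add_eq_zero_left e, h.neg_eq]

theorem C_kfix (h : Data A c₀ K W) {c : (AddMonoid.End V)ˣ} (hc : c ∈ zpowers c₀) :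
    ∀ v ∈ K, ap c v = v := by
  intro v hv
  let st : Subgroup (AddMonoid.End V)ˣ :=
    { carrier := {a | ap a v = v}
      one_mem' := ap_one v
      mul_mem' := fun {a b} (ha : ap a v = v) (hb : ap b v = v) => show ap (a * b) v = v by
        rw [ap_mul, hb, ha]
      inv_mem' := fun {a} (ha : ap a v = v) => show ap a⁻¹ v = v by
        conv_lhs => rw [← ha]
        rw [ap_inv_ap] }
  exact (zpowers_le.mpr (show c₀ ∈ st from h.kfix v hv)) hc

theorem winv_inv [Finite V] (h : Data A c₀ K W) {v : V} (hv : v ∈ W) : ap c₀⁻¹ v ∈ W := by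
  obtain ⟨⟨w, hw⟩, e⟩ := (Finite.injective_iff_surjective (f := fun w : W => (⟨ap c₀ w, h.winv w w.2⟩ : W))).mp
    (fun x y e => Subtype.ext (ap_injective c₀ (congrArg Subtype.val e))) ⟨v, hv⟩
  have e' : ap c₀ w = v := congrArg Subtype.val e
  rw [← e', ap_inv_ap]
  exact hw

theorem C_winv [Finite V] (h : Data A c₀ K W) {c : (AddMonoid.End V)ˣ} (hc : c ∈ zpowers c₀) :
    ∀ v ∈ W, ap c v ∈ W := by
  let st : Subgroup (AddMonoid.End V)ˣ :=
    { carrier := {a | (∀ v ∈ W, ap a v ∈ W) ∧ ∀ v ∈ W, ap a⁻¹ v ∈ W}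
      one_mem' := ⟨fun v hv => hv, fun v hv => by rwa [inv_one]⟩
      mul_mem' := fun {a b} ha hb => ⟨fun v hv => ha.1 _ (hb.1 v hv), fun v hv => by
        rw [mul_inv_rev]; exact hb.2 _ (ha.2 v hv)⟩
      inv_mem' := fun {a} ha => ⟨ha.2, fun v hv => by rw [inv_inv]; exact ha.1 v hv⟩ }
  exact ((zpowers_le.mpr (show c₀ ∈ st from ⟨h.winv, fun v hv => h.winv_inv hv⟩)) hc).1

theorem add_ap_mem [Finite V] (h : Data A c₀ K W) {c : (AddMonoid.End V)ˣ} (hc : c ∈ zpowers c₀) (v : V) :
    v + ap c v ∈ W := by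
  obtain ⟨k, hk, w, hw, rfl⟩ := h.sup v
  rw [map_add, h.C_kfix hc k hk, add_comm k (ap c w), add_comm k w, add_assoc, ← add_assoc k, add_comm k,
    ← add_assoc, ← add_assoc]
  have : w + ap c w + (k + k) = w + ap c w := by rw [h.two, add_zero]
  rw [show w + ap c w + k + k = w + ap c w + (k + k) by abel, this]
  exact add_mem hw (h.C_winv hc w hw)

theorem mem_K_iff [Finite V] (h : Data A c₀ K W) {c : (AddMonoid.End V)ˣ} (hc : c ∈ zpowers c₀) (hc1 : c ≠ 1)
    {v : V} : v ∈ K ↔ ap c v = v := by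
  refine ⟨h.C_kfix hc v, fun hv => ?_⟩
  obtain ⟨k, hk, w, hw, rfl⟩ := h.sup v
  rw [map_add, h.C_kfix hc k hk] at hv
  rwa [h.free c hc hc1 w hw (add_left_cancel hv), add_zero]

theorem exists_W_ne (h : Data A c₀ K W) : ∃ w ∈ W, w ≠ 0 := by
  by_contra hne
  push_neg at hne
  haveI : Subsingleton W := ⟨fun x y => Subtype.ext (by rw [hne x x.2, hne y y.2])⟩
  have := h.wfour
  rw [Nat.card_of_subsingleton (0 : W)] at this
  omega

theorem c₀_ne_one (h : Data A c₀ K W) : c₀ ≠ 1 := by
  intro e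
  classical
  obtain ⟨w, hw, hw0⟩ := h.exists_W_ne
  have hW : W = {v | v = 0 ∨ v = w} → False := fun hW => by
    have h4 := h.wfour
    have : Nat.card W ≤ 2 := by
      refine le_trans (Nat.card_le_card_of_injective (fun v : W => decide ((v : V) = 0)) ?_) (by simp)
      intro x y hxy
      have hx : (x : V) ∈ {v | v = 0 ∨ v = w} := hW ▸ x.2
      have hy : (y : V) ∈ {v | v = 0 ∨ v = w} := hW ▸ y.2
      simp only [decide_eq_decide] at hxy
      rcases hx with hx | hx <;> rcases hy with hy | hy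
      · exact Subtype.ext (hx.trans hy.symm)
      · exact absurd (hxy.mp hx) (hy ▸ hw0)
      · exact absurd (hxy.mpr hy) (hx ▸ hw0)
      · exact Subtype.ext (hx.trans hy.symm)
    omega
  refine hW (Set.ext fun v => ⟨fun hv => ?_, fun hv => ?_⟩)
  · rcases eq_or_ne v 0 with h0 | h0
    · exact Or.inl h0
    · obtain ⟨c, hc, hcv⟩ := h.trans w hw v hv hw0 h0
      rw [e, zpowers_one_eq_bot, mem_bot] at hc
      rw [hc, ap_one] at hcv
      exact Or.inr hcv.symm
  · rcases hv with rfl | rfl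
    exacts [zero_mem W, hw]

end Data

/-- The ring generated by a group of endomorphisms. -/
def ring (N : Subgroup (AddMonoid.End V)ˣ) : Subring (AddMonoid.End V) :=
  Subring.closure (ap '' (N : Set (AddMonoid.End V)ˣ))

theorem ap_mem_ring {N : Subgroup (AddMonoid.End V)ˣ} {y : (AddMonoid.End V)ˣ} (hy : y ∈ N) : ap y ∈ ring N :=
  Subring.subset_closure ⟨y, hy, rfl⟩

theorem commute_ring {N : Subgroup (AddMonoid.End V)ˣ} {g : AddMonoid.End V}
    (hg : ∀ y ∈ N, g * ap y = ap y * g) {r : AddMonoid.End V} (hr : r ∈ ring N) : g * r = r * g := by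
  have : ring N ≤ Subring.centralizer {g} := Subring.closure_le.mpr (by
    rintro _ ⟨y, hy, rfl⟩
    exact Subring.mem_centralizer_iff.mpr (by rintro _ rfl; exact hg y hy))
  exact Subring.mem_centralizer_iff.mp (this hr) g rfl

theorem ring_comm {N : Subgroup (AddMonoid.End V)ˣ} (hN : ∀ y ∈ N, ∀ z ∈ N, y * z = z * y)
    {r s : AddMonoid.End V} (hr : r ∈ ring N) (hs : s ∈ ring N) : r * s = s * r := by
  refine commute_ring (N := N) (fun y hy => ?_) hs
  exact (commute_ring (N := N) (g := ap y) (fun z hz => by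
    rw [ap, ap, ← Units.val_mul, ← Units.val_mul, hN y hy z hz]) hr).symm

theorem cj_mem_ring {N : Subgroup (AddMonoid.End V)ˣ} {a : (AddMonoid.End V)ˣ}
    (ha : ∀ y ∈ N, a * y * a⁻¹ ∈ N) {r : AddMonoid.End V} (hr : r ∈ ring N) : cj a r ∈ ring N := by
  let φ : AddMonoid.End V →+* AddMonoid.End V :=
    { toFun := cj a
      map_one' := by simp [cj, ap]
      map_mul' := cj_mul a
      map_zero' := by simp [cj]
      map_add' := fun r s => by simp [cj, mul_add, add_mul] }
  have : ring N ≤ (ring N).comap φ := Subring.closure_le.mpr (by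
    rintro _ ⟨y, hy, rfl⟩
    exact ap_mem_ring (N := N) (ha y hy))
  exact this hr

section Split

variable [Finite V]
variable (h : Data A c₀ K W) {N : Subgroup (AddMonoid.End V)ˣ} (hNA : N ≤ A)
variable (hNn : ∀ a ∈ A, ∀ y ∈ N, a * y * a⁻¹ ∈ N) (hN : ∀ y ∈ N, ∀ z ∈ N, y * z = z * y)

include h hNA hN in
/-- The ring of an abelian group of odd order is reduced: every element is a power of itself. -/
theorem ring_periodic : ∃ m : ℕ, 2 ≤ m ∧ ∀ r ∈ ring N, r ^ m = r := by
  have hch : ∀ r : AddMonoid.End V, r + r = 0 := fun r => AddMonoidHom.ext fun v => h.two _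
  haveI : Finite (AddMonoid.End V) := Finite.of_injective (fun f => ⇑f) DFunLike.coe_injective
  let sq : ring N → ring N := fun r => r * r
  have hsur : Function.Surjective sq := by
    let T : Subring (AddMonoid.End V) :=
      { carrier := {r | ∃ s ∈ ring N, s * s = r}
        one_mem' := ⟨1, one_mem _, mul_one 1⟩
        mul_mem' := by
          rintro _ _ ⟨a, ha, rfl⟩ ⟨b, hb, rfl⟩
          refine ⟨a * b, mul_mem ha hb, ?_⟩
          rw [mul_assoc, ← mul_assoc b, ring_comm hN hb ha]
          simp [mul_assoc]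
        zero_mem' := ⟨0, zero_mem _, mul_zero 0⟩
        add_mem' := by
          rintro _ _ ⟨a, ha, rfl⟩ ⟨b, hb, rfl⟩
          refine ⟨a + b, add_mem ha hb, ?_⟩
          rw [add_mul, mul_add, mul_add, ring_comm hN hb ha,
            show a * a + a * b + (a * b + b * b) = a * a + b * b + (a * b + a * b) by abel, hch, add_zero]
        neg_mem' := by
          rintro _ ⟨a, ha, rfl⟩
          exact ⟨a, ha, (neg_eq_of_add_eq_zero_left (hch _)).symm⟩ }
    have hle : ring N ≤ T := Subring.closure_le.mpr (by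
      rintro _ ⟨y, hy, rfl⟩
      obtain ⟨n, hn⟩ := h.odd.of_dvd_nat (Subgroup.orderOf_dvd_natCard A (hNA hy))
      refine ⟨ap (y ^ (n + 1)), ap_mem_ring (pow_mem hy _), ?_⟩
      show ap (y ^ (n + 1)) * ap (y ^ (n + 1)) = ap y
      rw [ap, ap, ← Units.val_mul, ← pow_add, show n + 1 + (n + 1) = orderOf y + 1 by omega, pow_succ,
        pow_orderOf_eq_one, one_mul])
    intro r
    obtain ⟨s, hs, e⟩ := hle r.2
    exact ⟨⟨s, hs⟩, Subtype.ext e⟩
  have hbij : Function.Bijective sq := ⟨Finite.injective_iff_surjective.mpr hsur, hsur⟩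
  set σ : Equiv.Perm (ring N) := Equiv.ofBijective sq hbij
  refine ⟨2 ^ orderOf σ, Nat.le_self_pow (orderOf_pos σ).ne' 2, fun r hr => ?_⟩
  have key : ∀ (n : ℕ) (r : ring N), ((σ ^ n) r : AddMonoid.End V) = (r : AddMonoid.End V) ^ 2 ^ n := by
    intro n
    induction n with
    | zero => intro r; simp
    | succ n ih =>
      intro r
      rw [pow_succ, Equiv.Perm.mul_apply, ih]
      show ((r : AddMonoid.End V) * r) ^ 2 ^ n = _
      rw [← pow_two, ← pow_mul, pow_succ']
  have := key (orderOf σ) ⟨r, hr⟩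
  rwa [pow_orderOf_eq_one, eq_comm] at this

/-- A minimal idempotent of the ring of `N`: its nonzero multiples are invertible at it. -/
structure Atom (N : Subgroup (AddMonoid.End V)ˣ) (e : AddMonoid.End V) : Prop where
  mem : e ∈ ring N
  idem : e * e = e
  ne : e ≠ 0
  min : ∀ r ∈ ring N, e * r = 0 ∨ ∃ s ∈ ring N, s * (e * r) = e

include h hNA hN in
theorem exists_atom : ∃ e, Atom N e := by
  obtain ⟨m, hm, hper⟩ := ring_periodic h hNA hN
  classical
  let im : AddMonoid.End V → AddSubgroup V := fun e => AddMonoidHom.range e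
  have h1 : (1 : AddMonoid.End V) ≠ 0 := fun e => by
    obtain ⟨k, -, hk⟩ := h.kne
    exact hk (DFunLike.congr_fun e k)
  obtain ⟨e, ⟨he, hid, he0⟩, hmin⟩ := Set.exists_min_image
    {e : AddMonoid.End V | e ∈ ring N ∧ e * e = e ∧ e ≠ 0} (fun e => Nat.card (im e))
    (by haveI : Finite (AddMonoid.End V) := Finite.of_injective (fun f => ⇑f) DFunLike.coe_injective
        exact Set.toFinite _) ⟨1, one_mem _, one_mul 1, h1⟩
  refine ⟨e, he, hid, he0, fun r hr => ?_⟩
  rcases eq_or_ne (e * r) 0 with hz | hz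
  · exact Or.inl hz
  refine Or.inr ⟨(e * r) ^ (m - 2), pow_mem (mul_mem he hr) _, ?_⟩
  set x := e * r
  have hx : x ^ m = x := hper x (mul_mem he hr)
  set f := x ^ (m - 1) with hf
  have hfx : f * x = x := by rw [hf, ← pow_succ, show m - 1 + 1 = m by omega, hx]
  have hff : f * f = f := by
    conv_lhs => rw [hf]
    rw [show x ^ (m - 1) * x ^ (m - 1) = x ^ (m - 2) * (x ^ (m - 1) * x) by
      rw [← pow_succ, ← pow_add, ← pow_add]; congr 1; omega, ← hf, hfx, hf, ← pow_succ]
    congr 1; omega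
  have hf0 : f ≠ 0 := fun e0 => hz (by rw [← hfx, e0, zero_mul])
  have hef : e * f = f := by
    rw [hf, show m - 1 = 1 + (m - 2) by omega, pow_add, pow_one, ← mul_assoc]
    congr 1
    show e * (e * r) = e * r
    rw [← mul_assoc, hid]
  have hfR : f ∈ ring N := pow_mem (mul_mem he hr) _
  have hle : im f ≤ im e := by
    rintro _ ⟨v, rfl⟩
    exact ⟨f v, DFunLike.congr_fun hef v⟩
  have heq : im f = im e := SetLike.coe_injective
    (Set.eq_of_subset_of_ncard_le hle (hmin f ⟨hfR, hff, hf0⟩) (Set.toFinite _))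
  have : f = e := by
    refine AddMonoidHom.ext fun v => ?_
    have hmem : e v ∈ im f := heq ▸ ⟨v, rfl⟩
    obtain ⟨u, hu'⟩ := hmem
    have hu : f u = e v := hu'
    have h2 : f (e v) = e v :=
      (congrArg f hu.symm).trans ((DFunLike.congr_fun hff u).trans hu)
    have h3 : f * e = f := by rw [ring_comm hN hfR he, hef]
    exact ((DFunLike.congr_fun h3 v).symm).trans h2
  rw [← this, hf, ← pow_succ]
  congr 1; omega

include h hN in
theorem Atom.eq_or_mul_eq_zero {e f : AddMonoid.End V} (he : Atom N e) (hf : Atom N f) : e = f ∨ e * f = 0 := by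
  rcases he.min f hf.mem with h0 | ⟨s, hs, hse⟩
  · exact Or.inr h0
  rcases hf.min e he.mem with h0 | ⟨s', hs', hse'⟩
  · exact Or.inr (by rw [ring_comm hN he.mem hf.mem, h0])
  left
  have h1 : e * f = e := by
    rw [← hse, mul_assoc, mul_assoc, hf.idem]
  have h2 : f * e = f := by
    rw [← hse', mul_assoc, mul_assoc, he.idem]
  rw [← h1, ring_comm hN he.mem hf.mem, h2]

include hNn in
theorem Atom.cj {e : AddMonoid.End V} (he : Atom N e) {a : (AddMonoid.End V)ˣ} (ha : a ∈ A) :
    Atom N (cj a e) := by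
  refine ⟨cj_mem_ring (hNn a ha) he.mem, by rw [← cj_mul, he.idem], fun e0 => he.ne ?_, fun r hr => ?_⟩
  · refine cj_injective a ?_
    rw [e0]; simp [Linear.cj]
  · have hback : Linear.cj a (Linear.cj a⁻¹ r) = r := by rw [cj_cj, mul_inv_cancel, cj_one]
    rcases he.min _ (cj_mem_ring (hNn a⁻¹ (inv_mem ha)) hr) with h0 | ⟨s, hs, hse⟩
    · left
      rw [← hback, ← cj_mul, h0]; simp [Linear.cj]
    · refine Or.inr ⟨_, cj_mem_ring (hNn a ha) hs, ?_⟩
      rw [← hback, ← cj_mul, ← cj_mul, hse]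

include h hNn hN in
/-- The conjugates of an atom add up to the identity. -/
theorem Atom.exists_ne_zero {e : AddMonoid.End V} (he : Atom N e) {v : V} (hv : v ≠ 0) :
    ∃ a ∈ A, Linear.cj a e v ≠ 0 := by
  by_contra hne
  push_neg at hne
  let U : AddSubgroup V :=
    { carrier := {u | ∀ a ∈ A, Linear.cj a e u = 0}
      zero_mem' := fun a _ => map_zero _
      add_mem' := fun {x y} hx hy a ha => by rw [map_add, hx a ha, hy a ha, add_zero]
      neg_mem' := fun {x} hx a ha => by rw [map_neg, hx a ha, neg_zero] }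
  have hU : ∀ b ∈ A, ∀ u ∈ U, ap b u ∈ U := by
    intro b hb u hu a ha
    have := hu (b⁻¹ * a) (mul_mem (inv_mem hb) ha)
    rw [show a = b * (b⁻¹ * a) by group, ← cj_cj, cj_ap, this, map_zero]
  rcases h.irr U hU with e0 | e0
  · exact hv ((AddSubgroup.mem_bot).mp (e0 ▸ (show v ∈ U from hne)))
  · refine he.ne (AddMonoidHom.ext fun u => ?_)
    have : u ∈ U := e0 ▸ AddSubgroup.mem_top u
    have := this 1 (one_mem A)
    rwa [cj_one] at this

include h hNA hNn hN in
/-- The cyclic group fixes every minimal idempotent. -/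
theorem Atom.fixed {e : AddMonoid.End V} (he : Atom N e) (hne : N ≠ ⊥) {c : (AddMonoid.End V)ˣ}
    (hc : c ∈ zpowers c₀) : Linear.cj c e = e := by
  by_contra hmove
  have hAt : ∀ c ∈ zpowers c₀, Atom N (Linear.cj c e) := fun c hc => he.cj hNn (h.C_le hc)
  have hP : ∀ n : ℕ, c ^ n ∈ zpowers c₀ := fun n => pow_mem hc n
  obtain ⟨n, hn⟩ := h.odd.of_dvd_nat (Subgroup.orderOf_dvd_natCard A (h.C_le hc))
  -- the first conjugates are different
  have hmv : ∀ j k : ℕ, Linear.cj (c ^ (j + k)) e = Linear.cj (c ^ j) e → Linear.cj (c ^ k) e = e :=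
    fun j k hjk => by
      rw [pow_add, ← cj_cj] at hjk
      exact cj_injective _ hjk
  have h2 : Linear.cj (c ^ 2) e ≠ e := by
    intro e2
    refine hmove ?_
    have hall : ∀ i : ℕ, Linear.cj (c ^ (2 * i)) e = e := by
      intro i
      induction i with
      | zero => rw [mul_zero, pow_zero, cj_one]
      | succ i ih => rw [mul_add, mul_one, pow_add, ← cj_cj, e2, ih]
    have := hall (n + 1)
    rwa [show 2 * (n + 1) = orderOf c + 1 by omega, pow_succ, pow_orderOf_eq_one, one_mul] at this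
  -- the components of a vector of `e V`
  let x : ℕ → V → V := fun j v => ap (c ^ j) v
  classical
  have hcomp : ∀ {v : V}, e v = v → ∀ j k : ℕ, Linear.cj (c ^ j) e (x k v) =
      if Linear.cj (c ^ j) e = Linear.cj (c ^ k) e then x k v else 0 := by
    intro v hv j k
    have hk : Linear.cj (c ^ k) e (x k v) = x k v := by
      show Linear.cj (c ^ k) e (ap (c ^ k) v) = _
      rw [cj_ap, hv]
    split_ifs with hjk
    · rw [hjk, hk]
    · rcases (hAt _ (hP j)).eq_or_mul_eq_zero h hN (hAt _ (hP k)) with h0 | h0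
      · exact absurd h0 hjk
      · rw [← hk]; exact DFunLike.congr_fun h0 (x k v)
  obtain ⟨v0, hv0⟩ : ∃ u, e u ≠ 0 := by
    by_contra h0
    push_neg at h0
    exact he.ne (AddMonoidHom.ext h0)
  set v := e v0
  have hev : e v = v := DFunLike.congr_fun he.idem v0
  -- supports are preserved
  have hsupp : ∀ d ∈ zpowers c₀, ∀ (u : V) (i : ℕ), Linear.cj (c ^ i) e (ap d u) =
      ap d (Linear.cj (d⁻¹ * c ^ i) e u) := by
    intro d hd u i
    rw [← cj_ap, cj_cj, mul_inv_cancel_left]
  have hx0 : ∀ (k : ℕ) {u : V}, u ≠ 0 → x k u ≠ 0 := fun k u hu h0 =>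
    hu (ap_injective (c ^ k) (by rw [map_zero]; exact h0))
  -- a vector meeting exactly two components is carried to one with the same property
  have htwo : ∀ u ∈ W, u ≠ 0 → ∀ a b d : (AddMonoid.End V)ˣ, a ∈ zpowers c₀ → b ∈ zpowers c₀ → d ∈ zpowers c₀ →
      Linear.cj a e u ≠ 0 → Linear.cj b e u ≠ 0 → Linear.cj d e u ≠ 0 →
      Linear.cj a e ≠ Linear.cj b e → Linear.cj a e ≠ Linear.cj d e → Linear.cj b e ≠ Linear.cj d e → False := by
    intro u hu hu0 a b d ha hb hd ea eb ed hab had hbd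
    have hw : v + x 1 v ∈ W := by
      simpa [x] using h.add_ap_mem hc v
    have hw0 : v + x 1 v ≠ 0 := by
      intro h0
      have h1 := congrArg (Linear.cj (c ^ 0) e) h0
      rw [map_zero, map_add, hcomp hev 0 1, if_neg (by rw [pow_zero, cj_one, pow_one]; exact Ne.symm hmove),
        add_zero, pow_zero, cj_one, hev] at h1
      exact hv0 h1
    obtain ⟨g, hg, hgu⟩ := h.trans u hu _ hw hu0 hw0
    have hz : ∀ q ∈ zpowers c₀, Linear.cj q e u ≠ 0 →
        Linear.cj (g * q) e = e ∨ Linear.cj (g * q) e = Linear.cj c e := by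
      intro q hq hqu
      by_contra hcon
      push_neg at hcon
      refine hqu (ap_injective g ?_)
      rw [map_zero, ← cj_ap, cj_cj, hgu, map_add]
      have e1 : Linear.cj (g * q) e v = 0 := by
        rcases (hAt _ (mul_mem hg hq)).eq_or_mul_eq_zero h hN he with h0 | h0
        · exact absurd h0 hcon.1
        · rw [← hev]; exact DFunLike.congr_fun h0 v
      have e2 : Linear.cj (g * q) e (x 1 v) = 0 := by
        have hk : Linear.cj c e (x 1 v) = x 1 v := by
          show Linear.cj c e (ap (c ^ 1) v) = _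
          rw [pow_one, cj_ap, hev]
          simp [x]
        rcases (hAt _ (mul_mem hg hq)).eq_or_mul_eq_zero h hN (hAt c hc) with h0 | h0
        · exact absurd h0 hcon.2
        · rw [← hk]; exact DFunLike.congr_fun h0 (x 1 v)
      rw [e1, e2, add_zero]
    have hinj : ∀ p q : (AddMonoid.End V)ˣ, Linear.cj (g * p) e = Linear.cj (g * q) e →
        Linear.cj p e = Linear.cj q e := fun p q hpq => by
      rw [← cj_cj, ← cj_cj] at hpq
      exact cj_injective g hpq
    rcases hz a ha ea with p | p <;> rcases hz b hb eb with q | q <;> rcases hz d hd ed with s | s <;>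
      first
        | exact hab (hinj _ _ (p.trans q.symm))
        | exact had (hinj _ _ (p.trans s.symm))
        | exact hbd (hinj _ _ (q.trans s.symm))
  -- three components
  have hsum : ∀ {w : V}, e w = w → ∀ j : ℕ, x j w + x (j + 1) w ∈ W := by
    intro w hw j
    show ap (c ^ j) w + ap (c ^ (j + 1)) w ∈ W
    rw [pow_succ, ap_mul, ← map_add]
    exact h.C_winv (hP j) _ (h.add_ap_mem hc w)
  have d01 : Linear.cj (c ^ 0) e ≠ Linear.cj (c ^ 1) e := by
    rw [pow_zero, cj_one, pow_one]; exact Ne.symm hmove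
  have d02 : Linear.cj (c ^ 0) e ≠ Linear.cj (c ^ 2) e := by
    rw [pow_zero, cj_one]; exact h2.symm
  have d12 : Linear.cj (c ^ 1) e ≠ Linear.cj (c ^ 2) e := fun h0 =>
    hmove (by have := hmv 1 1 h0.symm; rwa [pow_one] at this)
  rcases eq_or_ne (Linear.cj (c ^ 3) e) e with h3 | h3
  · -- each component has two elements
    have hs : ∀ w : V, e w = w → w = 0 ∨ w = v := by
      intro w hw
      by_contra hcon
      push_neg at hcon
      set u := (x 0 v + x 1 v) + (x 1 w + x 2 w) with hu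
      have huW : u ∈ W := add_mem (hsum hev 0) (hsum hw 1)
      have g0 : Linear.cj (c ^ 0) e u = x 0 v := by
        rw [hu, map_add, map_add, map_add, hcomp hev, hcomp hev, hcomp hw, hcomp hw, if_pos rfl, if_neg d01,
          if_neg d01, if_neg d02, add_zero, add_zero, add_zero]
      have g1 : Linear.cj (c ^ 1) e u = x 1 (v + w) := by
        rw [hu, map_add, map_add, map_add, hcomp hev, hcomp hev, hcomp hw, hcomp hw, if_pos rfl, if_neg d01.symm,
          if_pos rfl, if_neg d12, zero_add, add_zero]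
        simp [x, map_add]
      have g2 : Linear.cj (c ^ 2) e u = x 2 w := by
        rw [hu, map_add, map_add, map_add, hcomp hev, hcomp hev, hcomp hw, hcomp hw, if_neg d02.symm,
          if_neg d12.symm, if_neg d12.symm, if_pos rfl, add_zero, zero_add, zero_add]
      have hvw : v + w ≠ 0 := fun h0 => hcon.2 (h.eq_of_add_eq_zero h0).symm
      have hu0 : u ≠ 0 := fun h0 => hx0 0 hv0 (by rw [← g0, h0, map_zero])
      exact htwo u huW hu0 _ _ _ (hP 0) (hP 1) (hP 2) (g0 ▸ hx0 0 hv0) (g1 ▸ hx0 1 hvw) (g2 ▸ hx0 2 hcon.1)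
        d01 d02 d12
    refine hne (eq_bot_iff.mpr fun y hy => ?_)
    rw [mem_bot]
    let U : AddSubgroup V :=
      { carrier := {u | ∀ y ∈ N, ap y u = u}
        zero_mem' := fun y _ => map_zero _
        add_mem' := fun {a b} ha hb y hy => by rw [map_add, ha y hy, hb y hy]
        neg_mem' := fun {a} ha y hy => by rw [map_neg, ha y hy] }
    have hU : ∀ b ∈ A, ∀ u ∈ U, ap b u ∈ U := by
      intro b hb u hu y hy
      have := hu (b⁻¹ * y * b) (by simpa using hNn b⁻¹ (inv_mem hb) y hy)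
      rw [show y = b * (b⁻¹ * y * b) * b⁻¹ by group, ap_mul, ap_mul, ap_inv_ap, this]
    have hvU : v ∈ U := by
      intro y hy
      rcases hs (ap y v) (by
        have := DFunLike.congr_fun (ring_comm hN he.mem (ap_mem_ring hy)) v
        exact this.trans (congrArg (ap y) hev)) with h0 | h0
      · exact absurd (ap_injective y (by rw [h0, map_zero])) hv0
      · exact h0
    rcases h.irr U hU with e0 | e0
    · exact absurd ((AddSubgroup.mem_bot).mp (e0 ▸ hvU)) hv0
    · exact ext_ap fun u => (show u ∈ U from e0 ▸ AddSubgroup.mem_top u) y hy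
  · -- four components
    have d03 : Linear.cj (c ^ 0) e ≠ Linear.cj (c ^ 3) e := by
      rw [pow_zero, cj_one]; exact h3.symm
    have d13 : Linear.cj (c ^ 1) e ≠ Linear.cj (c ^ 3) e := fun h0 => h2 (hmv 1 2 h0.symm)
    have d23 : Linear.cj (c ^ 2) e ≠ Linear.cj (c ^ 3) e := fun h0 => hmove (by
      have := hmv 2 1 h0.symm; rwa [pow_one] at this)
    set u := (x 0 v + x 1 v) + (x 2 v + x 3 v) with hu
    have huW : u ∈ W := add_mem (hsum hev 0) (hsum hev 2)
    have g0 : Linear.cj (c ^ 0) e u = x 0 v := by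
      rw [hu, map_add, map_add, map_add, hcomp hev, hcomp hev, hcomp hev, hcomp hev, if_pos rfl, if_neg d01,
        if_neg d02, if_neg d03, add_zero, add_zero, add_zero]
    have g1 : Linear.cj (c ^ 1) e u = x 1 v := by
      rw [hu, map_add, map_add, map_add, hcomp hev, hcomp hev, hcomp hev, hcomp hev, if_pos rfl, if_neg d01.symm,
        if_neg d12, if_neg d13, zero_add, add_zero, add_zero]
    have g2 : Linear.cj (c ^ 2) e u = x 2 v := by
      rw [hu, map_add, map_add, map_add, hcomp hev, hcomp hev, hcomp hev, hcomp hev, if_pos rfl, if_neg d02.symm,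
        if_neg d12.symm, if_neg d23, zero_add, add_zero, zero_add]
    have hu0 : u ≠ 0 := fun h0 => hx0 0 hv0 (by rw [← g0, h0, map_zero])
    exact htwo u huW hu0 _ _ _ (hP 0) (hP 1) (hP 2) (g0 ▸ hx0 0 hv0) (g1 ▸ hx0 1 hv0) (g2 ▸ hx0 2 hv0)
      d01 d02 d12

include h hNA hNn hN in
/-- When the fixed space is not larger than the moved one the ring has one component. -/
theorem Atom.eq_one {e : AddMonoid.End V} (he : Atom N e) (hne : N ≠ ⊥) (hle : Nat.card K ≤ Nat.card W) :
    e = 1 := by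
  have hfix : ∀ {f}, Atom N f → ∀ {c}, c ∈ zpowers c₀ → ∀ u : V, f (ap c u) = ap c (f u) := by
    intro f hf c hc u
    conv_lhs => rw [← hf.fixed h hNA hNn hN hne hc, cj_ap]
  have hWf : ∀ {f}, Atom N f → (∀ w ∈ W, f w = 0) ∨ ∀ w ∈ W, f w = w := by
    intro f hf
    have hfW : ∀ w ∈ W, f w ∈ W := by
      intro w hw
      -- `w` is a sum `u + c u`
      have hc1 := h.c₀_ne_one
      have hsurj : Function.Surjective (fun u : W => (⟨(u : V) + ap c₀ u, add_mem u.2 (h.winv u u.2)⟩ : W)) := by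
        refine Finite.injective_iff_surjective.mp fun a b hab => Subtype.ext ?_
        have hab' : (a : V) + ap c₀ a = b + ap c₀ b := congrArg Subtype.val hab
        refine h.eq_of_add_eq_zero (h.free c₀ (mem_zpowers _) hc1 _ (add_mem a.2 b.2) ?_)
        refine (h.eq_of_add_eq_zero ?_).symm
        rw [map_add, show (a : V) + b + (ap c₀ a + ap c₀ b) = (a + ap c₀ a) + (b + ap c₀ b) by abel, hab', h.two]
      obtain ⟨u, hu⟩ := hsurj ⟨w, hw⟩
      have hu' : (u : V) + ap c₀ u = w := congrArg Subtype.val hu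
      rw [← hu', map_add, hfix hf (mem_zpowers c₀)]
      exact h.add_ap_mem (mem_zpowers c₀) _
    by_cases h0 : ∀ w ∈ W, f w = 0
    · exact Or.inl h0
    push_neg at h0
    obtain ⟨w, hw, hfw⟩ := h0
    refine Or.inr fun u hu => ?_
    rcases eq_or_ne u 0 with rfl | hu0
    · exact map_zero _
    obtain ⟨c, hc, rfl⟩ := h.trans _ (hfW w hw) u hu hfw hu0
    rw [hfix hf hc]
    exact congrArg (ap c) (DFunLike.congr_fun hf.idem w)
  -- the component containing `W`
  obtain ⟨w0, hw0, hw00⟩ := h.exists_W_ne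
  obtain ⟨a, ha, hfa⟩ := he.exists_ne_zero h hNn hN hw00
  set f₀ := Linear.cj a e with hf₀
  have hf₀A : Atom N f₀ := he.cj hNn ha
  have hf₀W : ∀ w ∈ W, f₀ w = w := (hWf hf₀A).resolve_left fun h0 => hfa (h0 w0 hw0)
  have hcard : ∀ b ∈ A, Nat.card (AddMonoidHom.range (Linear.cj b e)) = Nat.card (AddMonoidHom.range e) := by
    intro b _
    symm
    refine Nat.card_congr (Equiv.ofBijective
      (fun u : AddMonoidHom.range e => (⟨ap b u, by
        obtain ⟨u', hu'⟩ := u.2
        exact ⟨ap b u', (cj_ap b e u').trans (congrArg (ap b) hu')⟩⟩ : AddMonoidHom.range (Linear.cj b e)))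
      ⟨fun p q hpq => Subtype.ext (ap_injective b (congrArg Subtype.val hpq)), fun q => ?_⟩)
    obtain ⟨u', hu'⟩ := q.2
    refine ⟨⟨e (ap b⁻¹ u'), ⟨_, rfl⟩⟩, Subtype.ext ?_⟩
    show ap b (e (ap b⁻¹ u')) = q
    rw [← cj_ap, ap_ap_inv]
    exact hu'
  by_contra hne1
  -- another component
  have hother : ∃ b ∈ A, Linear.cj b e ≠ f₀ := by
    by_contra hall
    push_neg at hall
    refine hne1 ?_
    have he' : e = f₀ := by have := hall 1 (one_mem A); rwa [cj_one] at this
    refine AddMonoidHom.ext fun u => h.eq_of_add_eq_zero (x := e u) (y := u) ?_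
    by_contra hu
    obtain ⟨b, hb, hbu⟩ := he.exists_ne_zero h hNn hN hu
    rw [hall b hb, ← he', map_add, show e (e u) = e u from DFunLike.congr_fun he.idem u, h.two] at hbu
    exact hbu rfl
  obtain ⟨b, hb, hbne⟩ := hother
  set g := Linear.cj b e with hg
  -- an element of odd order interchanges no two components
  obtain ⟨d, hd, hdne, hdne'⟩ : ∃ d ∈ A, Linear.cj d e ≠ f₀ ∧ Linear.cj d e ≠ g := by
    by_contra hall
    push_neg at hall
    set s := b * a⁻¹ with hs
    have hsA : s ∈ A := mul_mem hb (inv_mem ha)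
    have hs1 : Linear.cj s f₀ = g := by rw [hf₀, cj_cj, hs, inv_mul_cancel_right]
    have hs2 : Linear.cj s g = f₀ := by
      by_contra h0
      rw [hg, cj_cj] at h0
      have h2 := hall (s * b) (mul_mem hsA hb) h0
      rw [← cj_cj, ← hg] at h2
      exact hbne (cj_injective s (h2.trans hs1.symm))
    obtain ⟨n, hn⟩ := h.odd.of_dvd_nat (Subgroup.orderOf_dvd_natCard A hsA)
    have hev : ∀ i : ℕ, Linear.cj (s ^ (2 * i)) f₀ = f₀ := by
      intro i
      induction i with
      | zero => rw [mul_zero, pow_zero, cj_one]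
      | succ i ih =>
        rw [mul_add, mul_one, pow_add, ← cj_cj, pow_two, ← cj_cj, hs1, hs2, ih]
    have := hev (n + 1)
    rw [show 2 * (n + 1) = orderOf s + 1 by omega, pow_succ, pow_orderOf_eq_one, one_mul, hs1] at this
    exact hbne this
  set k := Linear.cj d e with hk
  have hgA : Atom N g := he.cj hNn hb
  have hkA : Atom N k := he.cj hNn hd
  -- two components in the fixed space
  have hinK : ∀ {f}, Atom N f → f ≠ f₀ → ∀ u, f u ∈ K := by
    intro f hf hfne u
    refine (h.mem_K_iff (mem_zpowers c₀) h.c₀_ne_one).mpr ?_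
    rw [← hfix hf (mem_zpowers c₀)]
    refine (h.eq_of_add_eq_zero ?_).symm
    rw [← map_add]
    have hm := hf₀W _ (h.add_ap_mem (mem_zpowers c₀) u)
    rw [← hm]
    exact DFunLike.congr_fun ((hf.eq_or_mul_eq_zero h hN hf₀A).resolve_left hfne) _
  have h1 : Nat.card (AddMonoidHom.range e) * Nat.card (AddMonoidHom.range e) ≤ Nat.card K := by
    conv_lhs => rw [← hcard b hb, ← hg]
    rw [show Nat.card (AddMonoidHom.range g) = Nat.card (AddMonoidHom.range k) by rw [hg, hk, hcard b hb, hcard d hd]]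
    nth_rw 1 [show Nat.card (AddMonoidHom.range k) = Nat.card (AddMonoidHom.range g) by rw [hg, hk, hcard b hb, hcard d hd]]
    rw [← Nat.card_prod]
    refine Nat.card_le_card_of_injective
      (fun p => (⟨(p.1 : V) + p.2, add_mem (by obtain ⟨u, hu⟩ := p.1.2; rw [← hu]; exact hinK hgA hbne u)
        (by obtain ⟨u, hu⟩ := p.2.2; rw [← hu]; exact hinK hkA hdne u)⟩ : K)) ?_
    rintro ⟨⟨_, p1, rfl⟩, ⟨_, p2, rfl⟩⟩ ⟨⟨_, q1, rfl⟩, ⟨_, q2, rfl⟩⟩ hpq
    have hpq' : g p1 + k p2 = g q1 + k q2 := congrArg Subtype.val hpq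
    have hgk : g * k = 0 := (hgA.eq_or_mul_eq_zero h hN hkA).resolve_left (Ne.symm hdne')
    have hg1 := congrArg g hpq'
    rw [map_add, map_add, show g (g p1) = g p1 from DFunLike.congr_fun hgA.idem p1,
      show g (g q1) = g q1 from DFunLike.congr_fun hgA.idem q1,
      show g (k p2) = 0 from DFunLike.congr_fun hgk p2, show g (k q2) = 0 from DFunLike.congr_fun hgk q2,
      add_zero, add_zero] at hg1
    rw [hg1] at hpq'
    exact Prod.ext (Subtype.ext hg1) (Subtype.ext (add_left_cancel hpq'))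
  have h2 : Nat.card W ≤ Nat.card (AddMonoidHom.range e) := by
    rw [← hcard a ha, ← hf₀]
    exact Nat.card_le_card_of_injective (fun w : W => (⟨w, ⟨w, hf₀W w w.2⟩⟩ : AddMonoidHom.range f₀))
      fun p q hpq => Subtype.ext (congrArg Subtype.val hpq :)
  have h4 := h.wfour
  have h5 : Nat.card (AddMonoidHom.range e) * Nat.card (AddMonoidHom.range e) ≤ Nat.card (AddMonoidHom.range e) :=
    (h1.trans hle).trans h2
  nlinarith

include h hNA hNn hN in
/-- The ring of an abelian normal subgroup is a field. -/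
theorem exists_inv (hne : N ≠ ⊥) (hle : Nat.card K ≤ Nat.card W) {r : AddMonoid.End V} (hr : r ∈ ring N)
    (hr0 : r ≠ 0) : ∃ s ∈ ring N, s * r = 1 := by
  obtain ⟨e, he⟩ := exists_atom h hNA hN
  obtain rfl := he.eq_one h hNA hNn hN hne hle
  rcases he.min r hr with h0 | ⟨s, hs, h1⟩
  · exact absurd (by simpa using h0) hr0
  · exact ⟨s, hs, by simpa using h1⟩

end Split

end Cfsg.Lib.WalterBig.Linear
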