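import Cfsg.Agent.Lib.WalterBig.Components
import Cfsg.Agent.Lib.WalterBig.Setting
import Cfsg.Agent.Lib.Sig.CoreSeparated

/-!
# The pairs cut out of a Sylow subgroup by components

A component `Y` of `C(a)/O` splits the abelian Sylow subgroup as `W × K` with `W` the part in `Y` and
`K` the part centralizing it; a perfect subgroup of `C(K)` contains an element normalizing the Sylow
subgroup and transitive on the nontrivial elements of `W`.
-/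

set_option autoImplicit false
set_option linter.unusedSectionVars false
set_option linter.unusedVariables false
set_option linter.style.haveILetI false

namespace Cfsg.Lib.WalterBig

open Subgroup Cfsg.Lib
open Cfsg.Lib.Sig.CoreSep
open scoped commutatorElement

universe u

/-- A subgroup mapping onto a perfect subgroup contains a perfect subgroup doing so, normal in it. -/
theorem exists_perfect_lift {H X : Type*} [Group H] [Finite H] [Group X] (f : H →* X) (A : Subgroup H)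
    {Y : Subgroup X} (hY : ⁅Y, Y⁆ = Y) (hYA : Y ≤ A.map f) :
    ∃ P ≤ A, ⁅P, P⁆ = P ∧ Y ≤ P.map f ∧ A ≤ normalizer (P : Set H) := by
  obtain ⟨P, ⟨hPA, hPY, hPn⟩, hmin⟩ :=
    (Set.toFinite {P : Subgroup H | P ≤ A ∧ Y ≤ P.map f ∧ A ≤ normalizer (P : Set H)}).exists_minimal
      ⟨A, le_rfl, hYA, le_normalizer⟩
  refine ⟨P, hPA, ?_, hPY, hPn⟩
  have hle : ⁅P, P⁆ ≤ P := commutator_le.2 fun a ha b hb => by
    rw [commutatorElement_def]; exact mul_mem (mul_mem (mul_mem ha hb) (inv_mem ha)) (inv_mem hb)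
  refine le_antisymm hle (hmin ⟨hle.trans hPA, ?_, fun g hg => ?_⟩ hle)
  · rw [map_commutator, ← hY]; exact commutator_mono hPY hPY
  · refine mem_normalizer_iff_map_conj_eq.2 ?_
    rw [map_commutator, mem_normalizer_iff_map_conj_eq.1 (hPn hg)]

variable {G : Type u} [Group G] [Finite G]

/-- The part of `S` with image in `Y`. -/
def wPart (S : Subgroup G) (a : G) (Y : Subgroup (↥(C a) ⧸ Cfsg.pPrimeCore 2 ↥(C a))) : Subgroup G :=
  S ⊓ (Y.comap (quo a)).map (C a).subtype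

/-- The part of `S` with image centralizing `Y`. -/
def kPart (S : Subgroup G) (a : G) (Y : Subgroup (↥(C a) ⧸ Cfsg.pPrimeCore 2 ↥(C a))) : Subgroup G :=
  wPart S a (centralizer (Y : Set (↥(C a) ⧸ Cfsg.pPrimeCore 2 ↥(C a))))

theorem mem_wPart {S : Subgroup G} {a v : G} {Y : Subgroup (↥(C a) ⧸ Cfsg.pPrimeCore 2 ↥(C a))}
    (hv : v ∈ C a) : v ∈ wPart S a Y ↔ v ∈ S ∧ quo a ⟨v, hv⟩ ∈ Y := by
  constructor
  · rintro ⟨hS, u, hu, rfl⟩
    exact ⟨hS, hu⟩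
  · exact fun h => ⟨h.1, ⟨v, hv⟩, h.2, rfl⟩

variable (S : Sylow 2 G) (hS : IsMulCommutative ↥(S : Subgroup G))

include hS in
theorem sylow_le_C {a : G} (ha : a ∈ (S : Subgroup G)) : (S : Subgroup G) ≤ C a := fun _ hs =>
  mem_centralizer_singleton_iff.2 (AbTwo.comm_of_mem hS hs ha)

include hS in
/-- The Sylow subgroup of `C(a)/O`. -/
theorem exists_sylow_quo {a : G} (ha : a ∈ (S : Subgroup G)) :
    ∃ T : Sylow 2 (↥(C a) ⧸ Cfsg.pPrimeCore 2 ↥(C a)),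
      (T : Subgroup (↥(C a) ⧸ Cfsg.pPrimeCore 2 ↥(C a))) = img a (S : Subgroup G) ∧ IsMulCommutative ↥(T : Subgroup (↥(C a) ⧸ Cfsg.pPrimeCore 2 ↥(C a))) := by
  haveI := fact_two
  refine ⟨(S.subtype (sylow_le_C S hS ha)).mapSurjective (QuotientGroup.mk'_surjective _), rfl, ⟨⟨?_⟩⟩⟩
  rintro ⟨_, u, hu, rfl⟩ ⟨_, v, hv, rfl⟩
  refine Subtype.ext ?_
  show quo a u * quo a v = quo a v * quo a u
  rw [← map_mul, ← map_mul]
  exact congrArg _ (Subtype.ext (AbTwo.comm_of_mem hS (mem_subgroupOf.1 hu) (mem_subgroupOf.1 hv)))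

theorem eq_one_of_quo {a v : G} (hv : v ∈ (S : Subgroup G)) (hva : v ∈ C a) (h : quo a ⟨v, hva⟩ = 1) : v = 1 := by
  haveI := fact_two
  rw [← MonoidHom.mem_ker, QuotientGroup.ker_mk'] at h
  have hd := (Cfsg.pPrimeCore 2 ↥(C a)).orderOf_dvd_natCard h
  rw [Subgroup.orderOf_mk] at hd
  obtain ⟨k, hk⟩ := S.isPGroup' ⟨v, hv⟩
  have hk' : orderOf v ∣ 2 ^ k := orderOf_dvd_of_pow_eq_one (congrArg Subtype.val hk)
  exact orderOf_eq_one_iff.1 (Nat.eq_one_of_dvd_coprimes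
    ((Core.pPrimeCore_coprime 2 ↥(C a)).pow_right k) hd hk')

include hS in
theorem quo_inj {a v w : G} (ha : a ∈ (S : Subgroup G)) (hv : v ∈ (S : Subgroup G)) (hw : w ∈ (S : Subgroup G))
    (h : quo a ⟨v, sylow_le_C S hS ha hv⟩ = quo a ⟨w, sylow_le_C S hS ha hw⟩) : v = w := by
  refine inv_mul_eq_one.1 (eq_one_of_quo S (mul_mem (inv_mem hv) hw)
    (mul_mem (inv_mem (sylow_le_C S hS ha hv)) (sylow_le_C S hS ha hw)) ?_)
  show quo a ((⟨v, sylow_le_C S hS ha hv⟩ : ↥(C a))⁻¹ * ⟨w, sylow_le_C S hS ha hw⟩) = 1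
  rw [map_mul, map_inv, h, inv_mul_cancel]

include hS in
theorem mem_kPart_self {a : G} (ha : a ∈ (S : Subgroup G))
    (Y : Subgroup (↥(C a) ⧸ Cfsg.pPrimeCore 2 ↥(C a))) : a ∈ kPart (S : Subgroup G) a Y := by
  refine (mem_wPart (mem_centralizer_singleton_iff.2 rfl)).2 ⟨ha, mem_centralizer_iff.2 fun y _ => ?_⟩
  obtain ⟨u, rfl⟩ := QuotientGroup.mk'_surjective (Cfsg.pPrimeCore 2 ↥(C a)) y
  rw [← map_mul, ← map_mul]
  exact congrArg _ (Subtype.ext (mem_centralizer_singleton_iff.1 u.2))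

include hS in
theorem img_wPart {a : G} (ha : a ∈ (S : Subgroup G)) (Y : Subgroup (↥(C a) ⧸ Cfsg.pPrimeCore 2 ↥(C a))) :
    img a (wPart (S : Subgroup G) a Y) = img a (S : Subgroup G) ⊓ Y := by
  ext q
  constructor
  · rintro ⟨u, hu, rfl⟩
    obtain ⟨h1, h2⟩ := (mem_wPart u.2).1 (mem_subgroupOf.1 hu)
    exact ⟨⟨u, mem_subgroupOf.2 h1, rfl⟩, h2⟩
  · rintro ⟨⟨u, hu, rfl⟩, hq⟩
    exact ⟨u, mem_subgroupOf.2 ((mem_wPart u.2).2 ⟨mem_subgroupOf.1 hu, hq⟩), rfl⟩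

theorem img_kPart_le (a : G) (Y : Subgroup (↥(C a) ⧸ Cfsg.pPrimeCore 2 ↥(C a))) :
    img a (kPart (S : Subgroup G) a Y) ≤ centralizer (SetLike.coe Y) := by
  rintro _ ⟨u, hu, rfl⟩
  exact ((mem_wPart u.2).1 (mem_subgroupOf.1 hu)).2

include hS in
theorem wPart_sup_kPart {a : G} (ha : a ∈ (S : Subgroup G)) {Y : Subgroup (↥(C a) ⧸ Cfsg.pPrimeCore 2 ↥(C a))}
    (hY : Cfsg.IsComponent Y) :
    wPart (S : Subgroup G) a Y ⊔ kPart (S : Subgroup G) a Y = (S : Subgroup G) := by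
  haveI := fact_two
  refine le_antisymm (sup_le inf_le_left inf_le_left) fun v hv => ?_
  obtain ⟨T, hT, hTc⟩ := exists_sylow_quo S hS ha
  obtain ⟨_, ⟨hw, hwY⟩, hvw⟩ := exists_split (Core.pPrimeCore_quotient_eq_bot) T hTc hY
    (s := quo a ⟨v, sylow_le_C S hS ha hv⟩) (hT ▸ mem_map_of_mem _ (mem_subgroupOf.2 hv))
  rw [hT] at hw
  obtain ⟨w, hwS, rfl⟩ := hw
  have hwS' := mem_subgroupOf.1 hwS
  rw [show v = w * ((w : G)⁻¹ * v) by group]
  refine mul_mem_sup ((mem_wPart w.2).2 ⟨hwS', hwY⟩) ((mem_wPart (mul_mem (inv_mem w.2)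
    (sylow_le_C S hS ha hv))).2 ⟨mul_mem (inv_mem hwS') hv, ?_⟩)
  rw [← map_inv, ← map_mul] at hvw
  convert hvw using 2
  exact Subtype.ext (AbTwo.comm_of_mem hS (inv_mem hwS') hv)

include hS in
theorem wPart_inf_kPart {a : G} (ha : a ∈ (S : Subgroup G)) {Y : Subgroup (↥(C a) ⧸ Cfsg.pPrimeCore 2 ↥(C a))}
    (hY : Cfsg.IsComponent Y) : wPart (S : Subgroup G) a Y ⊓ kPart (S : Subgroup G) a Y = ⊥ := by
  haveI := fact_two
  obtain ⟨T, hT, hTc⟩ := exists_sylow_quo S hS ha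
  rw [eq_bot_iff]
  rintro v ⟨hw, hk⟩
  have hva := sylow_le_C S hS ha hw.1
  have h : quo a ⟨v, hva⟩ ∈ Y ⊓ centralizer (SetLike.coe Y) :=
    ⟨((mem_wPart hva).1 hw).2, ((mem_wPart hva).1 hk).2⟩
  rw [inf_centralizer_component Core.pPrimeCore_quotient_eq_bot T hTc hY, mem_bot] at h
  exact mem_bot.2 (eq_one_of_quo S hw.1 hva h)

variable [IsSimpleGroup G] (hna : ¬ IsMulCommutative G)

include hna in
theorem card_C_lt {a : G} (ha1 : a ≠ 1) : Nat.card ↥(C a) < Nat.card G := by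
  rcases (Subgroup.card_le_card_group (C a)).lt_or_eq with h | h
  · exact h
  exfalso
  have hz : a ∈ center G := mem_center_iff.2 fun g =>
    mem_centralizer_singleton_iff.1 ((eq_top_of_card_eq _ h).ge (mem_top g))
  rcases IsSimpleGroup.eq_bot_or_eq_top_of_normal (center G) inferInstance with hb | hb
  · exact ha1 (mem_bot.1 (hb ▸ hz))
  · exact hna ⟨⟨fun x y => (mem_center_iff.1 (hb ▸ mem_top x) y).symm⟩⟩

include hS hna in
/-- What induction gives for a component. -/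
theorem component_facts (ih : Below.{u} (Nat.card G)) {a : G} (ha : a ∈ (S : Subgroup G)) (ha1 : a ≠ 1)
    {Y : Subgroup (↥(C a) ⧸ Cfsg.pPrimeCore 2 ↥(C a))} (hY : Cfsg.IsComponent Y) :
    (∀ v ∈ wPart (S : Subgroup G) a Y, v * v = 1) ∧ 4 ≤ Nat.card (wPart (S : Subgroup G) a Y) ∧
      ∃ y : ↥(C a) ⧸ Cfsg.pPrimeCore 2 ↥(C a), y ∈ Y ∧
        (∀ q ∈ img a (S : Subgroup G) ⊓ Y, y * q * y⁻¹ ∈ img a (S : Subgroup G) ⊓ Y) ∧
        ∀ v ∈ img a (S : Subgroup G) ⊓ Y, v ≠ 1 → ∀ w ∈ img a (S : Subgroup G) ⊓ Y, w ≠ 1 →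
          ∃ i : ℕ, y ^ i * v * (y ^ i)⁻¹ = w := by
  haveI := fact_two
  obtain ⟨T, hT, hTc⟩ := exists_sylow_quo S hS ha
  haveI := component_simple Core.pPrimeCore_quotient_eq_bot T hTc hY
  obtain ⟨TY, hTY⟩ := component_sylow T hTc hY
  have hmem : ∀ v : Y, v ∈ (TY : Subgroup Y) ↔ (v : ↥(C a) ⧸ Cfsg.pPrimeCore 2 ↥(C a)) ∈ img a (S : Subgroup G) :=
    fun v => by rw [hTY, mem_subgroupOf, hT]
  have hTYc : IsMulCommutative ↥(TY : Subgroup Y) := ⟨⟨fun u v => Subtype.ext (Subtype.ext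
    (AbTwo.comm_of_mem hTc (hT ▸ (hmem _).1 u.2) (hT ▸ (hmem _).1 v.2)))⟩⟩
  have hlt : Nat.card Y < Nat.card G :=
    lt_of_le_of_lt ((Subgroup.card_le_card_group Y).trans
      (Nat.card_le_card_of_surjective _ (QuotientGroup.mk'_surjective _))) (card_C_lt hna ha1)
  obtain ⟨hel, h4, ⟨y, hy, hyt⟩, -⟩ :=
    section_facts ih hlt (component_not_comm Core.pPrimeCore_quotient_eq_bot T hTc hY) TY hTYc
  refine ⟨fun v hv => ?_, ?_, y, y.2, fun q hq => ⟨?_, Y.mul_mem (Y.mul_mem y.2 hq.2) (Y.inv_mem y.2)⟩,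
    fun v hv hv1 w hw hw1 => ?_⟩
  · obtain ⟨hvS, hvY⟩ := (mem_wPart (sylow_le_C S hS ha hv.1)).1 hv
    have h := congrArg Subtype.val (hel ⟨_, hvY⟩ ((hmem _).2 (mem_map_of_mem _ (mem_subgroupOf.2 hvS))))
    refine eq_one_of_quo S (mul_mem hvS hvS) (mul_mem (sylow_le_C S hS ha hvS) (sylow_le_C S hS ha hvS)) ?_
    exact (map_mul (quo a) ⟨v, sylow_le_C S hS ha hvS⟩ ⟨v, sylow_le_C S hS ha hvS⟩).trans h
  · refine h4.trans_eq (Nat.card_congr (Equiv.ofBijective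
      (fun v : wPart (S : Subgroup G) a Y => (⟨⟨quo a ⟨v, sylow_le_C S hS ha v.2.1⟩,
        ((mem_wPart (sylow_le_C S hS ha v.2.1)).1 v.2).2⟩,
        (hmem _).2 (mem_map_of_mem _ (mem_subgroupOf.2 v.2.1))⟩ : (TY : Subgroup Y))) ⟨?_, ?_⟩)).symm
    · intro v w e
      exact Subtype.ext (quo_inj S hS ha v.2.1 w.2.1 (congrArg (fun z : (TY : Subgroup Y) => z.1.1) e))
    · rintro ⟨⟨_, hq⟩, hqT⟩
      obtain ⟨u, hu, e⟩ := (hmem _).1 hqT
      subst e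
      exact ⟨⟨u, (mem_wPart u.2).2 ⟨mem_subgroupOf.1 hu, hq⟩⟩, rfl⟩
  · exact (hmem _).1 ((mem_normalizer_iff.1 hy ⟨q, hq.2⟩).1 ((hmem _).2 hq.1))
  · obtain ⟨i, hi⟩ := hyt ⟨v, hv.2⟩ ((hmem _).2 hv.1) (fun e => hv1 (congrArg Subtype.val e))
      ⟨w, hw.2⟩ ((hmem _).2 hw.1) (fun e => hw1 (congrArg Subtype.val e))
    exact ⟨i, by simpa using congrArg Subtype.val hi⟩

/-- A splitting of the Sylow subgroup with an element of a perfect subgroup of `C(K)` transitive on `W`. -/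
structure IsPair (W K : Subgroup G) : Prop where
  W_le : W ≤ (S : Subgroup G)
  K_le : K ≤ (S : Subgroup G)
  split : W ⊔ K = (S : Subgroup G)
  disj : W ⊓ K = ⊥
  four : 4 ≤ Nat.card W
  ne : K ≠ ⊥
  act : ∃ P : Subgroup G, ⁅P, P⁆ = P ∧ P ≤ centralizer (K : Set G) ∧
    ∃ x ∈ P, x ∈ normalizer ((S : Subgroup G) : Set G) ∧ (∀ w ∈ W, x * w * x⁻¹ ∈ W) ∧
      ∀ v ∈ W, v ≠ 1 → ∀ w ∈ W, w ≠ 1 → ∃ i : ℕ, x ^ i * v * (x ^ i)⁻¹ = w

include hS hna in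
/-- Each component gives a pair. -/
theorem isPair_of_component (ih : Below.{u} (Nat.card G)) {a : G} (ha : a ∈ (S : Subgroup G)) (ha1 : a ≠ 1)
    {Y : Subgroup (↥(C a) ⧸ Cfsg.pPrimeCore 2 ↥(C a))} (hY : Cfsg.IsComponent Y) :
    IsPair S (wPart (S : Subgroup G) a Y) (kPart (S : Subgroup G) a Y) := by
  haveI := fact_two
  obtain ⟨hel, h4, y, hyY, hyT, hyt⟩ := component_facts S hS hna ih ha ha1 hY
  set W := wPart (S : Subgroup G) a Y with hW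
  set K := kPart (S : Subgroup G) a Y with hK
  have hSC := sylow_le_C S hS ha
  refine ⟨inf_le_left, inf_le_left, wPart_sup_kPart S hS ha hY, wPart_inf_kPart S hS ha hY, h4,
    fun e => ha1 (mem_bot.1 (e ▸ mem_kPart_self S hS ha Y)), ?_⟩
  set A := centralizer ((K.subgroupOf (C a) : Subgroup ↥(C a)) : Set ↥(C a)) with hA
  have hYA : Y ≤ A.map (quo a) := by
    rw [hA, ← Sig.centralizer_map_mk' (p := 2) (P := K.subgroupOf (C a)) (Cfsg.pPrimeCore 2 ↥(C a)) (Core.pPrimeCore_coprime 2 ↥(C a))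
      ((S.2.to_le (inf_le_left : K ≤ (S : Subgroup G))).comap_of_injective _ (C a).subtype_injective)]
    exact fun z hz => mem_centralizer_iff.2 fun k hk =>
      (mem_centralizer_iff.1 (img_kPart_le S a Y hk) z hz).symm
  obtain ⟨P, hPA, hPP, hPY, hAP⟩ := exists_perfect_lift (quo a) A (Core.IsComponent.commutator_eq hY) hYA
  obtain ⟨p, hp, hpy⟩ := hPY hyY
  set SC := S.subtype hSC with hSCdef
  set Sb := img a (S : Subgroup G) with hSb
  have hSA : (SC : Subgroup ↥(C a)) ≤ A := fun u hu => mem_centralizer_iff.2 fun k hk =>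
    Subtype.ext (AbTwo.comm_of_mem hS (mem_subgroupOf.1 hk).1 (mem_subgroupOf.1 hu))
  have hSP : (SC : Subgroup ↥(C a)) ≤ normalizer (P : Set ↥(C a)) := hSA.trans hAP
  -- the lifted element normalizes the preimage of the Sylow subgroup
  have hyK : ∀ u : ↥(C a), (u : G) ∈ K → y * quo a u * y⁻¹ = quo a u := fun u hu => by
    rw [mem_centralizer_iff.1 ((mem_wPart u.2).1 hu).2 y hyY, mul_inv_cancel_right]
  have hyS : ∀ q ∈ Sb, y * q * y⁻¹ ∈ Sb := by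
    rintro _ ⟨u, hu, rfl⟩
    have huS : (u : G) ∈ W ⊔ K := by rw [wPart_sup_kPart S hS ha hY]; exact mem_subgroupOf.1 hu
    obtain ⟨w, hw, k, hk, e⟩ := (Core.mem_sup_of_commute (Core.commutator_eq_bot_iff_forall.2
      fun w (hw : w ∈ W) k (hk : k ∈ K) => AbTwo.comm_of_mem hS hw.1 hk.1)).1 huS
    have hu' : u = ⟨w, hSC hw.1⟩ * ⟨k, hSC hk.1⟩ := Subtype.ext e.symm
    rw [hu', map_mul, show y * (quo a ⟨w, hSC hw.1⟩ * quo a ⟨k, hSC hk.1⟩) * y⁻¹ =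
      (y * quo a ⟨w, hSC hw.1⟩ * y⁻¹) * (y * quo a ⟨k, hSC hk.1⟩ * y⁻¹) by group, hyK ⟨k, hSC hk.1⟩ hk]
    exact mul_mem (hyT _ ⟨mem_map_of_mem _ (mem_subgroupOf.2 hw.1), ((mem_wPart (hSC hw.1)).1 hw).2⟩).1
      (mem_map_of_mem _ (mem_subgroupOf.2 hk.1))
  set M := Sb.comap (quo a) ⊓ (P ⊔ (SC : Subgroup ↥(C a))) with hM
  have hSM : (SC : Subgroup ↥(C a)) ≤ M := le_inf (fun u hu => mem_map_of_mem _ hu) le_sup_right
  let SM := SC.subtype hSM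
  have hconj : ∀ u ∈ (SC : Subgroup ↥(C a)), p * u * p⁻¹ ∈ M := fun u hu =>
    ⟨by
      show quo a (p * u * p⁻¹) ∈ Sb
      rw [map_mul, map_mul, map_inv, hpy]
      exact hyS _ (mem_map_of_mem _ hu),
      Subgroup.mul_mem _ (Subgroup.mul_mem _ (mem_sup_left hp) (mem_sup_right hu))
        (Subgroup.inv_mem _ (mem_sup_left hp))⟩
  have hQ : IsPGroup 2 (((SC : Subgroup ↥(C a)).map (MulAut.conj p).toMonoidHom).subgroupOf M) :=
    (SC.2.map _).comap_of_injective M.subtype M.subtype_injective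
  obtain ⟨Q, hQle⟩ := hQ.exists_le_sylow
  obtain ⟨m, hm⟩ := MulAction.exists_smul_eq M Q SM
  have hmp : ∀ u ∈ (SC : Subgroup ↥(C a)), (m : ↥(C a)) * p * u * ((m : ↥(C a)) * p)⁻¹ ∈ (SC : Subgroup ↥(C a)) := by
    intro u hu
    have : m * ⟨p * u * p⁻¹, hconj u hu⟩ * m⁻¹ ∈ (SM : Subgroup M) := by
      rw [← hm, Sylow.coe_subgroup_smul]
      exact ⟨_, hQle (mem_subgroupOf.2 ⟨u, hu, rfl⟩), rfl⟩
    have h2 := mem_subgroupOf.1 this
    convert h2 using 1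
    simp [mul_assoc]
  obtain ⟨s, hs, q, hq, hqs⟩ := (Core.mem_sup_of_le_normalizer hSP).1
    (sup_comm P (SC : Subgroup ↥(C a)) ▸ Subgroup.mul_mem _ m.2.2 (mem_sup_left hp) :
      (m : ↥(C a)) * p ∈ (SC : Subgroup ↥(C a)) ⊔ P)
  -- conjugation by `q` is conjugation by `y`
  have hact : ∀ u ∈ (SC : Subgroup ↥(C a)), q * u * q⁻¹ ∈ (SC : Subgroup ↥(C a)) ∧
      quo a (q * u * q⁻¹) = y * quo a u * y⁻¹ := by
    intro u hu
    have e : q * u * q⁻¹ = (m : ↥(C a)) * p * u * ((m : ↥(C a)) * p)⁻¹ := by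
      have hv := hmp u hu
      have hsv : s⁻¹ * ((m : ↥(C a)) * p * u * ((m : ↥(C a)) * p)⁻¹) * s =
          (m : ↥(C a)) * p * u * ((m : ↥(C a)) * p)⁻¹ := Subtype.ext (by
        show (s : G)⁻¹ * _ * (s : G) = _
        rw [AbTwo.comm_of_mem hS (inv_mem (mem_subgroupOf.1 hs)) (mem_subgroupOf.1 hv), inv_mul_cancel_right])
      rw [← hsv, ← hqs]
      group
    refine ⟨e ▸ hmp u hu, ?_⟩
    obtain ⟨m', hm', em⟩ := m.2.1
    obtain ⟨z, hz, ez⟩ := hyS _ (mem_map_of_mem (quo a) hu)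
    rw [e, map_mul, map_mul, map_inv, map_mul, hpy, ← em,
      show quo a m' * y * quo a u * (quo a m' * y)⁻¹ = quo a m' * (y * quo a u * y⁻¹) * (quo a m')⁻¹ by group,
      ← ez, ← map_mul, ← map_inv, ← map_mul]
    refine congrArg _ (Subtype.ext ?_)
    show (m' : G) * z * (m' : G)⁻¹ = z
    rw [AbTwo.comm_of_mem hS (mem_subgroupOf.1 hm') (mem_subgroupOf.1 hz), mul_inv_cancel_right]
  have hpow : ∀ (i : ℕ), ∀ u ∈ (SC : Subgroup ↥(C a)), q ^ i * u * (q ^ i)⁻¹ ∈ (SC : Subgroup ↥(C a)) ∧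
      quo a (q ^ i * u * (q ^ i)⁻¹) = y ^ i * quo a u * (y ^ i)⁻¹ := by
    intro i
    induction i with
    | zero => intro u hu; simp [hu]
    | succ i ih' =>
      intro u hu
      obtain ⟨h1, h2⟩ := ih' u hu
      obtain ⟨h3, h4⟩ := hact _ h1
      rw [show q ^ (i + 1) * u * (q ^ (i + 1))⁻¹ = q * (q ^ i * u * (q ^ i)⁻¹) * q⁻¹ by rw [pow_succ']; group]
      refine ⟨h3, ?_⟩
      rw [h4, h2, pow_succ']
      group
  have hqK : ∀ k : ↥(C a), (k : G) ∈ K → q * k = k * q := fun k hk =>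
    (mem_centralizer_iff.1 (hPA hq) k (mem_subgroupOf.2 hk)).symm
  refine ⟨P.map (C a).subtype, ?_, ?_, q, ⟨q, hq, rfl⟩, ?_, fun w hw => ?_, fun v hv hv1 w hw hw1 => ?_⟩
  · rw [← map_commutator, hPP]
  · rintro _ ⟨u, hu, rfl⟩
    exact mem_centralizer_iff.2 fun k hk => congrArg Subtype.val
      (mem_centralizer_iff.1 (hPA hu) ⟨k, hSC hk.1⟩ (mem_subgroupOf.2 hk))
  · refine Subgroup.mem_normalizer_iff_map_conj_eq.2 (eq_of_le_of_card_ge ?_ ?_)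
    · rintro _ ⟨u, hu, rfl⟩
      exact mem_subgroupOf.1 (hact ⟨u, hSC hu⟩ (mem_subgroupOf.2 hu)).1
    · rw [card_map_of_injective (MulAut.conj (q : G)).injective]
  · obtain ⟨h1, h2⟩ := hact ⟨w, hSC hw.1⟩ (mem_subgroupOf.2 hw.1)
    refine (mem_wPart (mul_mem (mul_mem q.2 (hSC hw.1)) (inv_mem q.2))).2 ⟨mem_subgroupOf.1 h1, ?_⟩
    show quo a (q * ⟨w, hSC hw.1⟩ * q⁻¹) ∈ Y
    rw [h2]
    exact mul_mem (mul_mem hyY ((mem_wPart _).1 hw).2) (inv_mem hyY)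
  · have hqv : ∀ z (hz : z ∈ W), quo a ⟨z, hSC hz.1⟩ ∈ Sb ⊓ Y ∧ (z ≠ 1 → quo a ⟨z, hSC hz.1⟩ ≠ 1) :=
      fun z hz => ⟨⟨mem_map_of_mem _ (mem_subgroupOf.2 hz.1), ((mem_wPart _).1 hz).2⟩,
        fun hz1 e => hz1 (eq_one_of_quo S hz.1 _ e)⟩
    obtain ⟨i, hi⟩ := hyt _ (hqv v hv).1 ((hqv v hv).2 hv1) _ (hqv w hw).1 ((hqv w hw).2 hw1)
    obtain ⟨h1, h2⟩ := hpow i ⟨v, hSC hv.1⟩ (mem_subgroupOf.2 hv.1)
    refine ⟨i, ?_⟩
    have := quo_inj S hS ha (mem_subgroupOf.1 h1) hw.1 (h2.trans hi)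
    simpa using this

end Cfsg.Lib.WalterBig
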