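import Cfsg.Agent.Lib.Goldschmidt.ProductPair
import Cfsg.Agent.Lib.WalterBig.Frame

/-!
# One signalizer completion for all separated pairs of four-groups of a block system

A four-group in a block and one in its complement are core separated; pairs sharing a point have the same
completion, so all these pairs have the same one.
-/

set_option autoImplicit false
set_option linter.unusedSectionVars false
set_option linter.style.haveILetI false

namespace Cfsg.Lib.WalterBig

open Subgroup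
open Cfsg.Lib.Sig.CoreSep (O C theta theta₁ img)
open Cfsg.Lib.Goldschmidt.Product (Four Wc ft theta_le_Wc Wc_comm Wc_map_conj_le coprime_four)
open scoped commutatorElement

universe u v

variable {G : Type u} [Group G] [Finite G]

/-- A core-separated pair generating a group of order at least eight. -/
structure SPair (A B : Subgroup G) : Prop where
  pair : Sig.CoreSep.Pair A B
  big : 2 ^ 3 ≤ Nat.card (A ⊔ B : Subgroup G)

namespace SPair

variable {A B : Subgroup G}

theorem symm (h : SPair A B) : SPair B A := ⟨h.pair.symm, by rw [sup_comm]; exact h.big⟩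

theorem setup (h : SPair A B) : Sig.SSFT.Setup 2 (A ⊔ B) (theta A B) := by
  haveI : Fact (Nat.Prime 2) := ⟨Nat.prime_two⟩
  refine ⟨⟨⟨⟨fun x y => Subtype.ext (h.pair.comm_mem x.2 y.2)⟩⟩, fun x hx => h.pair.sq hx⟩, h.big,
    Sig.CoreSep.isSignalizerFunctor ft h.pair, fun a ha _ => ?_⟩
  exact ft _ ((Sig.CoreSep.odd_O a).of_dvd_nat (card_dvd_of_le (inf_le_left.trans
    (Sig.CoreSep.theta₁_le_O ft ((le_sup_left.trans (h.pair.le_C ha)).trans
      (Sig.CoreSep.C_le_normalizer_O a))))))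

theorem odd_Wc (h : SPair A B) : Odd (Nat.card (Wc A B)) := by
  haveI : Fact (Nat.Prime 2) := ⟨Nat.prime_two⟩
  exact Nat.not_even_iff_odd.1 fun he => h.setup.closure_mem.2.1 (even_iff_two_dvd.1 he)

theorem Wc_le (h : SPair A B) {X : Subgroup G} (hX : ∀ x ∈ A, x ≠ 1 → theta A B x ≤ X) : Wc A B ≤ X := by
  haveI : Fact (Nat.Prime 2) := ⟨Nat.prime_two⟩
  refine le_trans (h.setup.closure_eq (E := A) le_sup_left (by rw [h.pair.cV]; norm_num)).ge ?_
  exact iSup_le fun x => hX x x.2.1 x.2.2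

theorem le_normalizer_O (h : SPair A B) {a : G} (ha : a ∈ A ⊔ B) : A ⊔ B ≤ normalizer (O a : Set G) :=
  (h.pair.le_C ha).trans (Sig.CoreSep.C_le_normalizer_O a)

theorem theta₁_self (h : SPair A B) {x : G} (hx : x ∈ A) : theta₁ A x = O x := by
  have hn : A ≤ normalizer (O x : Set G) := le_sup_left.trans (h.le_normalizer_O (mem_sup_left hx))
  refine le_antisymm (Sig.CoreSep.theta₁_le_O ft hn) ?_
  conv_lhs => rw [← Coprime.commutator_sup_centralizer_eq hn
    (coprime_four ⟨h.pair.hV, h.pair.cV⟩ (Sig.CoreSep.odd_O x)) (Or.inr (ft _ (Sig.CoreSep.odd_O x)))]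
  refine sup_le_sup le_rfl (le_inf inf_le_left (Sig.CoreSep.le_P inf_le_right ?_ ?_))
  · exact Sig.SSFT.inf_le_normalizer ((centralizer_le (Set.singleton_subset_iff.2 hx)).trans
      (Sig.CoreSep.C_le_normalizer_O x)) le_normalizer
  · exact (Sig.CoreSep.odd_O x).of_dvd_nat (card_dvd_of_le inf_le_left)

theorem theta_left (h : SPair A B) {x : G} (hx : x ∈ A) : theta A B x = theta₁ B x := by
  rw [theta, h.theta₁_self hx, inf_eq_right]
  exact Sig.CoreSep.theta₁_le_O ft (le_sup_right.trans (h.le_normalizer_O (mem_sup_left hx)))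

theorem theta_right (h : SPair A B) {z : G} (hz : z ∈ B) : theta A B z = theta₁ A z := by
  rw [theta, inf_comm]
  exact h.symm.theta_left hz

theorem link_le {V : Subgroup G} (h : SPair A B) (h' : SPair A V)
    {z : G} (hzB : z ∈ B) (hzV : z ∈ V) (hz1 : z ≠ 1) : Wc A V ≤ Wc A B := by
  haveI : Fact (Nat.Prime 2) := ⟨Nat.prime_two⟩
  refine h'.Wc_le fun x hx hx1 => ?_
  set D := theta A V x with hD
  have hDO : D ≤ O x := by
    rw [hD, h'.theta_left hx]
    exact Sig.CoreSep.theta₁_le_O ft (le_sup_right.trans (h'.le_normalizer_O (mem_sup_left hx)))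
  have hzn : zpowers z ≤ normalizer (D : Set G) :=
    zpowers_le.2 (h'.setup.le_normalizer_theta (mem_sup_left hx) hx1 (mem_sup_right hzV))
  have hz2 : z ^ 2 = 1 := h.pair.hW.2 z hzB
  have hodd : Odd (Nat.card D) := (Sig.CoreSep.odd_O x).of_dvd_nat (card_dvd_of_le hDO)
  have hcop : (Nat.card (zpowers z)).Coprime (Nat.card D) := by
    rw [Nat.card_zpowers, orderOf_eq_prime hz2 hz1]
    exact Nat.coprime_two_left.2 hodd
  rw [← Coprime.commutator_sup_centralizer_eq hzn hcop (Or.inr (ft _ hodd))]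
  refine sup_le ?_ ?_
  · refine le_trans ((commutator_mono hDO (zpowers_le.2 hzB)).trans ?_)
      (theta_le_Wc (mem_sup_left hx) hx1)
    rw [h.theta_left hx]
    exact le_sup_left
  · refine le_trans ?_ (theta_le_Wc (mem_sup_right hzB) hz1)
    rw [h.theta_right hzB, ← h'.theta_right hzV]
    refine le_trans (inf_le_inf_left _ (centralizer_le ?_))
      (h'.setup.balance (mem_sup_left hx) hx1 (mem_sup_right hzV) hz1)
    exact Set.singleton_subset_iff.2 (mem_zpowers z)

theorem link {V : Subgroup G} (h : SPair A B) (h' : SPair A V) {z : G} (hzB : z ∈ B) (hzV : z ∈ V) (hz1 : z ≠ 1) :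
    Wc A V = Wc A B :=
  le_antisymm (link_le h h' hzB hzV hz1) (link_le h' h hzV hzB hz1)

theorem link_left {U : Subgroup G} (h : SPair A B) (h' : SPair U B) {x : G} (hxA : x ∈ A) (hxU : x ∈ U)
    (hx1 : x ≠ 1) : Wc U B = Wc A B := by
  rw [Wc_comm U B, Wc_comm A B]
  exact link h.symm h'.symm hxA hxU hx1

theorem commutator_O_le (h : SPair A B) {x : G} (hx : x ∈ A) (hx1 : x ≠ 1) : ⁅O x, B⁆ ≤ Wc A B := by
  refine le_trans ?_ (theta_le_Wc (mem_sup_left hx) hx1)
  rw [h.theta_left hx]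
  exact le_sup_left

end SPair

namespace Frame

variable {S : Sylow 2 G} {ι : Type v} {W K : ι → Subgroup G} (h : Frame S W K)
include h

theorem S_comm {x y : G} (hx : x ∈ (S : Subgroup G)) (hy : y ∈ (S : Subgroup G)) : x * y = y * x := by
  haveI := h.elem.1
  exact setLike_mul_comm hx hy

theorem S_sq {x : G} (hx : x ∈ (S : Subgroup G)) : x ^ 2 = 1 := h.elem.2 x hx

theorem four_of_le {A : Subgroup G} (hA : A ≤ (S : Subgroup G)) (hc : Nat.card A = 4) : Four A :=
  ⟨⟨⟨⟨fun a b => Subtype.ext (h.S_comm (hA a.2) (hA b.2))⟩⟩, fun x hx => h.S_sq (hA hx)⟩, hc⟩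

theorem card_W_le_K (h3 : 2 ≤ Nat.card ι) (i : ι) : 4 ≤ Nat.card (K i) := by
  haveI : Finite ι := Nat.finite_of_card_ne_zero (by omega)
  haveI : Nontrivial ι := Finite.one_lt_card_iff_nontrivial (α := ι) |>.1 (by omega)
  obtain ⟨j, hj⟩ := exists_ne i
  exact (h.four j).trans (card_le_of_le (h.le_K i j hj.symm))

/-- Four-groups exist in subgroups of order at least four through any point. -/
theorem exists_four {X : Subgroup G} (hX : X ≤ (S : Subgroup G)) (h4 : 4 ≤ Nat.card X) {x : G} (hx : x ∈ X)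
    (hx1 : x ≠ 1) : ∃ A, A ≤ X ∧ Four A ∧ x ∈ A := by
  obtain ⟨y, hy, hyx⟩ : ∃ y ∈ X, y ∉ zpowers x := by
    by_contra hcon
    push_neg at hcon
    have h1 := card_le_of_le (show X ≤ zpowers x from hcon)
    rw [Nat.card_zpowers, orderOf_eq_prime (h.S_sq (hX hx)) hx1] at h1
    omega
  refine ⟨zpowers x ⊔ zpowers y, sup_le (zpowers_le.2 hx) (zpowers_le.2 hy), h.four_of_le
    ((sup_le (zpowers_le.2 hx) (zpowers_le.2 hy)).trans hX) ?_, mem_sup_left (mem_zpowers x)⟩
  have hy1 : y ≠ 1 := fun e => hyx (e ▸ one_mem _)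
  have hcard : ∀ z ∈ X, z ≠ 1 → Nat.card (zpowers z) = 2 := fun z hz hz1 => by
    rw [Nat.card_zpowers, orderOf_eq_prime (h.S_sq (hX hz)) hz1]
  have hnorm : zpowers y ≤ normalizer (zpowers x : Set G) := zpowers_le.2 (centralizer_le_normalizer _
    (mem_centralizer_iff.2 fun z hz => h.S_comm (hX ((zpowers_le.2 hx) hz)) (hX hy)))
  have hdisj : zpowers x ⊓ zpowers y = ⊥ := by
    rw [eq_bot_iff]
    intro z hz
    rw [mem_bot]
    by_contra hz1
    have hzy : y ∈ zpowers z := by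
      have hle : zpowers z ≤ zpowers y := zpowers_le.2 hz.2
      rw [eq_of_le_of_card_ge hle (by rw [hcard y hy hy1, hcard z (zpowers_le.2 hx hz.1) hz1])]
      exact mem_zpowers y
    exact hyx (zpowers_le.2 hz.1 hzy)
  have := (Nat.card_congr (Equiv.ofBijective
    (fun p : zpowers x × zpowers y => (⟨(p.1 : G) * p.2, by
      exact mul_mem (mem_sup_left p.1.2) (mem_sup_right p.2.2)⟩ : (zpowers x ⊔ zpowers y : Subgroup G))) ⟨?_, ?_⟩))
  · rw [← this, Nat.card_prod, hcard x hx hx1, hcard y hy hy1]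
  · intro p q e
    have e' : (p.1 : G) * p.2 = q.1 * q.2 := congrArg Subtype.val e
    exact mul_injective_of_disjoint (disjoint_iff.2 hdisj) e'
  · rintro ⟨z, hz⟩
    rw [← SetLike.mem_coe, coe_mul_of_right_le_normalizer_left _ _ hnorm] at hz
    obtain ⟨a, ha, b, hb, rfl⟩ := hz
    exact ⟨(⟨a, ha⟩, ⟨b, hb⟩), rfl⟩

/-- A four-group in a block and one in its complement. -/
theorem spair {i : ι} {A B : Subgroup G} (hA : A ≤ W i) (hB : B ≤ K i) (fA : Four A) (fB : Four B) :
    SPair A B := by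
  have hAS : A ≤ (S : Subgroup G) := hA.trans (h.W_le i)
  have hBS : B ≤ (S : Subgroup G) := hB.trans (h.K_le i)
  refine ⟨⟨fA.1, fB.1, fA.2, fB.2, fun x hx y hy => h.S_comm (hAS hx) (hBS hy), ?_⟩, ?_⟩
  · intro a ha ha1 Y hY
    obtain ⟨l, hl⟩ := h.sep a (sup_le hAS hBS ha) ha1 Y hY
    have key : ∀ R : Subgroup G, R ≤ K l → img a R ≤ centralizer (SetLike.coe Y) := fun R hR =>
      (map_mono (comap_mono hR)).trans hl
    rcases em (l = i) with rfl | hne
    · exact Or.inr (key B hB)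
    · exact Or.inl (key A (hA.trans (h.le_K l i hne)))
  · have hdisj : A ⊓ B = ⊥ := le_bot_iff.1 ((inf_le_inf hA hB).trans (h.disj i).le)
    refine le_trans (show 2 ^ 3 ≤ Nat.card A * Nat.card B by rw [fA.2, fB.2]; norm_num) ?_
    rw [← Nat.card_prod]
    exact Nat.card_le_card_of_injective
      (fun p : A × B => (⟨(p.1 : G) * p.2, mul_mem (mem_sup_left p.1.2) (mem_sup_right p.2.2)⟩ :
        (A ⊔ B : Subgroup G)))
      fun p q e => mul_injective_of_disjoint (disjoint_iff.2 hdisj) (congrArg Subtype.val e)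

theorem Wc_eq_of_pairs {A X B B' : Subgroup G} (hX : X ≤ (S : Subgroup G))
    (hp : ∀ V : Subgroup G, V ≤ X → Four V → SPair A V) (hB : B ≤ X) (hB' : B' ≤ X) (fB : Four B) (fB' : Four B') :
    Wc A B' = Wc A B := by
  obtain ⟨b, hb, hb1⟩ := B.bot_or_exists_ne_one.resolve_left
    (fun e => by have := fB.2; rw [e, card_bot] at this; omega)
  obtain ⟨b', hb', hb'1, hbb⟩ : ∃ b' ∈ B', b' ≠ 1 ∧ b' ≠ b := by
    by_contra hcon
    push_neg at hcon
    have h1 := card_le_of_le (show B' ≤ zpowers b from fun z hz => by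
      rcases eq_or_ne z 1 with rfl | hz1
      · exact one_mem _
      · rw [hcon z hz hz1]; exact mem_zpowers b)
    rw [fB'.2, Nat.card_zpowers, orderOf_eq_prime (fB.1.2 b hb) hb1] at h1
    omega
  obtain ⟨V, hV, fV, hbV⟩ := h.exists_four (X := zpowers b ⊔ zpowers b')
    (sup_le (zpowers_le.2 (hX (hB hb))) (zpowers_le.2 (hX (hB' hb')))) (by
      have hle := card_le_of_le (show zpowers b ≤ zpowers b ⊔ zpowers b' from le_sup_left)
      have hdvd := card_dvd_of_le (show zpowers b ≤ zpowers b ⊔ zpowers b' from le_sup_left)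
      rw [Nat.card_zpowers, orderOf_eq_prime (fB.1.2 b hb) hb1] at hle hdvd
      by_contra hlt
      have h2 : Nat.card (zpowers b ⊔ zpowers b' : Subgroup G) = 2 := by
        obtain ⟨t, ht⟩ := hdvd; omega
      have := eq_of_le_of_card_ge (show zpowers b ≤ zpowers b ⊔ zpowers b' from le_sup_left)
        (by rw [h2, Nat.card_zpowers, orderOf_eq_prime (fB.1.2 b hb) hb1])
      obtain ⟨k, hk⟩ := mem_zpowers_iff.1 (this ▸ mem_sup_right (mem_zpowers b') : b' ∈ zpowers b)
      rcases Int.even_or_odd k with ⟨j, rfl⟩ | ⟨j, rfl⟩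
      · exact hb'1 (by rw [← hk, ← two_mul, zpow_mul, zpow_two, ← pow_two, fB.1.2 b hb, one_zpow])
      · exact hbb (by rw [← hk, zpow_add, zpow_mul, zpow_two, ← pow_two, fB.1.2 b hb, one_zpow, one_mul,
          zpow_one]))
    (mem_sup_left (mem_zpowers b)) hb1
  have hVX : V ≤ X := hV.trans (sup_le (zpowers_le.2 (hB hb)) (zpowers_le.2 (hB' hb')))
  have hb'V : b' ∈ V := by
    have hX4 : Nat.card (zpowers b ⊔ zpowers b' : Subgroup G) ≤ 4 := by
      refine le_trans (Nat.card_le_card_of_surjective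
        (fun p : zpowers b × zpowers b' => (⟨(p.1 : G) * p.2, mul_mem (mem_sup_left p.1.2) (mem_sup_right p.2.2)⟩ :
          (zpowers b ⊔ zpowers b' : Subgroup G))) ?_) ?_
      · rintro ⟨z, hz⟩
        rw [← SetLike.mem_coe, coe_mul_of_right_le_normalizer_left _ _ (zpowers_le.2 (centralizer_le_normalizer _
          (mem_centralizer_iff.2 fun y hy => h.S_comm (hX (zpowers_le.2 (hB hb) hy)) (hX (hB' hb')))))]
          at hz
        obtain ⟨a, ha, c, hc, rfl⟩ := hz
        exact ⟨(⟨a, ha⟩, ⟨c, hc⟩), rfl⟩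
      · rw [Nat.card_prod, Nat.card_zpowers, Nat.card_zpowers, orderOf_eq_prime (fB.1.2 b hb) hb1,
          orderOf_eq_prime (fB'.1.2 b' hb') hb'1]
    rw [eq_of_le_of_card_ge hV (by rw [fV.2]; exact hX4)]
    exact mem_sup_right (mem_zpowers b')
  rw [(hp V hVX fV).link (hp B' hB' fB') hb'V hb' hb'1,
    (hp B hB fB).link (hp V hVX fV) hb hbV hb1]

theorem three_le : 3 ≤ Nat.card ι := h.three

theorem four_exists_in {X : Subgroup G} (hX : X ≤ (S : Subgroup G)) (h4 : 4 ≤ Nat.card X) :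
    ∃ A, A ≤ X ∧ Four A := by
  obtain ⟨x, hx, hx1⟩ := X.bot_or_exists_ne_one.resolve_left (fun e => by rw [e, card_bot] at h4; omega)
  obtain ⟨A, hA, fA, -⟩ := h.exists_four hX h4 hx hx1
  exact ⟨A, hA, fA⟩

/-- All separated pairs have the same completion. -/
theorem exists_completion : ∃ Q : Subgroup G, Odd (Nat.card Q) ∧
    ∀ i (A B : Subgroup G), A ≤ W i → B ≤ K i → Four A → Four B → Wc A B = Q := by
  haveI : Nonempty ι := (Nat.card_pos_iff.1 (by have := h.three; omega)).1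
  obtain ⟨i₀⟩ := ‹Nonempty ι›
  choose a ha fa using fun i => h.four_exists_in (h.W_le i) (h.four i)
  obtain ⟨b₀, hb₀, fb₀⟩ := h.four_exists_in (h.K_le i₀) (h.card_W_le_K (by have := h.three; omega) i₀)
  refine ⟨Wc (a i₀) b₀, (h.spair (ha i₀) hb₀ (fa i₀) fb₀).odd_Wc, ?_⟩
  have hbase : ∀ i (A B B' : Subgroup G), A ≤ W i → B ≤ K i → B' ≤ K i → Four A → Four B → Four B' →
      Wc A B' = Wc A B := fun i A B B' hA hB hB' fA fB fB' =>
    h.Wc_eq_of_pairs (h.K_le i) (fun V hV fV => h.spair hA hV fA fV) hB hB' fB fB'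
  intro i A B hA hB fA fB
  rcases em (i = i₀) with rfl | hne
  · rw [hbase i A b₀ B hA hb₀ hB fA fb₀ fB, Wc_comm A, Wc_comm (a i)]
    exact h.Wc_eq_of_pairs (h.W_le i) (fun V hV fV => (h.spair hV hb₀ fV fb₀).symm) (ha i) hA (fa i) fA
  · rw [hbase i A (a i₀) B hA ((ha i₀).trans (h.le_K i i₀ hne)) hB fA (fa i₀) fB, Wc_comm]
    exact hbase i₀ (a i₀) b₀ A (ha i₀) hb₀ (hA.trans (h.le_K i₀ i (Ne.symm hne))) (fa i₀) fb₀ fA

end Frame

end Cfsg.Lib.WalterBig
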